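import Cfsg.Agent.Lib.Helper3.CoxOrd.Elements

set_option autoImplicit false

/-! Centres of presented Coxeter groups with a faithful permutation model: descent along the chain of
parabolic subgroups. -/

namespace Cfsg.Agent.Lib.Helper3.TC

/-- covering of one level of the chain by cosets -/
theorem cover_K {Γ : Type*} [Group Γ] (C : Cert) (hC : C.check = true) (γ : ℕ → Γ) (m : ℕ)
    (hn : C.n = m + 1) (hγ : ∀ i < C.n, γ i * γ i = 1)
    (hrel : ∀ r ∈ C.rels, (γ r.1 * γ r.2.1) ^ r.2.2 = 1) {g : Γ} (hg : g ∈ K γ (m + 1)) :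
    ∃ j < C.k, ∃ h ∈ K γ m, g = h * rep C γ j := by
  have h0 : C.wd 0 = [] := by
    unfold Cert.check at hC
    simp only [Bool.and_eq_true, decide_eq_true_eq] at hC
    exact hC.1.1
  have hsub : ∀ i, i + 1 < C.n → γ i ∈ K γ m := fun i hi => mem_K γ (by omega)
  have hg' : g ∈ Subgroup.closure (γ '' Set.Iio C.n) := by rw [hn]; exact hg
  exact cover C γ (K γ m) h0 hγ hrel hsub hC hg'

theorem rels_of_relsOK {Γ : Type*} [Group Γ] (C : Cert) {ML : List (List ℕ)} (hR : C.relsOK ML = true)
    (γ : ℕ → Γ) {n : ℕ} (hn : C.n ≤ n)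
    (hrel : ∀ a b, a < n → b < n → (γ a * γ b) ^ (Cert.mat ML a b) = 1) :
    ∀ r ∈ C.rels, (γ r.1 * γ r.2.1) ^ r.2.2 = 1 := by
  intro r hr
  unfold Cert.relsOK at hR
  rw [List.all_eq_true] at hR
  have := hR r hr
  simp only [Bool.and_eq_true, Nat.blt_eq] at this
  obtain ⟨⟨h1, h2⟩, h3⟩ := this
  rw [← Nat.eq_of_beq_eq_true h3]
  exact hrel _ _ (by omega) (by omega)

theorem wv_inv_of_invol {Γ : Type*} [Group Γ] (γ : ℕ → Γ) {n : ℕ} (hγ : ∀ i < n, γ i * γ i = 1) :
    ∀ (w : List ℕ), (∀ a ∈ w, a < n) → (wv γ w)⁻¹ = wv γ w.reverse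
  | [], _ => by simp [wv]
  | a :: w, hw => by
    have hinv : (γ a)⁻¹ = γ a := inv_eq_of_mul_eq_one_right (hγ a (hw a List.mem_cons_self))
    rw [wv_cons, mul_inv_rev, wv_inv_of_invol γ hγ w (fun b hb => hw b (List.mem_cons_of_mem _ hb)),
      hinv, List.reverse_cons, wv_append, wv_singleton]

variable {n : ℕ} (M : CoxeterMatrix (Fin n))
  {ML : List (List ℕ)} (hM : ∀ a b : Fin n, M a b = Cert.mat ML a b)
  (X : Model) (hX : X.modelOK ML n = true)

/-- commuting with all generators -/
def IsCentral (g : M.Group) : Prop := ∀ i < n, g * gen M i = gen M i * g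

theorem isCentral_of_mem_center {g : M.Group} (hg : g ∈ Subgroup.center M.Group) : IsCentral M g :=
  fun i _ => ((Subgroup.mem_center_iff.mp hg) (gen M i)).symm

theorem mem_center_of_isCentral {g : M.Group} (hg : IsCentral M g) : g ∈ Subgroup.center M.Group := by
  rw [Subgroup.mem_center_iff]
  intro a
  have ha : a ∈ K (gen M) n := by rw [K_gen_top]; exact Subgroup.mem_top a
  have hle : K (gen M) n ≤ Subgroup.centralizer {g} := by
    unfold K
    rw [Subgroup.closure_le]
    rintro _ ⟨i, hi, rfl⟩
    rw [SetLike.mem_coe, Subgroup.mem_centralizer_iff]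
    intro y hy
    rw [Set.mem_singleton_iff.mp hy]
    exact hg i hi
  have := hle ha
  rw [Subgroup.mem_centralizer_iff] at this
  exact (this g rfl).symm

theorem isCentral_mul {g g' : M.Group} (hg : IsCentral M g) (hg' : IsCentral M g') :
    IsCentral M (g * g') := fun i hi => by
  rw [mul_assoc, hg' i hi, ← mul_assoc, hg i hi, mul_assoc]

theorem isCentral_inv {g : M.Group} (hg : IsCentral M g) : IsCentral M g⁻¹ := fun i hi => by
  have := hg i hi
  calc g⁻¹ * gen M i = g⁻¹ * (gen M i * g) * g⁻¹ := by group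
    _ = g⁻¹ * (g * gen M i) * g⁻¹ := by rw [this]
    _ = gen M i * g⁻¹ := by group

theorem central_actW {g : M.Group} (hg : IsCentral M g) :
    ∀ (w : List ℕ), (∀ a ∈ w, a < n) → ∀ x, hom M hM X hX g (X.actW w x) = X.actW w (hom M hM X hX g x)
  | [], _, _ => rfl
  | a :: w, hw, x => by
    have ha : a < n := hw a List.mem_cons_self
    show hom M hM X hX g (X.act a (X.actW w x)) = X.act a (X.actW w (hom M hM X hX g x))
    rw [← central_actW hg w (fun b hb => hw b (List.mem_cons_of_mem _ hb)) x,
      ← hom_gen_apply M hM X hX ha, ← hom_gen_apply M hM X hX ha, ← Equiv.Perm.mul_apply,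
      ← Equiv.Perm.mul_apply, ← map_mul, ← map_mul, hg a ha]

/-- the subgroup `K m` fixes a point fixed by its generators -/
theorem K_fix {m : ℕ} (hm : m ≤ n) {x : ℕ} (hfix : ∀ i < m, X.act i x = x) {a : M.Group}
    (ha : a ∈ K (gen M) m) : hom M hM X hX a x = x := by
  induction ha using Subgroup.closure_induction with
  | mem y hy =>
    obtain ⟨i, hi, rfl⟩ := hy
    rw [hom_gen_apply M hM X hX (lt_of_lt_of_le hi hm)]
    exact hfix i hi
  | one => rw [map_one]; rfl
  | mul y z _ _ hy hz => rw [map_mul, Equiv.Perm.mul_apply, hz, hy]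
  | inv y _ hy =>
    rw [map_inv, Equiv.Perm.inv_eq_iff_eq]; exact hy.symm

/-- the point of coset `j` -/
def Model.Y (X : Model) (C : Cert) (x j : ℕ) : ℕ := X.actW (C.wd j).reverse x

/-- check of one level of the descent; `xp` is an allowed second image of `x` -/
def Model.levelOK (X : Model) (n : ℕ) (C : Cert) (x xp : ℕ) (wit : List (List ℕ × ℕ)) : Bool :=
  ((List.range (C.n - 1)).all fun i => Nat.beq (X.act i x) x) &&
  (List.range C.k).all fun j =>
    (C.wd j).all (fun a => Nat.blt a C.n) &&
    (Nat.beq j 0 ||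
      (!(Nat.beq (X.Y C x j) x)) &&
      (Nat.beq (X.Y C x j) xp ||
        ((wit.getD j ([], 0)).1.all (fun a => Nat.blt a n) && Nat.blt (wit.getD j ([], 0)).2 n &&
          Nat.beq (X.act (wit.getD j ([], 0)).2 (X.actW (wit.getD j ([], 0)).1 x))
            (X.actW (wit.getD j ([], 0)).1 x) &&
          !(Nat.beq (X.act (wit.getD j ([], 0)).2 (X.actW (wit.getD j ([], 0)).1 (X.Y C x j)))
            (X.actW (wit.getD j ([], 0)).1 (X.Y C x j))))))

section level

variable (C : Cert) (hC : C.check = true) (hR : C.relsOK ML = true) (m : ℕ) (hn : C.n = m + 1)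
  (hmn : m + 1 ≤ n) (x xp : ℕ) (wit : List (List ℕ × ℕ)) (hL : X.levelOK n C x xp wit = true)
include hC hR hn hmn hL

/-- the image of `x` under an element of `K (m+1)` is the point of a coset -/
theorem image_eq_Y {g : M.Group} (hg : g ∈ K (gen M) (m + 1)) :
    ∃ j < C.k, hom M hM X hX g x = X.Y C x j ∧ (j = 0 → g ∈ K (gen M) m) := by
  unfold Model.levelOK at hL
  simp only [Bool.and_eq_true, List.all_eq_true, List.mem_range, Nat.blt_eq] at hL
  obtain ⟨hfix, hall⟩ := hL
  have hγ : ∀ i < C.n, gen M i * gen M i = 1 := fun i hi => gen_sq M (by omega)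
  have hrel := rels_of_relsOK C hR (gen M) (n := n) (by omega) (fun a b ha hb => gen_rel M hM ha hb)
  obtain ⟨j, hj, h, hh, hgh⟩ := cover_K C hC (gen M) m hn hγ hrel (Subgroup.inv_mem _ hg)
  have hg' : g = (rep C (gen M) j)⁻¹ * h⁻¹ := by
    rw [← mul_inv_rev, ← hgh, inv_inv]
  have hw : ∀ a ∈ C.wd j, a < n := fun a ha => by
    have := (hall j hj).1 a ha
    omega
  refine ⟨j, hj, ?_, ?_⟩
  · rw [hg', map_mul, Equiv.Perm.mul_apply,
      K_fix M hM X hX (by omega) (fun i hi => Nat.eq_of_beq_eq_true (hfix i (by omega)))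
        (Subgroup.inv_mem _ hh)]
    unfold rep
    rw [wv_inv_of_invol (gen M) (fun i hi => gen_sq M hi) _ hw,
      hom_wv_apply M hM X hX _ (fun a ha => hw a (List.mem_reverse.mp ha))]
    rfl
  · intro hj0
    have h0 : C.wd 0 = [] := by
      unfold Cert.check at hC
      simp only [Bool.and_eq_true, decide_eq_true_eq] at hC
      exact hC.1.1
    have : rep C (gen M) j = 1 := by unfold rep; rw [hj0, h0]; rfl
    rw [hg', this, inv_one, one_mul]
    exact Subgroup.inv_mem _ hh

/-- the stabiliser of `x` in `K (m+1)` is `K m` -/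
theorem stab_level {g : M.Group} (hg : g ∈ K (gen M) (m + 1)) (hgx : hom M hM X hX g x = x) :
    g ∈ K (gen M) m := by
  obtain ⟨j, hj, hY, h0⟩ := image_eq_Y M hM X hX C hC hR m hn hmn x xp wit hL hg
  unfold Model.levelOK at hL
  simp only [Bool.and_eq_true, List.all_eq_true, List.mem_range, Nat.blt_eq, Bool.or_eq_true,
    Bool.not_eq_true'] at hL
  rcases (hL.2 j hj).2 with hj0 | ⟨hne, _⟩
  · exact h0 (Nat.eq_of_beq_eq_true hj0)
  · exfalso
    rw [← hY, hgx] at hne
    simp at hne

/-- a central element of `K (m+1)` lies in `K m` or maps `x` to `xp` -/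
theorem central_level {g : M.Group} (hg : g ∈ K (gen M) (m + 1)) (hc : IsCentral M g) :
    g ∈ K (gen M) m ∨ hom M hM X hX g x = xp := by
  obtain ⟨j, hj, hY, h0⟩ := image_eq_Y M hM X hX C hC hR m hn hmn x xp wit hL hg
  unfold Model.levelOK at hL
  simp only [Bool.and_eq_true, List.all_eq_true, List.mem_range, Nat.blt_eq, Bool.or_eq_true,
    Bool.not_eq_true'] at hL
  rcases (hL.2 j hj).2 with hj0 | ⟨_, hxp | ⟨⟨⟨hw, hi⟩, hfixw⟩, hmove⟩⟩
  · exact Or.inl (h0 (Nat.eq_of_beq_eq_true hj0))
  · right
    rw [hY]; exact Nat.eq_of_beq_eq_true hxp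
  · exfalso
    set w := (wit.getD j ([], 0)).1
    set i := (wit.getD j ([], 0)).2
    have h1 : X.act i (X.actW w x) = X.actW w x := Nat.eq_of_beq_eq_true hfixw
    have h2 := central_actW M hM X hX hc w hw x
    have h3 := central_actW M hM X hX hc (i :: w)
      (fun a ha => by
        rcases List.mem_cons.mp ha with rfl | ha
        · exact hi
        · exact hw a ha) x
    have h4 : X.actW (i :: w) x = X.actW w x := h1
    have h5 : X.actW (i :: w) (hom M hM X hX g x) = X.act i (X.actW w (hom M hM X hX g x)) := rfl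
    rw [h4, h2, h5, hY] at h3
    rw [← h3] at hmove
    simp at hmove

end level

/-- check of the descent through several levels -/
def Model.descOK (X : Model) (n : ℕ) (ML : List (List ℕ)) :
    ℕ → List Cert → List (ℕ × List (List ℕ × ℕ)) → Bool
  | _, [], _ => true
  | m, C :: Cs, ds =>
    C.check && Nat.beq C.n (m + 1) && C.relsOK ML && Nat.ble (m + 1) n &&
      X.levelOK n C (ds.getD 0 (0, [])).1 (ds.getD 0 (0, [])).1 (ds.getD 0 (0, [])).2 &&
      descOK X n ML (m + 1) Cs ds.tail

include hM hX in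
theorem descent :
    ∀ (Cs : List Cert) (ds : List (ℕ × List (List ℕ × ℕ))) (m : ℕ),
      X.descOK n ML m Cs ds = true → ∀ g ∈ K (gen M) (m + Cs.length), IsCentral M g →
      g ∈ K (gen M) m
  | [], _, m, _, g, hg, _ => by simpa using hg
  | C :: Cs, ds, m, hok, g, hg, hc => by
    unfold Model.descOK at hok
    simp only [Bool.and_eq_true, Nat.ble_eq] at hok
    obtain ⟨⟨⟨⟨⟨hC, hn⟩, hR⟩, hmn⟩, hL⟩, hrest⟩ := hok
    have e : m + (C :: Cs).length = (m + 1) + Cs.length := by
      simp only [List.length_cons]; omega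
    rw [e] at hg
    have h1 := descent Cs ds.tail (m + 1) hrest g hg hc
    have hn' : C.n = m + 1 := Nat.eq_of_beq_eq_true hn
    rcases central_level M hM X hX C hC hR m hn' hmn _ _ _ hL h1 hc with h | h
    · exact h
    · exact stab_level M hM X hX C hC hR m hn' hmn _ _ _ hL h1 h

theorem K_one_mem (hn0 : 0 < n) {g : M.Group} (hg : g ∈ K (gen M) 1) : g = 1 ∨ g = gen M 0 := by
  have hsq := gen_sq M hn0
  induction hg using Subgroup.closure_induction with
  | mem y hy =>
    obtain ⟨a, ha, rfl⟩ := hy
    have : a = 0 := by simpa using ha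
    right; rw [this]
  | one => left; rfl
  | mul y z _ _ hy hz =>
    rcases hy with rfl | rfl <;> rcases hz with rfl | rfl
    · left; simp
    · right; simp
    · right; simp
    · left; exact hsq
  | inv y _ hy =>
    rcases hy with rfl | rfl
    · left; simp
    · right; exact inv_eq_of_mul_eq_one_right hsq

include hM hX in
/-- level one: `K 1 = {1, s₀}` and `s₀` is not central -/
theorem central_K_one (i x : ℕ) (hn0 : 0 < n) (hi : i < n)
    (hne : Nat.beq (X.act 0 (X.act i x)) (X.act i (X.act 0 x)) = false) {g : M.Group}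
    (hg : g ∈ K (gen M) 1) (hc : IsCentral M g) : g = 1 := by
  rcases K_one_mem M hn0 hg with h | h
  · exact h
  · exfalso
    have h1 := congrArg (fun t => hom M hM X hX t x) (hc i hi)
    simp only [map_mul, Equiv.Perm.mul_apply] at h1
    rw [h, hom_gen_apply M hM X hX hi, hom_gen_apply M hM X hX hn0, hom_gen_apply M hM X hX hn0,
      hom_gen_apply M hM X hX hi] at h1
    rw [h1] at hne
    simp at hne

include hM hX in
/-- trivial centre -/
theorem center_trivial (Cs : List Cert) (ds : List (ℕ × List (List ℕ × ℕ)))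
    (hlen : 1 + Cs.length = n) (hok : X.descOK n ML 1 Cs ds = true) (i x : ℕ) (hi : i < n)
    (hne : Nat.beq (X.act 0 (X.act i x)) (X.act i (X.act 0 x)) = false) :
    Subgroup.center M.Group = ⊥ := by
  rw [eq_bot_iff]
  intro z hz
  have hc := isCentral_of_mem_center M hz
  have hzK : z ∈ K (gen M) (1 + Cs.length) := by rw [hlen, K_gen_top]; exact Subgroup.mem_top z
  have h1 := descent M hM X hX Cs ds 1 hok z hzK hc
  rw [Subgroup.mem_bot]
  exact central_K_one M hM X hX i x (by omega) hi hne h1 hc

/-- check for the central involution `c ^ e` -/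
def Model.z0OK (X : Model) (n e xt xp : ℕ) : Bool :=
  !(Nat.beq xp xt) && Nat.beq (iter (X.actW (List.range n)) e xt) xp &&
  (List.range n).all fun i => X.allPts fun x =>
    Nat.beq (iter (X.actW (List.range n)) e (X.act i x)) (X.act i (iter (X.actW (List.range n)) e x))

/-- centre of order two, generated by a power of the Coxeter element -/
theorem center_two (hinj : Function.Injective (hom M hM X hX)) (Cs : List Cert)
    (ds : List (ℕ × List (List ℕ × ℕ))) (hlen : 1 + Cs.length + 1 = n)
    (hok : X.descOK n ML 1 Cs ds = true) (i x : ℕ) (hi : i < n)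
    (hne : Nat.beq (X.act 0 (X.act i x)) (X.act i (X.act 0 x)) = false)
    (C : Cert) (hC : C.check = true) (hR : C.relsOK ML = true) (hn : C.n = n) (xt xp : ℕ)
    (wit : List (List ℕ × ℕ)) (hL : X.levelOK n C xt xp wit = true) (e : ℕ)
    (hz : X.z0OK n e xt xp = true) :
    Nat.card (Subgroup.center M.Group) = 2 ∧
      Subgroup.center M.Group ≤ Subgroup.zpowers ((List.finRange n).map M.simple).prod := by
  rw [coxeter_word]
  set c := wv (gen M) (List.range n) with hcdef
  set φ := hom M hM X hX with hφ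
  set z0 := c ^ e with hz0
  unfold Model.z0OK at hz
  simp only [Bool.and_eq_true, Bool.not_eq_true', List.all_eq_true, List.mem_range] at hz
  obtain ⟨⟨hxne, hxp⟩, hcomm⟩ := hz
  have hφc : ∀ y, φ c y = X.actW (List.range n) y :=
    fun y => hom_wv_apply M hM X hX _ (fun a ha => List.mem_range.mp ha) y
  have hφz0 : ∀ y, φ z0 y = iter (X.actW (List.range n)) e y := by
    intro y
    rw [hz0, map_pow]
    exact pow_apply_eq_iter (φ c) _ hφc e y
  have hz0c : IsCentral M z0 := by
    intro a ha
    apply hinj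
    ext y
    rw [map_mul, map_mul, Equiv.Perm.mul_apply, Equiv.Perm.mul_apply, hφz0, hφz0,
      hom_gen_apply M hM X hX ha, hom_gen_apply M hM X hX ha]
    exact X.eq_of_allPts (f := fun y => iter (X.actW (List.range n)) e (X.act a y))
      (g := fun y => X.act a (iter (X.actW (List.range n)) e y))
      (fun y hy => by
        show iter (X.actW (List.range n)) e (X.act a y) = y
        rw [X.act_ge a hy]; exact iter_fix _ (X.actW_ge _ hy) _)
      (fun y hy => by
        show X.act a (iter (X.actW (List.range n)) e y) = y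
        rw [iter_fix _ (X.actW_ge _ hy) _, X.act_ge a hy]) (hcomm a ha) y
  have hz0x : φ z0 xt = xp := by rw [hφz0]; exact Nat.eq_of_beq_eq_true hxp
  have hz0ne : z0 ≠ 1 := by
    intro h1
    rw [h1, map_one] at hz0x
    have : xt = xp := hz0x
    rw [this] at hxne
    simp at hxne
  have hn' : C.n = (1 + Cs.length) + 1 := by omega
  have key : ∀ z ∈ Subgroup.center M.Group, z = 1 ∨ z = z0 := by
    intro z hzc
    have hc := isCentral_of_mem_center M hzc
    have hzK : z ∈ K (gen M) ((1 + Cs.length) + 1) := by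
      rw [hlen, K_gen_top]; exact Subgroup.mem_top z
    have fin1 : ∀ g, g ∈ K (gen M) (1 + Cs.length) → IsCentral M g → g = 1 := by
      intro g hg hgc
      exact central_K_one M hM X hX i x (by omega) hi hne (descent M hM X hX Cs ds 1 hok g hg hgc) hgc
    rcases central_level M hM X hX C hC hR (1 + Cs.length) hn' (by omega) xt xp wit hL hzK hc with h | h
    · left; exact fin1 z h hc
    · right
      have hg'c : IsCentral M (z0⁻¹ * z) := isCentral_mul M (isCentral_inv M hz0c) hc
      have hg'K : z0⁻¹ * z ∈ K (gen M) ((1 + Cs.length) + 1) := by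
        rw [hlen, K_gen_top]; exact Subgroup.mem_top _
      have hg'x : φ (z0⁻¹ * z) xt = xt := by
        rw [map_mul, Equiv.Perm.mul_apply, h, map_inv, Equiv.Perm.inv_eq_iff_eq]
        exact hz0x.symm
      have := fin1 _ (stab_level M hM X hX C hC hR (1 + Cs.length) hn' (by omega) xt xp wit hL hg'K hg'x)
        hg'c
      rw [inv_mul_eq_one] at this
      exact this.symm
  have hz0mem : z0 ∈ Subgroup.center M.Group := mem_center_of_isCentral M hz0c
  constructor
  · have hset : ((Subgroup.center M.Group : Subgroup M.Group) : Set M.Group) = {1, z0} := by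
      ext z
      constructor
      · intro hz
        rcases key z hz with h | h
        · left; exact h
        · right; exact h
      · rintro (h | h)
        · rw [h]; exact Subgroup.one_mem _
        · rw [Set.mem_singleton_iff.mp h]; exact hz0mem
    have h1 : Nat.card (Subgroup.center M.Group) =
        ((Subgroup.center M.Group : Subgroup M.Group) : Set M.Group).ncard := rfl
    rw [h1, hset]
    exact Set.ncard_pair (Ne.symm hz0ne)
  · intro z hz
    rcases key z hz with h | h
    · rw [h]; exact Subgroup.one_mem _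
    · rw [h, hz0]
      exact Subgroup.pow_mem _ (Subgroup.mem_zpowers c) e

end Cfsg.Agent.Lib.Helper3.TC
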