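import Cfsg.Agent.Lib.Helper3.CoxOrd.Perm

set_option autoImplicit false

/-! Orders of presented Coxeter groups from Todd–Coxeter certificates and a permutation model. -/

namespace Cfsg.Agent.Lib.Helper3.TC

variable {n : ℕ} (M : CoxeterMatrix (Fin n))

/-- generators indexed by `ℕ` -/
def gen (a : ℕ) : M.Group := if h : a < n then M.simple ⟨a, h⟩ else 1

theorem gen_eq {a : ℕ} (h : a < n) : gen M a = M.simple ⟨a, h⟩ := dif_pos h

theorem gen_rel {ML : List (List ℕ)} (hM : ∀ a b : Fin n, M a b = Cert.mat ML a b) {a b : ℕ}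
    (ha : a < n) (hb : b < n) : (gen M a * gen M b) ^ (Cert.mat ML a b) = 1 := by
  rw [gen_eq M ha, gen_eq M hb, ← hM ⟨a, ha⟩ ⟨b, hb⟩]
  exact M.toCoxeterSystem.simple_mul_simple_pow _ _

theorem gen_sq {a : ℕ} (ha : a < n) : gen M a * gen M a = 1 := by
  rw [gen_eq M ha]
  exact M.toCoxeterSystem.simple_mul_simple_self _

theorem K_gen_top : K (gen M) n = ⊤ := by
  rw [← M.toCoxeterSystem.subgroup_closure_range_simple]
  unfold K
  congr 1
  ext g
  constructor
  · rintro ⟨a, ha, rfl⟩
    exact ⟨⟨a, ha⟩, (gen_eq M ha).symm⟩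
  · rintro ⟨i, rfl⟩
    exact ⟨i.1, i.2, gen_eq M i.2⟩

variable {ML : List (List ℕ)} (hM : ∀ a b : Fin n, M a b = Cert.mat ML a b)
  (X : Model) (hX : X.modelOK ML n = true)

/-- the homomorphism to the permutation model -/
noncomputable def hom : M.Group →* Equiv.Perm ℕ :=
  M.toCoxeterSystem.lift ⟨fun i => X.P i, fun i i' => by
    rw [hM]; exact X.P_rel hX i.2 i'.2⟩

theorem hom_gen {a : ℕ} (ha : a < n) : hom M hM X hX (gen M a) = X.P a := by
  rw [gen_eq M ha]
  exact M.toCoxeterSystem.lift_apply_simple _ _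

theorem hom_gen_apply {a : ℕ} (ha : a < n) (x : ℕ) : hom M hM X hX (gen M a) x = X.act a x := by
  rw [hom_gen M hM X hX ha, X.P_apply hX ha]

/-- the action of a word -/
def Model.actW (X : Model) (w : List ℕ) (x : ℕ) : ℕ := w.foldr (fun i y => X.act i y) x

theorem hom_wv_apply (w : List ℕ) (hw : ∀ a ∈ w, a < n) (x : ℕ) :
    hom M hM X hX (wv (gen M) w) x = X.actW w x := by
  induction w with
  | nil => simp [wv, Model.actW]
  | cons a w ih =>
    rw [wv_cons, map_mul, Equiv.Perm.mul_apply, ih (fun b hb => hw b (List.mem_cons_of_mem _ hb)),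
      hom_gen_apply M hM X hX (hw a List.mem_cons_self)]
    rfl

/-- the order of the Coxeter group and faithfulness of the model -/
theorem main (Cs : List Cert) (hlen : Cs.length = n) (hok : chainOK ML 0 Cs = true)
    (orbs : List (List (ℕ × ℕ × ℕ))) (hlen' : orbs.length = n) (hlow : X.lowOK 0 orbs = true)
    (N : ℕ) (hN1 : (Cs.map Cert.k).prod = N) (hN2 : (orbs.map List.length).prod = N) :
    Finite M.Group ∧ Nat.card M.Group = N ∧ Function.Injective (hom M hM X hX) := by
  have hup := chain_bound ML (gen M) Cs hok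
    (fun a b ha hb => gen_rel M hM (hlen ▸ ha) (hlen ▸ hb)) (fun a ha => gen_sq M (hlen ▸ ha))
  rw [hlen, K_gen_top, hN1] at hup
  obtain ⟨hfinT, hcard⟩ := hup
  rw [Subgroup.card_top] at hcard
  have hfin : Finite M.Group := by
    have : Finite (⊤ : Subgroup M.Group) := hfinT
    exact Finite.of_injective (fun g : M.Group => (⟨g, Subgroup.mem_top g⟩ : (⊤ : Subgroup M.Group)))
      (fun a b h => congrArg Subtype.val h)
  set φ := hom M hM X hX with hφ
  set Q : ℕ → Equiv.Perm ℕ := fun a => φ (gen M a) with hQ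
  have hKQ : ∀ m, K Q m = (K (gen M) m).map φ := by
    intro m
    unfold K
    rw [MonoidHom.map_closure, Set.image_image]
  have hfinQ : Finite (K Q (0 + orbs.length)) := by
    rw [hKQ]
    exact Finite.of_surjective (fun g : K (gen M) (0 + orbs.length) =>
      (⟨φ g, Subgroup.mem_map_of_mem φ g.2⟩ : (K (gen M) (0 + orbs.length)).map φ))
      (by rintro ⟨_, g, hg, rfl⟩; exact ⟨⟨g, hg⟩, rfl⟩)
  have hlo := X.lower_chain Q orbs 0 hlow
    (fun i hi x => hom_gen_apply M hM X hX (by omega) x) hfinQ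
  rw [(card_K_zero Q).2, mul_one, hN2, zero_add, hlen', hKQ, K_gen_top, ← MonoidHom.range_eq_map] at hlo
  have hsurj : Function.Surjective φ.rangeRestrict := φ.rangeRestrict_surjective
  have hle : Nat.card φ.range ≤ Nat.card M.Group := Nat.card_le_card_of_surjective _ hsurj
  have hN : Nat.card M.Group = N := le_antisymm hcard (hlo.trans hle)
  refine ⟨hfin, hN, ?_⟩
  have hbij := hsurj.bijective_of_nat_card_le (by rw [hN]; exact hlo)
  intro a b hab
  exact hbij.1 (Subtype.ext hab)

end Cfsg.Agent.Lib.Helper3.TC
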