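import Cfsg.Agent.Lib.Helper3.CoxOrd.TC

set_option autoImplicit false

/-! Todd–Coxeter certificates, type B2 (generated) -/

namespace Cfsg.Agent.Lib.Helper3.TC

/-- Coxeter matrix -/
def mlB2 : List (List ℕ) := [[1, 4], [4, 1]]

set_option maxRecDepth 100000 in
/-- certificate -/
def cB2_1 : Cert where
  n := 1
  k := 2
  word := [[], [0]]
  tau := [[1], [0]]
  rnk := [[0], [0]]
  jst := [[(0, 0, 0, 0)], [(1, 0, 0, 0)]]
  rels := []

set_option maxRecDepth 100000 in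
/-- certificate -/
def cB2_2 : Cert where
  n := 2
  k := 4
  word := [[], [1], [1, 0], [1, 0, 1]]
  tau := [[0, 1], [2, 0], [1, 3], [3, 2]]
  rnk := [[0, 0], [0, 0], [0, 0], [1, 0]]
  jst := [[(2, 0, 0, 0), (0, 0, 0, 0)], [(0, 0, 0, 0), (1, 0, 0, 0)], [(1, 0, 0, 0), (0, 0, 0, 0)], [(3, 0, 3, 0), (1, 0, 0, 0)]]
  rels := [(0, 1, 4), (1, 0, 4)]

/-- the chain -/
def chainB2_2 : List Cert := [cB2_1, cB2_2]

set_option maxRecDepth 100000 in
theorem chainB2_2_ok : chainOK mlB2 0 chainB2_2 = true := by decide +kernel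

end Cfsg.Agent.Lib.Helper3.TC
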