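import Cfsg.Agent.Lib.Helper3.CoxOrd.Perm
import Cfsg.Agent.Lib.Helper3.CoxOrd.CertB2

set_option autoImplicit false

/-! Permutation model, type B2 (generated) -/

namespace Cfsg.Agent.Lib.Helper3.TC

set_option maxRecDepth 100000 in
/-- the model -/
def xB2 : Model where
  k := 4
  T := [[0, 2, 1, 3], [1, 0, 3, 2]]

set_option maxRecDepth 100000 in
theorem xB2_ok_2 : xB2.modelOK mlB2 2 = true := by decide +kernel

set_option maxRecDepth 100000 in
/-- orbit certificates -/
def orbsB2_2 : List (List (ℕ × ℕ × ℕ)) := [[(1, 0, 0), (2, 0, 0)], [(0, 0, 0), (1, 0, 1), (2, 1, 0), (3, 2, 1)]]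

set_option maxRecDepth 100000 in
theorem orbsB2_2_ok : xB2.lowOK 0 orbsB2_2 = true := by decide +kernel

end Cfsg.Agent.Lib.Helper3.TC
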