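import Cfsg.Agent.Lib.Helper3.CoxOrd.TC

set_option autoImplicit false

/-! Todd–Coxeter certificates, type D4 (generated) -/

namespace Cfsg.Agent.Lib.Helper3.TC

/-- Coxeter matrix -/
def mlD4 : List (List ℕ) := [[1, 3, 2, 2], [3, 1, 3, 3], [2, 3, 1, 2], [2, 3, 2, 1]]

set_option maxRecDepth 100000 in
/-- certificate -/
def cD4_1 : Cert where
  n := 1
  k := 2
  word := [[], [0]]
  tau := [[1], [0]]
  rnk := [[0], [0]]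
  jst := [[(0, 0, 0, 0)], [(1, 0, 0, 0)]]
  rels := []

set_option maxRecDepth 100000 in
/-- certificate -/
def cD4_2 : Cert where
  n := 2
  k := 3
  word := [[], [1], [1, 0]]
  tau := [[0, 1], [2, 0], [1, 2]]
  rnk := [[0, 0], [0, 0], [0, 1]]
  jst := [[(2, 0, 0, 0), (0, 0, 0, 0)], [(0, 0, 0, 0), (1, 0, 0, 0)], [(1, 0, 0, 0), (3, 0, 1, 1)]]
  rels := [(0, 1, 3), (1, 0, 3)]

set_option maxRecDepth 100000 in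
/-- certificate -/
def cD4_3 : Cert where
  n := 3
  k := 4
  word := [[], [2], [2, 1], [2, 1, 0]]
  tau := [[0, 0, 1], [1, 2, 0], [3, 1, 2], [2, 3, 3]]
  rnk := [[0, 0, 0], [1, 0, 0], [0, 0, 1], [0, 2, 2]]
  jst := [[(2, 0, 0, 0), (2, 0, 0, 0), (0, 0, 0, 0)], [(3, 1, 1, 0), (0, 0, 0, 0), (1, 0, 0, 0)], [(0, 0, 0, 0), (1, 0, 0, 0), (3, 3, 1, 1)], [(1, 0, 0, 0), (3, 0, 2, 1), (3, 1, 2, 1)]]
  rels := [(0, 1, 3), (0, 2, 2), (1, 0, 3), (1, 2, 3), (2, 0, 2), (2, 1, 3)]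

set_option maxRecDepth 100000 in
/-- certificate -/
def cD4_4 : Cert where
  n := 4
  k := 8
  word := [[], [3], [3, 1], [3, 1, 0], [3, 1, 2], [3, 1, 0, 2], [3, 1, 0, 2, 1], [3, 1, 0, 2, 1, 3]]
  tau := [[0, 0, 0, 1], [1, 2, 1, 0], [3, 1, 4, 2], [2, 3, 5, 3], [5, 4, 2, 4], [4, 6, 3, 5], [6, 5, 6, 7], [7, 7, 7, 6]]
  rnk := [[0, 0, 0, 0], [1, 0, 1, 0], [0, 0, 0, 1], [0, 2, 0, 2], [1, 2, 0, 2], [1, 0, 0, 3], [3, 0, 3, 0], [4, 4, 4, 0]]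
  jst := [[(2, 0, 0, 0), (2, 0, 0, 0), (2, 0, 0, 0), (0, 0, 0, 0)], [(3, 2, 1, 0), (0, 0, 0, 0), (3, 8, 1, 0), (1, 0, 0, 0)], [(0, 0, 0, 0), (1, 0, 0, 0), (0, 0, 0, 0), (3, 5, 1, 1)], [(1, 0, 0, 0), (3, 0, 2, 1), (0, 0, 0, 0), (3, 2, 2, 1)], [(3, 1, 4, 0), (3, 4, 4, 0), (1, 0, 0, 0), (3, 8, 2, 1)], [(3, 1, 5, 0), (0, 0, 0, 0), (1, 0, 0, 0), (3, 2, 4, 1)], [(3, 0, 6, 0), (1, 0, 0, 0), (3, 4, 5, 1), (0, 0, 0, 0)], [(3, 2, 7, 0), (3, 5, 7, 0), (3, 8, 7, 0), (1, 0, 0, 0)]]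
  rels := [(0, 1, 3), (0, 2, 2), (0, 3, 2), (1, 0, 3), (1, 2, 3), (1, 3, 3), (2, 0, 2), (2, 1, 3), (2, 3, 2), (3, 0, 2), (3, 1, 3), (3, 2, 2)]

/-- the chain -/
def chainD4_4 : List Cert := [cD4_1, cD4_2, cD4_3, cD4_4]

set_option maxRecDepth 100000 in
theorem chainD4_4_ok : chainOK mlD4 0 chainD4_4 = true := by decide +kernel

end Cfsg.Agent.Lib.Helper3.TC
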