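import Cfsg.Agent.Lib.Helper3.CoxOrd.Perm
import Cfsg.Agent.Lib.Helper3.CoxOrd.CertD4

set_option autoImplicit false

/-! Permutation model, type D4 (generated) -/

namespace Cfsg.Agent.Lib.Helper3.TC

set_option maxRecDepth 100000 in
/-- the model -/
def xD4 : Model where
  k := 16
  T := [[0, 1, 3, 2, 5, 4, 6, 7, 8, 9, 11, 10, 13, 12, 14, 15], [0, 2, 1, 3, 4, 6, 5, 7, 8, 10, 9, 11, 12, 14, 13, 15], [0, 1, 4, 5, 2, 3, 6, 7, 9, 8, 10, 11, 12, 13, 15, 14], [1, 0, 2, 3, 4, 5, 7, 6, 8, 9, 12, 13, 10, 11, 14, 15]]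

set_option maxRecDepth 100000 in
theorem xD4_ok_4 : xD4.modelOK mlD4 4 = true := by decide +kernel

set_option maxRecDepth 100000 in
/-- orbit certificates -/
def orbsD4_4 : List (List (ℕ × ℕ × ℕ)) := [[(2, 0, 0), (3, 0, 0)], [(1, 0, 0), (2, 0, 1), (3, 1, 0)], [(8, 0, 0), (9, 0, 2), (10, 1, 1), (11, 2, 0)], [(0, 0, 0), (1, 0, 3), (2, 1, 1), (3, 2, 0), (4, 2, 2), (5, 3, 2), (6, 5, 1), (7, 6, 3)]]

set_option maxRecDepth 100000 in
theorem orbsD4_4_ok : xD4.lowOK 0 orbsD4_4 = true := by decide +kernel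

end Cfsg.Agent.Lib.Helper3.TC
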