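import Cfsg.Agent.Lib.Helper3.CoxOrd.TC

set_option autoImplicit false

/-! Todd–Coxeter certificates, type F4 (generated) -/

namespace Cfsg.Agent.Lib.Helper3.TC

/-- Coxeter matrix -/
def mlF4 : List (List ℕ) := [[1, 3, 2, 2], [3, 1, 4, 2], [2, 4, 1, 3], [2, 2, 3, 1]]

set_option maxRecDepth 100000 in
/-- certificate -/
def cF4_1 : Cert where
  n := 1
  k := 2
  word := [[], [0]]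
  tau := [[1], [0]]
  rnk := [[0], [0]]
  jst := [[(0, 0, 0, 0)], [(1, 0, 0, 0)]]
  rels := []

set_option maxRecDepth 100000 in
/-- certificate -/
def cF4_2 : Cert where
  n := 2
  k := 3
  word := [[], [1], [1, 0]]
  tau := [[0, 1], [2, 0], [1, 2]]
  rnk := [[0, 0], [0, 0], [0, 1]]
  jst := [[(2, 0, 0, 0), (0, 0, 0, 0)], [(0, 0, 0, 0), (1, 0, 0, 0)], [(1, 0, 0, 0), (3, 0, 1, 1)]]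
  rels := [(0, 1, 3), (1, 0, 3)]

set_option maxRecDepth 100000 in
/-- certificate -/
def cF4_3 : Cert where
  n := 3
  k := 8
  word := [[], [2], [2, 1], [2, 1, 0], [2, 1, 2], [2, 1, 0, 2], [2, 1, 0, 2, 1], [2, 1, 0, 2, 1, 2]]
  tau := [[0, 0, 1], [1, 2, 0], [3, 1, 4], [2, 3, 5], [5, 4, 2], [4, 6, 3], [6, 5, 7], [7, 7, 6]]
  rnk := [[0, 0, 0], [1, 0, 0], [0, 0, 0], [0, 2, 0], [1, 1, 0], [1, 0, 0], [2, 0, 0], [3, 3, 0]]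
  jst := [[(2, 0, 0, 0), (2, 0, 0, 0), (0, 0, 0, 0)], [(3, 1, 1, 0), (0, 0, 0, 0), (1, 0, 0, 0)], [(0, 0, 0, 0), (1, 0, 0, 0), (0, 0, 0, 0)], [(1, 0, 0, 0), (3, 0, 2, 1), (0, 0, 0, 0)], [(3, 1, 4, 0), (3, 3, 4, 0), (1, 0, 0, 0)], [(3, 1, 5, 0), (0, 0, 0, 0), (1, 0, 0, 0)], [(3, 0, 6, 0), (1, 0, 0, 0), (0, 0, 0, 0)], [(3, 1, 7, 0), (3, 3, 7, 0), (1, 0, 0, 0)]]
  rels := [(0, 1, 3), (0, 2, 2), (1, 0, 3), (1, 2, 4), (2, 0, 2), (2, 1, 4)]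

set_option maxRecDepth 100000 in
/-- certificate -/
def cF4_4 : Cert where
  n := 4
  k := 24
  word := [[], [3], [3, 2], [3, 2, 1], [3, 2, 1, 0], [3, 2, 1, 2], [3, 2, 1, 0, 2], [3, 2, 1, 2, 3], [3, 2, 1, 0, 2, 1], [3, 2, 1, 0, 2, 3], [3, 2, 1, 0, 2, 1, 2], [3, 2, 1, 0, 2, 1, 3], [3, 2, 1, 0, 2, 1, 2, 3], [3, 2, 1, 0, 2, 1, 3, 2], [3, 2, 1, 0, 2, 1, 2, 3, 2], [3, 2, 1, 0, 2, 1, 3, 2, 1], [3, 2, 1, 0, 2, 1, 2, 3, 2, 1], [3, 2, 1, 0, 2, 1, 3, 2, 1, 0], [3, 2, 1, 0, 2, 1, 2, 3, 2, 1, 0], [3, 2, 1, 0, 2, 1, 2, 3, 2, 1, 2], [3, 2, 1, 0, 2, 1, 2, 3, 2, 1, 0, 2], [3, 2, 1, 0, 2, 1, 2, 3, 2, 1, 0, 2, 1], [3, 2, 1, 0, 2, 1, 2, 3, 2, 1, 0, 2, 1, 2], [3, 2, 1, 0, 2, 1, 2, 3, 2, 1, 0, 2, 1, 2, 3]]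
  tau := [[0, 0, 0, 1], [1, 1, 2, 0], [2, 3, 1, 2], [4, 2, 5, 3], [3, 4, 6, 4], [6, 5, 3, 7], [5, 8, 4, 9], [9, 7, 7, 5], [8, 6, 10, 11], [7, 11, 9, 6], [10, 10, 8, 12], [11, 9, 13, 8], [12, 12, 14, 10], [13, 15, 11, 14], [14, 16, 12, 13], [17, 13, 15, 16], [18, 14, 19, 15], [15, 17, 17, 18], [16, 18, 20, 17], [20, 19, 16, 19], [19, 21, 18, 20], [21, 20, 22, 21], [22, 22, 21, 23], [23, 23, 23, 22]]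
  rnk := [[0, 0, 0, 0], [1, 1, 0, 0], [2, 0, 0, 1], [0, 0, 0, 2], [0, 3, 0, 3], [1, 2, 0, 0], [1, 0, 0, 0], [2, 3, 3, 0], [3, 0, 0, 0], [2, 1, 4, 0], [4, 4, 0, 0], [4, 1, 0, 0], [5, 5, 0, 0], [5, 0, 0, 1], [6, 0, 0, 1], [0, 0, 5, 2], [0, 0, 0, 2], [0, 6, 6, 3], [0, 7, 0, 3], [1, 6, 0, 6], [1, 0, 0, 7], [7, 0, 0, 8], [8, 8, 0, 0], [9, 9, 9, 0]]
  jst := [[(2, 0, 0, 0), (2, 0, 0, 0), (2, 0, 0, 0), (0, 0, 0, 0)], [(3, 2, 1, 0), (3, 5, 1, 0), (0, 0, 0, 0), (1, 0, 0, 0)], [(3, 1, 2, 0), (0, 0, 0, 0), (1, 0, 0, 0), (3, 8, 1, 1)], [(0, 0, 0, 0), (1, 0, 0, 0), (0, 0, 0, 0), (3, 5, 2, 1)], [(1, 0, 0, 0), (3, 0, 3, 1), (0, 0, 0, 0), (3, 2, 3, 1)], [(3, 1, 5, 0), (3, 4, 5, 0), (1, 0, 0, 0), (0, 0, 0, 0)], [(3, 1, 6, 0), (0, 0, 0, 0), (1, 0, 0, 0), (0, 0, 0, 0)], [(3,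 2, 7, 0), (3, 5, 7, 0), (3, 8, 7, 0), (1, 0, 0, 0)], [(3, 0, 8, 0), (1, 0, 0, 0), (0, 0, 0, 0), (0, 0, 0, 0)], [(3, 2, 9, 0), (3, 5, 9, 0), (3, 1, 7, 1), (1, 0, 0, 0)], [(3, 1, 10, 0), (3, 4, 10, 0), (1, 0, 0, 0), (0, 0, 0, 0)], [(3, 0, 11, 0), (3, 5, 11, 0), (0, 0, 0, 0), (1, 0, 0, 0)], [(3, 2, 12, 0), (3, 5, 12, 0), (0, 0, 0, 0), (1, 0, 0, 0)], [(3, 1, 13, 0), (0, 0, 0, 0), (1, 0, 0, 0), (3, 8, 11, 1)], [(3, 1, 14, 0), (0, 0, 0, 0), (1, 0, 0, 0), (3, 8, 12, 1)], [(0, 0, 0, 0), (1, 0, 0, 0), (3, 4, 13, 1), (3, 5, 13, 1)], [(0, 0, 0, 0), (1, 0, 0, 0), (0, 0, 0, 0), (3, 5, 14, 1)], [(1, 0, 0, 0), (3, 0, 15, 1), (3, 1, 15, 1), (3, 2, 15, 1)], [(1, 0, 0, 0), (3, 0, 16, 1), (0, 0, 0, 0), (3, 2, 16, 1)], [(3, 1, 19, 0), (3, 4, 19, 0), (1, 0, 0, 0), (3, 8, 16,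 1)], [(3, 1, 20, 0), (0, 0, 0, 0), (1, 0, 0, 0), (3, 2, 19, 1)], [(3, 0, 21, 0), (1, 0, 0, 0), (0, 0, 0, 0), (3, 5, 20, 1)], [(3, 1, 22, 0), (3, 4, 22, 0), (1, 0, 0, 0), (0, 0, 0, 0)], [(3, 2, 23, 0), (3, 5, 23, 0), (3, 8, 23, 0), (1, 0, 0, 0)]]
  rels := [(0, 1, 3), (0, 2, 2), (0, 3, 2), (1, 0, 3), (1, 2, 4), (1, 3, 2), (2, 0, 2), (2, 1, 4), (2, 3, 3), (3, 0, 2), (3, 1, 2), (3, 2, 3)]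

/-- the chain -/
def chainF4_4 : List Cert := [cF4_1, cF4_2, cF4_3, cF4_4]

set_option maxRecDepth 100000 in
theorem chainF4_4_ok : chainOK mlF4 0 chainF4_4 = true := by decide +kernel

end Cfsg.Agent.Lib.Helper3.TC
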