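import Cfsg.Agent.Lib.Helper3.CoxOrd.Perm
import Cfsg.Agent.Lib.Helper3.CoxOrd.CertF4

set_option autoImplicit false

/-! Permutation model, type F4 (generated) -/

namespace Cfsg.Agent.Lib.Helper3.TC

set_option maxRecDepth 100000 in
/-- the model -/
def xF4 : Model where
  k := 24
  T := [[0, 1, 2, 4, 3, 6, 5, 9, 8, 7, 10, 11, 12, 13, 14, 17, 18, 15, 16, 20, 19, 21, 22, 23], [0, 1, 3, 2, 4, 5, 8, 7, 6, 11, 10, 9, 12, 15, 16, 13, 14, 17, 18, 19, 21, 20, 22, 23], [0, 2, 1, 5, 6, 3, 4, 7, 10, 9, 8, 13, 14, 11, 12, 15, 19, 17, 20, 16, 18, 22, 21, 23], [1, 0, 2, 3, 4, 7, 9, 5, 11, 6, 12, 8, 10, 14, 13, 16, 15, 18, 17, 19, 20, 21, 23, 22]]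

set_option maxRecDepth 100000 in
theorem xF4_ok_4 : xF4.modelOK mlF4 4 = true := by decide +kernel

set_option maxRecDepth 100000 in
/-- orbit certificates -/
def orbsF4_4 : List (List (ℕ × ℕ × ℕ)) := [[(3, 0, 0), (4, 0, 0)], [(2, 0, 0), (3, 0, 1), (4, 1, 0)], [(1, 0, 0), (2, 0, 2), (3, 1, 1), (4, 2, 0), (5, 2, 2), (6, 3, 2), (8, 5, 1), (10, 6, 2)], [(0, 0, 0), (1, 0, 3), (2, 1, 2), (3, 2, 1), (4, 3, 0), (5, 3, 2), (6, 4, 2), (7, 5, 3), (8, 6, 1), (9, 6, 3), (10, 8, 2), (11, 8, 3), (12, 10, 3), (13, 11, 2), (14, 12, 2), (15, 13, 1), (16, 14, 1), (17, 15, 0), (18, 16, 0), (19, 16, 2), (20, 18, 2), (21, 20, 1), (22, 21, 2), (23, 22, 3)]]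

set_option maxRecDepth 100000 in
theorem orbsF4_4_ok : xF4.lowOK 0 orbsF4_4 = true := by decide +kernel

end Cfsg.Agent.Lib.Helper3.TC
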