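import Cfsg.Agent.Lib.Helper3.CoxOrd.Perm
import Cfsg.Agent.Lib.Helper3.CoxOrd.CertG2

set_option autoImplicit false

/-! Permutation model, type G2 (generated) -/

namespace Cfsg.Agent.Lib.Helper3.TC

set_option maxRecDepth 100000 in
/-- the model -/
def xG2 : Model where
  k := 6
  T := [[0, 2, 1, 4, 3, 5], [1, 0, 3, 2, 5, 4]]

set_option maxRecDepth 100000 in
theorem xG2_ok_2 : xG2.modelOK mlG2 2 = true := by decide +kernel

set_option maxRecDepth 100000 in
/-- orbit certificates -/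
def orbsG2_2 : List (List (ℕ × ℕ × ℕ)) := [[(1, 0, 0), (2, 0, 0)], [(0, 0, 0), (1, 0, 1), (2, 1, 0), (3, 2, 1), (4, 3, 0), (5, 4, 1)]]

set_option maxRecDepth 100000 in
theorem orbsG2_2_ok : xG2.lowOK 0 orbsG2_2 = true := by decide +kernel

end Cfsg.Agent.Lib.Helper3.TC
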