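import Cfsg.Agent.Lib.Helper3.CoxOrd.ModelE8
import Cfsg.Agent.Lib.Helper3.CoxOrd.ModelF4
import Cfsg.Agent.Lib.Helper3.CoxOrd.ModelD4
import Cfsg.Agent.Lib.Helper3.CoxOrd.ModelB2
import Cfsg.Agent.Lib.Helper3.CoxOrd.ModelG2
import Cfsg.Agent.Lib.Helper3.CoxOrd.Main
import Cfsg.Prelude.Def_ChevStructure

set_option autoImplicit false

/-! Orders of the presented Coxeter groups of types B₂, G₂, D₄, F₄, E₆, E₇, E₈, with faithful
permutation models. -/

namespace Cfsg.Agent.Lib.Helper3.TC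

theorem mat_E8 : ∀ a b : Fin 8, CoxeterMatrix.E₈ a b = Cert.mat mlE8 a b := by
  intro a b; fin_cases a <;> fin_cases b <;> rfl
theorem mat_E7 : ∀ a b : Fin 7, CoxeterMatrix.E₇ a b = Cert.mat mlE8 a b := by
  intro a b; fin_cases a <;> fin_cases b <;> rfl
theorem mat_E6 : ∀ a b : Fin 6, CoxeterMatrix.E₆ a b = Cert.mat mlE8 a b := by
  intro a b; fin_cases a <;> fin_cases b <;> rfl
theorem mat_F4 : ∀ a b : Fin 4, CoxeterMatrix.F₄ a b = Cert.mat mlF4 a b := by
  intro a b; fin_cases a <;> fin_cases b <;> rfl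
theorem mat_D4 : ∀ a b : Fin 4, Cfsg.Lie.coxeterD4 a b = Cert.mat mlD4 a b := by
  intro a b; fin_cases a <;> fin_cases b <;> rfl
theorem mat_G2 : ∀ a b : Fin 2, CoxeterMatrix.G₂ a b = Cert.mat mlG2 a b := by
  intro a b; fin_cases a <;> fin_cases b <;> rfl
theorem mat_B2 : ∀ a b : Fin 2, CoxeterMatrix.B 2 a b = Cert.mat mlB2 a b := by
  intro a b; fin_cases a <;> fin_cases b <;> rfl

theorem xE8_ok_7 : xE8.modelOK mlE8 7 = true := xE8.modelOK_mono xE8_ok_8 (by norm_num)
theorem xE8_ok_6 : xE8.modelOK mlE8 6 = true := xE8.modelOK_mono xE8_ok_8 (by norm_num)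

/-- the homomorphism to the model, `E₈` -/
noncomputable abbrev homE8 := hom CoxeterMatrix.E₈ mat_E8 xE8 xE8_ok_8
/-- the homomorphism to the model, `E₇` -/
noncomputable abbrev homE7 := hom CoxeterMatrix.E₇ mat_E7 xE8 xE8_ok_7
/-- the homomorphism to the model, `E₆` -/
noncomputable abbrev homE6 := hom CoxeterMatrix.E₆ mat_E6 xE8 xE8_ok_6
/-- the homomorphism to the model, `F₄` -/
noncomputable abbrev homF4 := hom CoxeterMatrix.F₄ mat_F4 xF4 xF4_ok_4
/-- the homomorphism to the model, `D₄` -/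
noncomputable abbrev homD4 := hom Cfsg.Lie.coxeterD4 mat_D4 xD4 xD4_ok_4
/-- the homomorphism to the model, `G₂` -/
noncomputable abbrev homG2 := hom CoxeterMatrix.G₂ mat_G2 xG2 xG2_ok_2
/-- the homomorphism to the model, `B₂` -/
noncomputable abbrev homB2 := hom (CoxeterMatrix.B 2) mat_B2 xB2 xB2_ok_2

set_option maxRecDepth 100000 in
theorem main_E8 : Finite CoxeterMatrix.E₈.Group ∧ Nat.card CoxeterMatrix.E₈.Group = 696729600 ∧
    Function.Injective homE8 :=
  main CoxeterMatrix.E₈ mat_E8 xE8 xE8_ok_8 chainE8_8 (by decide +kernel) chainE8_8_ok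
    orbsE8_8 (by decide +kernel) orbsE8_8_ok 696729600 (by decide +kernel) (by decide +kernel)

set_option maxRecDepth 100000 in
theorem main_E7 : Finite CoxeterMatrix.E₇.Group ∧ Nat.card CoxeterMatrix.E₇.Group = 2903040 ∧
    Function.Injective homE7 :=
  main CoxeterMatrix.E₇ mat_E7 xE8 xE8_ok_7 (chainE8_8.take 7) (by decide +kernel)
    (chainOK_take _ _ _ _ chainE8_8_ok)
    (orbsE8_8.take 7) (by decide +kernel) (xE8.lowOK_take _ _ _ orbsE8_8_ok) 2903040
    (by decide +kernel) (by decide +kernel)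

set_option maxRecDepth 100000 in
theorem main_E6 : Finite CoxeterMatrix.E₆.Group ∧ Nat.card CoxeterMatrix.E₆.Group = 51840 ∧
    Function.Injective homE6 :=
  main CoxeterMatrix.E₆ mat_E6 xE8 xE8_ok_6 (chainE8_8.take 6) (by decide +kernel)
    (chainOK_take _ _ _ _ chainE8_8_ok)
    (orbsE8_8.take 6) (by decide +kernel) (xE8.lowOK_take _ _ _ orbsE8_8_ok) 51840
    (by decide +kernel) (by decide +kernel)

set_option maxRecDepth 100000 in
theorem main_F4 : Finite CoxeterMatrix.F₄.Group ∧ Nat.card CoxeterMatrix.F₄.Group = 1152 ∧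
    Function.Injective homF4 :=
  main CoxeterMatrix.F₄ mat_F4 xF4 xF4_ok_4 chainF4_4 (by decide +kernel) chainF4_4_ok
    orbsF4_4 (by decide +kernel) orbsF4_4_ok 1152 (by decide +kernel) (by decide +kernel)

set_option maxRecDepth 100000 in
theorem main_D4 : Finite Cfsg.Lie.coxeterD4.Group ∧ Nat.card Cfsg.Lie.coxeterD4.Group = 192 ∧
    Function.Injective homD4 :=
  main Cfsg.Lie.coxeterD4 mat_D4 xD4 xD4_ok_4 chainD4_4 (by decide +kernel) chainD4_4_ok
    orbsD4_4 (by decide +kernel) orbsD4_4_ok 192 (by decide +kernel) (by decide +kernel)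

set_option maxRecDepth 100000 in
theorem main_G2 : Finite CoxeterMatrix.G₂.Group ∧ Nat.card CoxeterMatrix.G₂.Group = 12 ∧
    Function.Injective homG2 :=
  main CoxeterMatrix.G₂ mat_G2 xG2 xG2_ok_2 chainG2_2 (by decide +kernel) chainG2_2_ok
    orbsG2_2 (by decide +kernel) orbsG2_2_ok 12 (by decide +kernel) (by decide +kernel)

set_option maxRecDepth 100000 in
theorem main_B2 : Finite (CoxeterMatrix.B 2).Group ∧ Nat.card (CoxeterMatrix.B 2).Group = 8 ∧
    Function.Injective homB2 :=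
  main (CoxeterMatrix.B 2) mat_B2 xB2 xB2_ok_2 chainB2_2 (by decide +kernel) chainB2_2_ok
    orbsB2_2 (by decide +kernel) orbsB2_2_ok 8 (by decide +kernel) (by decide +kernel)

end Cfsg.Agent.Lib.Helper3.TC
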