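import Cfsg.Agent.Lib.Helper3.CoxOrd.Center
import Cfsg.Agent.Lib.Helper3.CoxOrd.Orders

set_option autoImplicit false

/-! Data for the centres (generated) -/

namespace Cfsg.Agent.Lib.Helper3.TC

set_option maxRecDepth 100000 in
/-- descent data -/
def cdsB2 : List (ℕ × List (List ℕ × ℕ)) := []

/-- descent certificates -/
def ccsB2 : List Cert := []

/-- level one witness -/
def cw1B2 : ℕ × ℕ := (1, 0)

set_option maxRecDepth 100000 in
/-- top level data -/
def ctopB2 : ℕ × ℕ × List (List ℕ × ℕ) := (0, 3, [([], 0), ([], 0), ([], 0), ([], 0)])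

set_option maxRecDepth 100000 in
/-- descent data -/
def cdsG2 : List (ℕ × List (List ℕ × ℕ)) := []

/-- descent certificates -/
def ccsG2 : List Cert := []

/-- level one witness -/
def cw1G2 : ℕ × ℕ := (1, 0)

set_option maxRecDepth 100000 in
/-- top level data -/
def ctopG2 : ℕ × ℕ × List (List ℕ × ℕ) := (0, 5, [([], 0), ([], 0), ([], 0), ([], 0), ([], 0), ([], 0)])

set_option maxRecDepth 100000 in
/-- descent data -/
def cdsD4 : List (ℕ × List (List ℕ × ℕ)) := [(1, [([], 0), ([], 0), ([], 0)]), (8, [([], 0), ([], 1), ([], 0), ([], 0)])]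

/-- descent certificates -/
def ccsD4 : List Cert := [cD4_2, cD4_3]

/-- level one witness -/
def cw1D4 : ℕ × ℕ := (1, 1)

set_option maxRecDepth 100000 in
/-- top level data -/
def ctopD4 : ℕ × ℕ × List (List ℕ × ℕ) := (0, 7, [([], 0), ([], 1), ([], 0), ([], 0), ([], 0), ([], 0), ([], 1), ([], 0)])

set_option maxRecDepth 100000 in
/-- descent data -/
def cdsF4 : List (ℕ × List (List ℕ × ℕ)) := [(2, [([], 0), ([], 0), ([], 0)]), (1, [([], 0), ([], 1), ([], 0), ([], 0), ([], 0), ([], 0), ([], 1), ([2], 3)])]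

/-- descent certificates -/
def ccsF4 : List Cert := [cF4_2, cF4_3]

/-- level one witness -/
def cw1F4 : ℕ × ℕ := (1, 2)

set_option maxRecDepth 100000 in
/-- top level data -/
def ctopF4 : ℕ × ℕ × List (List ℕ × ℕ) := (0, 23, [([], 0), ([], 2), ([], 1), ([], 0), ([], 0), ([], 0), ([], 0), ([], 0), ([], 1), ([], 0), ([], 2), ([], 1), ([], 2), ([], 1), ([], 1), ([], 0), ([], 0), ([], 0), ([], 0), ([], 0), ([], 0), ([], 1), ([], 2), ([], 0)])

set_option maxRecDepth 100000 in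
/-- descent data -/
def cdsE6 : List (ℕ × List (List ℕ × ℕ)) := [(6, [([], 0), ([], 3)]), (14, [([], 0), ([], 0), ([], 0)]), (4, [([], 0), ([], 1), ([], 1), ([], 0), ([], 0), ([], 0), ([], 0), ([], 0), ([], 0), ([], 2)]), (3, [([], 0), ([], 3), ([], 1), ([], 1), ([], 0), ([], 0), ([], 0), ([], 0), ([], 0), ([], 0), ([], 0), ([], 2), ([], 0), ([], 2), ([], 1), ([], 1)]), (2, [([], 0), ([], 4), ([], 3), ([], 1), ([], 1), ([], 0), ([], 0), ([], 0), ([], 0), ([], 0), ([], 0), ([], 0), ([], 2), ([], 0), ([], 0), ([], 2), ([], 0), ([], 1), ([], 2), ([], 1), ([], 1), ([], 1), ([], 1), ([], 1), ([], 2), ([], 0), ([], 0)])]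

/-- descent certificates -/
def ccsE6 : List Cert := [cE8_2, cE8_3, cE8_4, cE8_5, cE8_6]

/-- level one witness -/
def cw1E6 : ℕ × ℕ := (2, 5)

set_option maxRecDepth 100000 in
/-- descent data -/
def cdsE7 : List (ℕ × List (List ℕ × ℕ)) := [(6, [([], 0), ([], 3)]), (14, [([], 0), ([], 0), ([], 0)]), (4, [([], 0), ([], 1), ([], 1), ([], 0), ([], 0), ([], 0), ([], 0), ([], 0), ([], 0), ([], 2)]), (3, [([], 0), ([], 3), ([], 1), ([], 1), ([], 0), ([], 0), ([], 0), ([], 0), ([], 0), ([], 0), ([], 0), ([], 2), ([], 0), ([], 2), ([], 1), ([], 1)]), (2, [([], 0), ([], 4), ([], 3), ([], 1), ([], 1), ([], 0), ([], 0), ([], 0), ([], 0), ([], 0), ([], 0), ([], 0), ([], 2), ([], 0), ([], 0), ([], 2), ([], 0), ([], 1), ([], 2), ([], 1), ([], 1), ([], 1), ([], 1), ([], 1), ([], 2), ([], 0), ([], 0)])]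

/-- descent certificates -/
def ccsE7 : List Cert := [cE8_2, cE8_3, cE8_4, cE8_5, cE8_6]

/-- level one witness -/
def cw1E7 : ℕ × ℕ := (2, 5)

set_option maxRecDepth 100000 in
/-- top level data -/
def ctopE7 : ℕ × ℕ × List (List ℕ × ℕ) := (1, 112, [([], 0), ([], 5), ([], 4), ([], 3), ([], 1), ([], 1), ([], 0), ([], 0), ([], 0), ([], 0), ([], 0), ([], 0), ([], 0), ([], 2), ([], 0), ([], 0), ([], 2), ([], 0), ([], 0), ([], 1), ([], 2), ([], 0), ([], 1), ([], 1), ([], 2), ([], 1), ([], 1), ([], 1), ([], 1), ([], 1), ([], 1), ([], 2), ([], 1), ([], 1), ([], 0), ([], 2), ([], 1), ([], 0), ([], 0), ([], 2), ([], 0), ([], 0), ([], 2), ([], 0), ([], 0), ([], 0), ([], 0), ([], 0), ([], 0), ([], 0), ([], 1), ([], 1), ([], 3), ([], 4), ([], 5), ([], 0)])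

set_option maxRecDepth 100000 in
/-- descent data -/
def cdsE8 : List (ℕ × List (List ℕ × ℕ)) := [(6, [([], 0), ([], 3)]), (14, [([], 0), ([], 0), ([], 0)]), (4, [([], 0), ([], 1), ([], 1), ([], 0), ([], 0), ([], 0), ([], 0), ([], 0), ([], 0), ([], 2)]), (3, [([], 0), ([], 3), ([], 1), ([], 1), ([], 0), ([], 0), ([], 0), ([], 0), ([], 0), ([], 0), ([], 0), ([], 2), ([], 0), ([], 2), ([], 1), ([], 1)]), (2, [([], 0), ([], 4), ([], 3), ([], 1), ([], 1), ([], 0), ([], 0), ([], 0), ([], 0), ([], 0), ([], 0), ([], 0), ([], 2), ([], 0), ([], 0), ([], 2), ([], 0), ([], 1), ([], 2), ([], 1), ([], 1), ([], 1), ([], 1), ([], 1), ([], 2), ([], 0), ([], 0)]), (1, [([], 0), ([], 5), ([], 4), ([], 3), ([], 1), ([], 1), ([], 0), ([], 0), ([], 0), ([], 0), ([], 0), ([], 0), ([], 0), ([], 2), ([], 0), ([], 0), ([], 2), ([], 0), ([], 0), ([], 1), ([], 2), ([], 0), ([], 1), ([], 1), ([], 2), ([], 1), ([], 1), ([], 1), ([], 1), ([], 1),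 ([], 1), ([], 2), ([], 1), ([], 1), ([], 0), ([], 2), ([], 1), ([], 0), ([], 0), ([], 2), ([], 0), ([], 0), ([], 2), ([], 0), ([], 0), ([], 0), ([], 0), ([], 0), ([], 0), ([], 0), ([], 1), ([], 1), ([], 3), ([], 4), ([], 5), ([6], 7)])]

/-- descent certificates -/
def ccsE8 : List Cert := [cE8_2, cE8_3, cE8_4, cE8_5, cE8_6, cE8_7]

/-- level one witness -/
def cw1E8 : ℕ × ℕ := (2, 5)

set_option maxRecDepth 100000 in
/-- top level data -/
def ctopE8 : ℕ × ℕ × List (List ℕ × ℕ) := (0, 239, [([], 0), ([], 6), ([], 5), ([], 4), ([], 3), ([], 1), ([], 1), ([], 0), ([], 0), ([], 0), ([], 0), ([], 0), ([], 0), ([], 0), ([], 2), ([], 0), ([], 0), ([], 2), ([], 0), ([], 0), ([], 1), ([], 2), ([], 0), ([], 0), ([], 1), ([], 1), ([], 2), ([], 0), ([], 1), ([], 1), ([], 1), ([], 2), ([], 1), ([], 1), ([], 1), ([], 1), ([], 2), ([], 1), ([], 1), ([], 1), ([], 1), ([], 0), ([], 2), ([], 1), ([], 1), ([], 1), ([], 0), ([], 0), ([],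 2), ([], 2), ([], 1), ([], 1), ([], 0), ([], 0), ([], 0), ([], 2), ([], 2), ([], 1), ([], 0), ([], 0), ([], 0), ([], 0), ([], 2), ([], 2), ([], 0), ([], 0), ([], 0), ([], 0), ([], 0), ([], 2), ([], 0), ([], 0), ([], 0), ([], 0), ([], 0), ([], 0), ([], 2), ([], 0), ([], 1), ([], 0), ([], 0), ([], 0), ([], 0), ([], 0), ([], 1), ([], 0), ([], 1), ([], 0), ([], 0), ([], 0), ([], 0), ([], 3), ([], 1), ([], 0), ([], 1), ([], 0), ([], 0), ([], 0), ([], 4), ([], 3), ([], 1), ([], 0), ([], 1), ([], 0), ([], 0), ([], 5), ([], 4), ([], 3), ([], 1), ([], 0), ([], 1), ([], 0), ([], 6), ([], 5), ([], 4), ([], 3), ([], 1), ([], 0), ([], 1), ([], 0), ([], 6), ([], 5), ([], 4), ([], 3), ([], 1), ([], 0), ([], 1), ([], 0), ([], 5), ([], 4), ([], 3), ([], 1), ([], 1), ([], 0), ([], 0), ([], 4), ([], 3), ([], 1), ([], 1), ([], 0), ([], 0), ([], 0), ([], 3), ([], 1), ([], 1), ([], 0), ([], 0), ([], 0), ([], 0), ([], 1), ([], 1), ([], 0), ([],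 0), ([], 0), ([], 0), ([], 0), ([], 1), ([], 0), ([], 0), ([], 0), ([], 0), ([], 0), ([], 0), ([], 0), ([], 0), ([], 0), ([], 0), ([], 0), ([], 0), ([], 2), ([], 0), ([], 0), ([], 0), ([], 0), ([], 2), ([], 0), ([], 0), ([], 0), ([], 2), ([], 0), ([], 0), ([], 2), ([], 2), ([], 0), ([], 0), ([], 2), ([], 0), ([], 1), ([], 2), ([], 0), ([], 0), ([], 1), ([], 2), ([], 1), ([], 1), ([], 2), ([], 0), ([], 1), ([], 1), ([], 1), ([], 1), ([], 2), ([], 1), ([], 1), ([], 1), ([], 1), ([], 1), ([], 1), ([], 1), ([], 1), ([], 1), ([], 2), ([], 2), ([], 1), ([], 1), ([], 0), ([], 0), ([], 2), ([], 1), ([], 0), ([], 0), ([], 0), ([], 2), ([], 0), ([], 0), ([], 2), ([], 0), ([], 0), ([], 0), ([], 0), ([], 0), ([], 0), ([], 0), ([], 1), ([], 1), ([], 3), ([], 4), ([], 5), ([], 6), ([], 0)])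

end Cfsg.Agent.Lib.Helper3.TC
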