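import Cfsg.Agent.Lib.Helper3.CoxOrd.CenterData

set_option autoImplicit false

/-! Centres of the Coxeter groups of types B₂, G₂, D₄, F₄, E₆, E₇, E₈. -/

namespace Cfsg.Agent.Lib.Helper3.TC

set_option maxRecDepth 100000 in
theorem center_B2 : Nat.card (Subgroup.center (CoxeterMatrix.B 2).Group) = 2 ∧
    Subgroup.center (CoxeterMatrix.B 2).Group ≤
      Subgroup.zpowers ((List.finRange 2).map (CoxeterMatrix.B 2).simple).prod :=
  center_two (CoxeterMatrix.B 2) mat_B2 xB2 xB2_ok_2 main_B2.2.2 ccsB2 cdsB2 (by decide)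
    (by decide +kernel) cw1B2.1 cw1B2.2 (by decide) (by decide +kernel)
    cB2_2 (by decide +kernel) (by decide +kernel) (by decide +kernel) ctopB2.1 ctopB2.2.1
    ctopB2.2.2 (by decide +kernel) 2 (by decide +kernel)

set_option maxRecDepth 100000 in
theorem center_G2 : Nat.card (Subgroup.center CoxeterMatrix.G₂.Group) = 2 ∧
    Subgroup.center CoxeterMatrix.G₂.Group ≤
      Subgroup.zpowers ((List.finRange 2).map CoxeterMatrix.G₂.simple).prod :=
  center_two CoxeterMatrix.G₂ mat_G2 xG2 xG2_ok_2 main_G2.2.2 ccsG2 cdsG2 (by decide)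
    (by decide +kernel) cw1G2.1 cw1G2.2 (by decide) (by decide +kernel)
    cG2_2 (by decide +kernel) (by decide +kernel) (by decide +kernel) ctopG2.1 ctopG2.2.1
    ctopG2.2.2 (by decide +kernel) 3 (by decide +kernel)

set_option maxRecDepth 100000 in
theorem center_D4 : Nat.card (Subgroup.center Cfsg.Lie.coxeterD4.Group) = 2 ∧
    Subgroup.center Cfsg.Lie.coxeterD4.Group ≤
      Subgroup.zpowers ((List.finRange 4).map Cfsg.Lie.coxeterD4.simple).prod :=
  center_two Cfsg.Lie.coxeterD4 mat_D4 xD4 xD4_ok_4 main_D4.2.2 ccsD4 cdsD4 (by decide)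
    (by decide +kernel) cw1D4.1 cw1D4.2 (by decide) (by decide +kernel)
    cD4_4 (by decide +kernel) (by decide +kernel) (by decide +kernel) ctopD4.1 ctopD4.2.1
    ctopD4.2.2 (by decide +kernel) 3 (by decide +kernel)

set_option maxRecDepth 100000 in
theorem center_F4 : Nat.card (Subgroup.center CoxeterMatrix.F₄.Group) = 2 ∧
    Subgroup.center CoxeterMatrix.F₄.Group ≤
      Subgroup.zpowers ((List.finRange 4).map CoxeterMatrix.F₄.simple).prod :=
  center_two CoxeterMatrix.F₄ mat_F4 xF4 xF4_ok_4 main_F4.2.2 ccsF4 cdsF4 (by decide)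
    (by decide +kernel) cw1F4.1 cw1F4.2 (by decide) (by decide +kernel)
    cF4_4 (by decide +kernel) (by decide +kernel) (by decide +kernel) ctopF4.1 ctopF4.2.1
    ctopF4.2.2 (by decide +kernel) 6 (by decide +kernel)

set_option maxRecDepth 100000 in
theorem center_E6 : Subgroup.center CoxeterMatrix.E₆.Group = ⊥ :=
  center_trivial CoxeterMatrix.E₆ mat_E6 xE8 xE8_ok_6 ccsE6 cdsE6 (by decide)
    (by decide +kernel) cw1E6.1 cw1E6.2 (by decide) (by decide +kernel)

set_option maxRecDepth 100000 in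
theorem center_E7 : Nat.card (Subgroup.center CoxeterMatrix.E₇.Group) = 2 ∧
    Subgroup.center CoxeterMatrix.E₇.Group ≤
      Subgroup.zpowers ((List.finRange 7).map CoxeterMatrix.E₇.simple).prod :=
  center_two CoxeterMatrix.E₇ mat_E7 xE8 xE8_ok_7 main_E7.2.2 ccsE7 cdsE7 (by decide)
    (by decide +kernel) cw1E7.1 cw1E7.2 (by decide) (by decide +kernel)
    cE8_7 (by decide +kernel) (by decide +kernel) (by decide +kernel) ctopE7.1 ctopE7.2.1
    ctopE7.2.2 (by decide +kernel) 9 (by decide +kernel)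

set_option maxRecDepth 100000 in
theorem center_E8 : Nat.card (Subgroup.center CoxeterMatrix.E₈.Group) = 2 ∧
    Subgroup.center CoxeterMatrix.E₈.Group ≤
      Subgroup.zpowers ((List.finRange 8).map CoxeterMatrix.E₈.simple).prod :=
  center_two CoxeterMatrix.E₈ mat_E8 xE8 xE8_ok_8 main_E8.2.2 ccsE8 cdsE8 (by decide)
    (by decide +kernel) cw1E8.1 cw1E8.2 (by decide) (by decide +kernel)
    cE8_8 (by decide +kernel) (by decide +kernel) (by decide +kernel) ctopE8.1 ctopE8.2.1
    ctopE8.2.2 (by decide +kernel) 15 (by decide +kernel)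

end Cfsg.Agent.Lib.Helper3.TC
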