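import Cfsg.Agent.Lib.Helper3.CoxOrd.TC

set_option autoImplicit false

/-! Todd–Coxeter certificates, type E8 (generated) -/

namespace Cfsg.Agent.Lib.Helper3.TC

/-- Coxeter matrix -/
def mlE8 : List (List ℕ) := [[1, 2, 3, 2, 2, 2, 2, 2], [2, 1, 2, 3, 2, 2, 2, 2], [3, 2, 1, 3, 2, 2, 2, 2], [2, 3, 3, 1, 3, 2, 2, 2], [2, 2, 2, 3, 1, 3, 2, 2], [2, 2, 2, 2, 3, 1, 3, 2], [2, 2, 2, 2, 2, 3, 1, 3], [2, 2, 2, 2, 2, 2, 3, 1]]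

set_option maxRecDepth 100000 in
/-- certificate -/
def cE8_1 : Cert where
  n := 1
  k := 2
  word := [[], [0]]
  tau := [[1], [0]]
  rnk := [[0], [0]]
  jst := [[(0, 0, 0, 0)], [(1, 0, 0, 0)]]
  rels := []

set_option maxRecDepth 100000 in
/-- certificate -/
def cE8_2 : Cert where
  n := 2
  k := 2
  word := [[], [1]]
  tau := [[0, 1], [1, 0]]
  rnk := [[0, 0], [1, 0]]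
  jst := [[(2, 0, 0, 0), (0, 0, 0, 0)], [(3, 0, 1, 0), (1, 0, 0, 0)]]
  rels := [(0, 1, 2), (1, 0, 2)]

set_option maxRecDepth 100000 in
/-- certificate -/
def cE8_3 : Cert where
  n := 3
  k := 3
  word := [[], [2], [2, 0]]
  tau := [[0, 0, 1], [2, 1, 0], [1, 2, 2]]
  rnk := [[0, 0, 0], [0, 1, 0], [0, 2, 1]]
  jst := [[(2, 0, 0, 0), (2, 0, 0, 0), (0, 0, 0, 0)], [(0, 0, 0, 0), (3, 3, 1, 0), (1, 0, 0, 0)], [(1, 0, 0, 0), (3, 0, 1, 1), (3, 1, 1, 1)]]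
  rels := [(0, 1, 2), (0, 2, 3), (1, 0, 2), (1, 2, 2), (2, 0, 3), (2, 1, 2)]

set_option maxRecDepth 100000 in
/-- certificate -/
def cE8_4 : Cert where
  n := 4
  k := 10
  word := [[], [3], [3, 1], [3, 2], [3, 1, 2], [3, 2, 0], [3, 1, 2, 0], [3, 1, 2, 3], [3, 1, 2, 0, 3], [3, 1, 2, 0, 3, 2]]
  tau := [[0, 0, 0, 1], [1, 2, 3, 0], [2, 1, 4, 2], [5, 4, 1, 3], [6, 3, 2, 7], [3, 6, 5, 5], [4, 5, 6, 8], [8, 7, 7, 4], [7, 8, 9, 6], [9, 9, 8, 9]]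
  rnk := [[0, 0, 0, 0], [1, 0, 0, 0], [2, 0, 0, 1], [0, 1, 0, 1], [0, 1, 0, 0], [0, 2, 2, 2], [0, 2, 3, 0], [1, 2, 2, 0], [1, 3, 0, 0], [3, 4, 0, 4]]
  jst := [[(2, 0, 0, 0), (2, 0, 0, 0), (2, 0, 0, 0), (0, 0, 0, 0)], [(3, 2, 1, 0), (0, 0, 0, 0), (0, 0, 0, 0), (1, 0, 0, 0)], [(3, 0, 2, 0), (1, 0, 0, 0), (0, 0, 0, 0), (3, 5, 1, 1)], [(0, 0, 0, 0), (3, 4, 3, 0), (1, 0, 0, 0), (3, 8, 1, 1)], [(0, 0, 0, 0), (3, 4, 4, 0), (1, 0, 0, 0), (0, 0, 0, 0)], [(1, 0, 0, 0), (3, 0, 3, 1), (3, 1, 3, 1), (3, 2, 3, 1)], [(1, 0, 0, 0), (3, 0, 4, 1), (3, 1, 4, 1), (0, 0, 0, 0)], [(3, 2, 7, 0), (3, 5, 7, 0), (3, 8, 7, 0), (1, 0, 0, 0)], [(3, 2, 8, 0), (3, 0, 7, 1), (0, 0, 0, 0), (1, 0, 0, 0)], [(3, 1, 9, 0), (3, 4, 9, 0), (1, 0, 0, 0), (3, 8, 8,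 1)]]
  rels := [(0, 1, 2), (0, 2, 3), (0, 3, 2), (1, 0, 2), (1, 2, 2), (1, 3, 3), (2, 0, 3), (2, 1, 2), (2, 3, 3), (3, 0, 2), (3, 1, 3), (3, 2, 3)]

set_option maxRecDepth 100000 in
/-- certificate -/
def cE8_5 : Cert where
  n := 5
  k := 16
  word := [[], [4], [4, 3], [4, 3, 1], [4, 3, 2], [4, 3, 1, 2], [4, 3, 2, 0], [4, 3, 1, 2, 0], [4, 3, 1, 2, 3], [4, 3, 1, 2, 0, 3], [4, 3, 1, 2, 3, 4], [4, 3, 1, 2, 0, 3, 2], [4, 3, 1, 2, 0, 3, 4], [4, 3, 1, 2, 0, 3, 2, 4], [4, 3, 1, 2, 0, 3, 2, 4, 3], [4, 3, 1, 2, 0, 3, 2, 4, 3, 1]]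
  tau := [[0, 0, 0, 0, 1], [1, 1, 1, 2, 0], [2, 3, 4, 1, 2], [3, 2, 5, 3, 3], [6, 5, 2, 4, 4], [7, 4, 3, 8, 5], [4, 7, 6, 6, 6], [5, 6, 7, 9, 7], [9, 8, 8, 5, 10], [8, 9, 11, 7, 12], [12, 10, 10, 10, 8], [11, 11, 9, 11, 13], [10, 12, 13, 12, 9], [13, 13, 12, 14, 11], [14, 15, 14, 13, 14], [15, 14, 15, 15, 15]]
  rnk := [[0, 0, 0, 0, 0], [1, 1, 1, 0, 0], [2, 0, 0, 0, 1], [3, 0, 0, 2, 2], [0, 1, 0, 2, 2], [0, 1, 0, 0, 3], [0, 2, 3, 3, 3], [0, 2, 4, 0, 4], [1, 3, 3, 0, 0], [1, 4, 0, 0, 0], [2, 4, 4, 4, 0], [4, 5, 0, 5, 0], [2, 5, 1, 5, 0], [5, 6, 1, 0, 0], [6, 0, 6, 0, 6], [7, 0, 7, 7, 7]]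
  jst := [[(2, 0, 0, 0), (2, 0, 0, 0), (2, 0, 0, 0), (2, 0, 0, 0), (0, 0, 0, 0)], [(3, 3, 1, 0), (3, 7, 1, 0), (3, 11, 1, 0), (0, 0, 0, 0), (1, 0, 0, 0)], [(3, 2, 2, 0), (0, 0, 0, 0), (0, 0, 0, 0), (1, 0, 0, 0), (3, 15, 1, 1)], [(3, 0, 3, 0), (1, 0, 0, 0), (0, 0, 0, 0), (3, 6, 2, 1), (3, 7, 2, 1)], [(0, 0, 0, 0), (3, 5, 4, 0), (1, 0, 0, 0), (3, 10, 2, 1), (3, 11, 2, 1)], [(0, 0, 0, 0), (3, 5, 5, 0), (1, 0, 0, 0), (0, 0, 0, 0), (3, 7, 4, 1)], [(1, 0, 0, 0), (3, 0, 4, 1), (3, 1, 4, 1), (3, 2, 4, 1), (3, 3, 4, 1)], [(1, 0, 0, 0), (3, 0, 5, 1), (3, 1, 5, 1), (0, 0, 0, 0), (3, 3, 5, 1)], [(3, 2, 8, 0), (3, 6, 8, 0), (3, 10, 8, 0), (1, 0, 0, 0), (0, 0, 0, 0)], [(3, 2, 9, 0), (3, 0, 8, 1), (0, 0, 0, 0), (1, 0, 0, 0), (0, 0, 0, 0)],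 [(3, 3, 10, 0), (3, 7, 10, 0), (3, 11, 10, 0), (3, 15, 10, 0), (1, 0, 0, 0)], [(3, 1, 11, 0), (3, 5, 11, 0), (1, 0, 0, 0), (3, 10, 9, 1), (0, 0, 0, 0)], [(3, 3, 12, 0), (3, 0, 10, 1), (3, 11, 12, 0), (3, 2, 10, 1), (1, 0, 0, 0)], [(3, 1, 13, 0), (3, 5, 13, 0), (3, 11, 13, 0), (0, 0, 0, 0), (1, 0, 0, 0)], [(3, 2, 14, 0), (0, 0, 0, 0), (3, 10, 14, 0), (1, 0, 0, 0), (3, 15, 13, 1)], [(3, 0, 15, 0), (1, 0, 0, 0), (3, 5, 14, 1), (3, 6, 14, 1), (3, 7, 14, 1)]]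
  rels := [(0, 1, 2), (0, 2, 3), (0, 3, 2), (0, 4, 2), (1, 0, 2), (1, 2, 2), (1, 3, 3), (1, 4, 2), (2, 0, 3), (2, 1, 2), (2, 3, 3), (2, 4, 2), (3, 0, 2), (3, 1, 3), (3, 2, 3), (3, 4, 3), (4, 0, 2), (4, 1, 2), (4, 2, 2), (4, 3, 3)]

set_option maxRecDepth 100000 in
/-- certificate -/
def cE8_6 : Cert where
  n := 6
  k := 27
  word := [[], [5], [5, 4], [5, 4, 3], [5, 4, 3, 1], [5, 4, 3, 2], [5, 4, 3, 1, 2], [5, 4, 3, 2, 0], [5, 4, 3, 1, 2, 0], [5, 4, 3, 1, 2, 3], [5, 4, 3, 1, 2, 0, 3], [5, 4, 3, 1, 2, 3, 4], [5, 4, 3, 1, 2, 0, 3, 2], [5, 4, 3, 1, 2, 0, 3, 4], [5, 4, 3, 1, 2, 3, 4, 5], [5, 4, 3, 1, 2, 0, 3, 2, 4], [5, 4, 3, 1, 2, 0, 3, 4, 5], [5, 4, 3, 1, 2, 0, 3, 2, 4, 3], [5, 4, 3, 1, 2, 0, 3, 2, 4, 5], [5, 4, 3, 1, 2, 0, 3,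 2, 4, 3, 1], [5, 4, 3, 1, 2, 0, 3, 2, 4, 3, 5], [5, 4, 3, 1, 2, 0, 3, 2, 4, 3, 1, 5], [5, 4, 3, 1, 2, 0, 3, 2, 4, 3, 5, 4], [5, 4, 3, 1, 2, 0, 3, 2, 4, 3, 1, 5, 4], [5, 4, 3, 1, 2, 0, 3, 2, 4, 3, 1, 5, 4, 3], [5, 4, 3, 1, 2, 0, 3, 2, 4, 3, 1, 5, 4, 3, 2], [5, 4, 3, 1, 2, 0, 3, 2, 4, 3, 1, 5, 4, 3, 2, 0]]
  tau := [[0, 0, 0, 0, 0, 1], [1, 1, 1, 1, 2, 0], [2, 2, 2, 3, 1, 2], [3, 4, 5, 2, 3, 3], [4, 3, 6, 4, 4, 4], [7, 6, 3, 5, 5, 5], [8, 5, 4, 9, 6, 6], [5, 8, 7, 7, 7, 7], [6, 7, 8, 10, 8, 8], [10, 9, 9, 6, 11, 9], [9, 10, 12, 8, 13, 10], [13, 11, 11, 11, 9, 14], [12, 12, 10, 12, 15, 12], [11, 13, 15, 13, 10, 16], [16, 14, 14, 14, 14, 11], [15, 15, 13, 17, 12, 18], [14, 16, 18, 16, 16, 13], [17, 19, 17, 15, 17, 20], [18, 18,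 16, 20, 18, 15], [19, 17, 19, 19, 19, 21], [20, 21, 20, 18, 22, 17], [21, 20, 21, 21, 23, 19], [22, 23, 22, 22, 20, 22], [23, 22, 23, 24, 21, 23], [24, 24, 25, 23, 24, 24], [26, 25, 24, 25, 25, 25], [25, 26, 26, 26, 26, 26]]
  rnk := [[0, 0, 0, 0, 0, 0], [1, 1, 1, 1, 0, 0], [2, 2, 2, 0, 0, 1], [3, 0, 0, 0, 2, 2], [4, 0, 0, 3, 3, 3], [0, 1, 0, 3, 3, 3], [0, 1, 0, 0, 4, 4], [0, 2, 4, 4, 4, 4], [0, 2, 5, 0, 5, 5], [1, 4, 4, 0, 0, 5], [1, 5, 0, 0, 0, 6], [2, 5, 5, 5, 0, 0], [5, 6, 0, 6, 0, 7], [2, 6, 1, 6, 0, 0], [3, 6, 6, 6, 6, 0], [6, 7, 1, 0, 0, 0], [3, 7, 2, 7, 7, 0], [7, 0, 7, 0, 7, 0], [7, 8, 2, 1, 8, 0], [8, 0, 8, 8, 8, 0], [8, 1, 8, 1, 0, 0], [9, 1, 9, 9, 0, 0], [9, 2, 9, 9, 0, 8], [10, 2, 10, 0, 0, 9], [11, 10, 0, 0, 10,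 10], [0, 11, 0, 11, 11, 11], [0, 12, 12, 12, 12, 12]]
  jst := [[(2, 0, 0, 0), (2, 0, 0, 0), (2, 0, 0, 0), (2, 0, 0, 0), (2, 0, 0, 0), (0, 0, 0, 0)], [(3, 4, 1, 0), (3, 9, 1, 0), (3, 14, 1, 0), (3, 19, 1, 0), (0, 0, 0, 0), (1, 0, 0, 0)], [(3, 3, 2, 0), (3, 8, 2, 0), (3, 13, 2, 0), (0, 0, 0, 0), (1, 0, 0, 0), (3, 24, 1, 1)], [(3, 2, 3, 0), (0, 0, 0, 0), (0, 0, 0, 0), (1, 0, 0, 0), (3, 18, 2, 1), (3, 19, 2, 1)], [(3, 0, 4, 0), (1, 0, 0, 0), (0, 0, 0, 0), (3, 7, 3, 1), (3, 8, 3, 1), (3, 9, 3, 1)], [(0, 0, 0, 0), (3, 6, 5, 0), (1, 0, 0, 0), (3, 12, 3, 1), (3, 13, 3, 1), (3, 14, 3, 1)], [(0, 0, 0, 0), (3, 6, 6, 0), (1, 0, 0, 0), (0, 0, 0, 0), (3, 8, 5, 1), (3, 9, 5, 1)], [(1, 0, 0, 0), (3, 0, 5, 1), (3, 1, 5, 1), (3, 2, 5, 1), (3,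 3, 5, 1), (3, 4, 5, 1)], [(1, 0, 0, 0), (3, 0, 6, 1), (3, 1, 6, 1), (0, 0, 0, 0), (3, 3, 6, 1), (3, 4, 6, 1)], [(3, 2, 9, 0), (3, 7, 9, 0), (3, 12, 9, 0), (1, 0, 0, 0), (0, 0, 0, 0), (3, 19, 6, 1)], [(3, 2, 10, 0), (3, 0, 9, 1), (0, 0, 0, 0), (1, 0, 0, 0), (0, 0, 0, 0), (3, 4, 9, 1)], [(3, 3, 11, 0), (3, 8, 11, 0), (3, 13, 11, 0), (3, 18, 11, 0), (1, 0, 0, 0), (0, 0, 0, 0)], [(3, 1, 12, 0), (3, 6, 12, 0), (1, 0, 0, 0), (3, 12, 10, 1), (0, 0, 0, 0), (3, 14, 10, 1)], [(3, 3, 13, 0), (3, 0, 11, 1), (3, 13, 13, 0), (3, 2, 11, 1), (1, 0, 0, 0), (0, 0, 0, 0)], [(3, 4, 14, 0), (3, 9, 14, 0), (3, 14, 14, 0), (3, 19, 14, 0), (3, 24, 14, 0), (1, 0, 0, 0)], [(3, 1, 15, 0), (3, 6, 15, 0), (3, 13, 15, 0), (0, 0, 0, 0), (1, 0, 0, 0), (0,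 0, 0, 0)], [(3, 4, 16, 0), (3, 0, 14, 1), (3, 14, 16, 0), (3, 2, 14, 1), (3, 3, 14, 1), (1, 0, 0, 0)], [(3, 2, 17, 0), (0, 0, 0, 0), (3, 12, 17, 0), (1, 0, 0, 0), (3, 18, 15, 1), (0, 0, 0, 0)], [(3, 1, 18, 0), (3, 6, 18, 0), (3, 14, 18, 0), (3, 19, 18, 0), (3, 13, 16, 1), (1, 0, 0, 0)], [(3, 0, 19, 0), (1, 0, 0, 0), (3, 6, 17, 1), (3, 7, 17, 1), (3, 8, 17, 1), (0, 0, 0, 0)], [(3, 2, 20, 0), (3, 9, 20, 0), (3, 12, 20, 0), (3, 19, 20, 0), (0, 0, 0, 0), (1, 0, 0, 0)], [(3, 0, 21, 0), (3, 9, 21, 0), (3, 6, 20, 1), (3, 7, 20, 1), (0, 0, 0, 0), (1, 0, 0, 0)], [(3, 3, 22, 0), (3, 8, 22, 0), (3, 13, 22, 0), (3, 18, 22, 0), (1, 0, 0, 0), (3, 24, 20, 1)], [(3, 0, 23, 0), (3, 8, 23, 0), (3, 6, 22, 1), (0, 0, 0, 0), (1, 0, 0, 0), (3, 9,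 22, 1)], [(3, 2, 24, 0), (3, 7, 24, 0), (0, 0, 0, 0), (1, 0, 0, 0), (3, 18, 23, 1), (3, 19, 23, 1)], [(0, 0, 0, 0), (3, 6, 25, 0), (1, 0, 0, 0), (3, 12, 24, 1), (3, 13, 24, 1), (3, 14, 24, 1)], [(1, 0, 0, 0), (3, 0, 25, 1), (3, 1, 25, 1), (3, 2, 25, 1), (3, 3, 25, 1), (3, 4, 25, 1)]]
  rels := [(0, 1, 2), (0, 2, 3), (0, 3, 2), (0, 4, 2), (0, 5, 2), (1, 0, 2), (1, 2, 2), (1, 3, 3), (1, 4, 2), (1, 5, 2), (2, 0, 3), (2, 1, 2), (2, 3, 3), (2, 4, 2), (2, 5, 2), (3, 0, 2), (3, 1, 3), (3, 2, 3), (3, 4, 3), (3, 5, 2), (4, 0, 2), (4, 1, 2), (4, 2, 2), (4, 3, 3), (4, 5, 3), (5, 0, 2), (5, 1, 2), (5, 2, 2), (5, 3, 2), (5, 4, 3)]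

set_option maxRecDepth 100000 in
/-- certificate -/
def cE8_7 : Cert where
  n := 7
  k := 56
  word := [[], [6], [6, 5], [6, 5, 4], [6, 5, 4, 3], [6, 5, 4, 3, 1], [6, 5, 4, 3, 2], [6, 5, 4, 3, 1, 2], [6, 5, 4, 3, 2, 0], [6, 5, 4, 3, 1, 2, 0], [6, 5, 4, 3, 1, 2, 3], [6, 5, 4, 3, 1, 2, 0, 3], [6, 5, 4, 3, 1, 2, 3, 4], [6, 5, 4, 3, 1, 2, 0, 3, 2], [6, 5, 4, 3, 1, 2, 0, 3, 4], [6, 5, 4, 3, 1, 2, 3, 4, 5], [6, 5, 4, 3, 1, 2, 0, 3, 2, 4], [6, 5, 4, 3, 1, 2, 0, 3, 4, 5], [6, 5, 4, 3, 1, 2, 3, 4, 5, 6], [6, 5, 4, 3, 1, 2, 0, 3, 2, 4, 3], [6, 5, 4, 3, 1, 2, 0, 3, 2, 4, 5], [6, 5, 4, 3, 1, 2, 0, 3, 4, 5, 6], [6, 5, 4, 3, 1, 2, 0, 3, 2, 4, 3, 1], [6, 5, 4, 3, 1, 2, 0, 3, 2, 4, 3, 5], [6, 5, 4, 3, 1, 2, 0, 3, 2, 4, 5, 6], [6, 5, 4, 3,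 1, 2, 0, 3, 2, 4, 3, 1, 5], [6, 5, 4, 3, 1, 2, 0, 3, 2, 4, 3, 5, 4], [6, 5, 4, 3, 1, 2, 0, 3, 2, 4, 3, 5, 6], [6, 5, 4, 3, 1, 2, 0, 3, 2, 4, 3, 1, 5, 4], [6, 5, 4, 3, 1, 2, 0, 3, 2, 4, 3, 1, 5, 6], [6, 5, 4, 3, 1, 2, 0, 3, 2, 4, 3, 5, 4, 6], [6, 5, 4, 3, 1, 2, 0, 3, 2, 4, 3, 1, 5, 4, 3], [6, 5, 4, 3, 1, 2, 0, 3, 2, 4, 3, 1, 5, 4, 6], [6, 5, 4, 3, 1, 2, 0, 3, 2, 4, 3, 5, 4, 6, 5], [6, 5, 4, 3, 1, 2, 0, 3, 2, 4, 3, 1, 5, 4, 3, 2], [6, 5, 4, 3, 1, 2, 0, 3, 2, 4, 3, 1, 5, 4, 3, 6], [6, 5, 4, 3, 1, 2, 0, 3, 2, 4, 3, 1, 5, 4, 6, 5], [6, 5, 4, 3, 1, 2, 0, 3, 2, 4, 3, 1, 5, 4, 3, 2, 0], [6, 5, 4, 3, 1, 2, 0, 3, 2, 4, 3, 1, 5, 4, 3, 2, 6], [6, 5, 4, 3, 1, 2, 0, 3, 2, 4, 3, 1, 5, 4, 3, 6, 5], [6, 5, 4, 3, 1, 2, 0, 3, 2, 4, 3, 1, 5, 4,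 3, 2, 0, 6], [6, 5, 4, 3, 1, 2, 0, 3, 2, 4, 3, 1, 5, 4, 3, 2, 6, 5], [6, 5, 4, 3, 1, 2, 0, 3, 2, 4, 3, 1, 5, 4, 3, 6, 5, 4], [6, 5, 4, 3, 1, 2, 0, 3, 2, 4, 3, 1, 5, 4, 3, 2, 0, 6, 5], [6, 5, 4, 3, 1, 2, 0, 3, 2, 4, 3, 1, 5, 4, 3, 2, 6, 5, 4], [6, 5, 4, 3, 1, 2, 0, 3, 2, 4, 3, 1, 5, 4, 3, 2, 0, 6, 5, 4], [6, 5, 4, 3, 1, 2, 0, 3, 2, 4, 3, 1, 5, 4, 3, 2, 6, 5, 4, 3], [6, 5, 4, 3, 1, 2, 0, 3, 2, 4, 3, 1, 5, 4, 3, 2, 0, 6, 5, 4, 3], [6, 5, 4, 3, 1, 2, 0, 3, 2, 4, 3, 1, 5, 4, 3, 2, 6, 5, 4, 3, 1], [6, 5, 4, 3, 1, 2, 0, 3, 2, 4, 3, 1, 5, 4, 3, 2, 0, 6, 5, 4, 3, 1], [6, 5, 4, 3, 1, 2, 0, 3, 2, 4, 3, 1, 5, 4, 3, 2, 0, 6, 5, 4, 3, 2], [6, 5, 4, 3, 1, 2, 0, 3, 2, 4, 3, 1, 5, 4, 3, 2, 0, 6, 5, 4, 3, 1, 2], [6, 5, 4, 3, 1, 2, 0, 3, 2, 4,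 3, 1, 5, 4, 3, 2, 0, 6, 5, 4, 3, 1, 2, 3], [6, 5, 4, 3, 1, 2, 0, 3, 2, 4, 3, 1, 5, 4, 3, 2, 0, 6, 5, 4, 3, 1, 2, 3, 4], [6, 5, 4, 3, 1, 2, 0, 3, 2, 4, 3, 1, 5, 4, 3, 2, 0, 6, 5, 4, 3, 1, 2, 3, 4, 5], [6, 5, 4, 3, 1, 2, 0, 3, 2, 4, 3, 1, 5, 4, 3, 2, 0, 6, 5, 4, 3, 1, 2, 3, 4, 5, 6]]
  tau := [[0, 0, 0, 0, 0, 0, 1], [1, 1, 1, 1, 1, 2, 0], [2, 2, 2, 2, 3, 1, 2], [3, 3, 3, 4, 2, 3, 3], [4, 5, 6, 3, 4, 4, 4], [5, 4, 7, 5, 5, 5, 5], [8, 7, 4, 6, 6, 6, 6], [9, 6, 5, 10, 7, 7, 7], [6, 9, 8, 8, 8, 8, 8], [7, 8, 9, 11, 9, 9, 9], [11, 10, 10, 7, 12, 10, 10], [10, 11, 13, 9, 14, 11, 11], [14, 12, 12, 12, 10, 15, 12], [13, 13, 11, 13, 16, 13, 13], [12, 14, 16, 14, 11, 17, 14], [17, 15, 15, 15, 15, 12, 18], [16, 16, 14, 19, 13, 20, 16],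 [15, 17, 20, 17, 17, 14, 21], [21, 18, 18, 18, 18, 18, 15], [19, 22, 19, 16, 19, 23, 19], [20, 20, 17, 23, 20, 16, 24], [18, 21, 24, 21, 21, 21, 17], [22, 19, 22, 22, 22, 25, 22], [23, 25, 23, 20, 26, 19, 27], [24, 24, 21, 27, 24, 24, 20], [25, 23, 25, 25, 28, 22, 29], [26, 28, 26, 26, 23, 26, 30], [27, 29, 27, 24, 30, 27, 23], [28, 26, 28, 31, 25, 28, 32], [29, 27, 29, 29, 32, 29, 25], [30, 32, 30, 30, 27, 33, 26], [31, 31, 34, 28, 31, 31, 35], [32, 30, 32, 35, 29, 36, 28], [33, 36, 33, 33, 33, 30, 33], [37, 34, 31, 34, 34, 34, 38], [35, 35, 38, 32, 35, 39, 31], [36, 33, 36, 39, 36, 32, 36], [34, 37, 37, 37, 37, 37, 40], [40, 38, 35, 38, 38, 41, 34], [39, 39, 41, 36, 42, 35, 39], [38, 40, 40, 40, 40, 43, 37], [43, 41, 39,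 41, 44, 38, 41], [42, 42, 44, 42, 39, 42, 42], [41, 43, 43, 43, 45, 40, 43], [45, 44, 42, 46, 41, 44, 44], [44, 45, 45, 47, 43, 45, 45], [47, 48, 46, 44, 46, 46, 46], [46, 49, 50, 45, 47, 47, 47], [49, 46, 48, 48, 48, 48, 48], [48, 47, 51, 49, 49, 49, 49], [50, 51, 47, 50, 50, 50, 50], [51, 50, 49, 52, 51, 51, 51], [52, 52, 52, 51, 53, 52, 52], [53, 53, 53, 53, 52, 54, 53], [54, 54, 54, 54, 54, 53, 55], [55, 55, 55, 55, 55, 55, 54]]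
  rnk := [[0, 0, 0, 0, 0, 0, 0], [1, 1, 1, 1, 1, 0, 0], [2, 2, 2, 2, 0, 0, 1], [3, 3, 3, 0, 0, 2, 2], [4, 0, 0, 0, 3, 3, 3], [5, 0, 0, 4, 4, 4, 4], [0, 1, 0, 4, 4, 4, 4], [0, 1, 0, 0, 5, 5, 5], [0, 2, 5, 5, 5, 5, 5], [0, 2, 6, 0, 6, 6, 6], [1, 5, 5, 0, 0, 6, 6], [1, 6, 0, 0, 0, 7, 7], [2, 6, 6, 6, 0, 0, 7], [6, 7, 0, 7, 0, 8, 8], [2, 7, 1, 7, 0, 0, 8], [3, 7, 7, 7, 7, 0, 0], [7, 8, 1, 0, 0, 0, 9], [3, 8, 2, 8, 8, 0, 0], [4, 8, 8, 8, 8, 8, 0], [8, 0, 8, 0, 8, 0, 10], [8, 9, 2, 1, 9, 0, 0], [4, 9, 3, 9, 9, 9, 0], [9, 0, 9, 9, 9, 0, 11], [9, 1, 9, 1, 0, 0, 0], [9, 10, 3, 2, 10, 10, 0], [10, 1, 10, 10, 0, 0, 0], [10, 2, 10, 10, 0, 9, 0], [10, 2, 10, 2, 1, 11, 0], [11, 2, 11, 0, 0, 10, 0], [11, 2, 11, 11, 1, 12, 0], [11, 3, 11,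 11, 1, 0, 0], [12, 11, 0, 0, 11, 11, 0], [12, 3, 12, 1, 1, 0, 0], [12, 4, 12, 12, 12, 0, 10], [0, 12, 0, 12, 12, 12, 0], [13, 12, 1, 1, 12, 0, 0], [13, 4, 13, 2, 13, 0, 11], [0, 13, 13, 13, 13, 13, 0], [1, 13, 1, 13, 13, 0, 0], [14, 13, 2, 2, 0, 0, 12], [1, 14, 14, 14, 14, 0, 0], [2, 14, 2, 14, 0, 0, 13], [15, 14, 3, 14, 0, 13, 13], [2, 15, 15, 15, 0, 0, 14], [3, 15, 3, 0, 0, 14, 14], [3, 16, 16, 0, 0, 15, 15], [4, 0, 15, 0, 15, 15, 15], [4, 0, 0, 0, 16, 16, 16], [5, 0, 16, 16, 16, 16, 16], [5, 0, 0, 17, 17, 17, 17], [16, 1, 0, 17, 17, 17, 17], [17, 1, 0, 0, 18, 18, 18], [18, 18, 18, 0, 0, 19, 19], [19, 19, 19, 19, 0, 0, 20], [20, 20, 20, 20, 20, 0, 0], [21, 21, 21, 21, 21, 21, 0]]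
  jst := [[(2, 0, 0, 0), (2, 0, 0, 0), (2, 0, 0, 0), (2, 0, 0, 0), (2, 0, 0, 0), (2, 0, 0, 0), (0, 0, 0, 0)], [(3, 5, 1, 0), (3, 11, 1, 0), (3, 17, 1, 0), (3, 23, 1, 0), (3, 29, 1, 0), (0, 0, 0, 0), (1, 0, 0, 0)], [(3, 4, 2, 0), (3, 10, 2, 0), (3, 16, 2, 0), (3, 22, 2, 0), (0, 0, 0, 0), (1, 0, 0, 0), (3, 35, 1, 1)], [(3, 3, 3, 0), (3, 9, 3, 0), (3, 15, 3, 0), (0, 0, 0, 0), (1, 0, 0, 0), (3, 28, 2, 1), (3, 29, 2, 1)], [(3, 2, 4, 0), (0, 0, 0, 0), (0, 0, 0, 0), (1, 0, 0, 0), (3, 21, 3, 1), (3, 22, 3, 1), (3, 23, 3, 1)], [(3, 0, 5, 0), (1, 0, 0, 0), (0, 0, 0, 0), (3, 8, 4, 1), (3, 9, 4, 1), (3, 10, 4, 1), (3, 11, 4, 1)], [(0, 0, 0, 0), (3, 7, 6, 0), (1, 0, 0, 0), (3, 14, 4, 1), (3, 15, 4, 1), (3, 16, 4, 1), (3, 17, 4, 1)], [(0,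 0, 0, 0), (3, 7, 7, 0), (1, 0, 0, 0), (0, 0, 0, 0), (3, 9, 6, 1), (3, 10, 6, 1), (3, 11, 6, 1)], [(1, 0, 0, 0), (3, 0, 6, 1), (3, 1, 6, 1), (3, 2, 6, 1), (3, 3, 6, 1), (3, 4, 6, 1), (3, 5, 6, 1)], [(1, 0, 0, 0), (3, 0, 7, 1), (3, 1, 7, 1), (0, 0, 0, 0), (3, 3, 7, 1), (3, 4, 7, 1), (3, 5, 7, 1)], [(3, 2, 10, 0), (3, 8, 10, 0), (3, 14, 10, 0), (1, 0, 0, 0), (0, 0, 0, 0), (3, 22, 7, 1), (3, 23, 7, 1)], [(3, 2, 11, 0), (3, 0, 10, 1), (0, 0, 0, 0), (1, 0, 0, 0), (0, 0, 0, 0), (3, 4, 10, 1), (3, 5, 10, 1)], [(3, 3, 12, 0), (3, 9, 12, 0), (3, 15, 12, 0), (3, 21, 12, 0), (1, 0, 0, 0), (0, 0, 0, 0), (3, 29, 10, 1)], [(3, 1, 13, 0), (3, 7, 13, 0), (1, 0, 0, 0), (3, 14, 11, 1), (0, 0, 0, 0), (3, 16, 11, 1), (3, 17, 11, 1)], [(3, 3, 14,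 0), (3, 0, 12, 1), (3, 15, 14, 0), (3, 2, 12, 1), (1, 0, 0, 0), (0, 0, 0, 0), (3, 5, 12, 1)], [(3, 4, 15, 0), (3, 10, 15, 0), (3, 16, 15, 0), (3, 22, 15, 0), (3, 28, 15, 0), (1, 0, 0, 0), (0, 0, 0, 0)], [(3, 1, 16, 0), (3, 7, 16, 0), (3, 15, 16, 0), (0, 0, 0, 0), (1, 0, 0, 0), (0, 0, 0, 0), (3, 17, 14, 1)], [(3, 4, 17, 0), (3, 0, 15, 1), (3, 16, 17, 0), (3, 2, 15, 1), (3, 3, 15, 1), (1, 0, 0, 0), (0, 0, 0, 0)], [(3, 5, 18, 0), (3, 11, 18, 0), (3, 17, 18, 0), (3, 23, 18, 0), (3, 29, 18, 0), (3, 35, 18, 0), (1, 0, 0, 0)], [(3, 2, 19, 0), (0, 0, 0, 0), (3, 14, 19, 0), (1, 0, 0, 0), (3, 21, 16, 1), (0, 0, 0, 0), (3, 23, 16, 1)], [(3, 1, 20, 0), (3, 7, 20, 0), (3, 16, 20, 0), (3, 22, 20, 0), (3, 15, 17, 1), (1, 0, 0, 0), (0, 0,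 0, 0)], [(3, 5, 21, 0), (3, 0, 18, 1), (3, 17, 21, 0), (3, 2, 18, 1), (3, 3, 18, 1), (3, 4, 18, 1), (1, 0, 0, 0)], [(3, 0, 22, 0), (1, 0, 0, 0), (3, 7, 19, 1), (3, 8, 19, 1), (3, 9, 19, 1), (0, 0, 0, 0), (3, 11, 19, 1)], [(3, 2, 23, 0), (3, 10, 23, 0), (3, 14, 23, 0), (3, 22, 23, 0), (0, 0, 0, 0), (1, 0, 0, 0), (0, 0, 0, 0)], [(3, 1, 24, 0), (3, 7, 24, 0), (3, 17, 24, 0), (3, 23, 24, 0), (3, 15, 21, 1), (3, 16, 21, 1), (1, 0, 0, 0)], [(3, 0, 25, 0), (3, 10, 25, 0), (3, 7, 23, 1), (3, 8, 23, 1), (0, 0, 0, 0), (1, 0, 0, 0), (0, 0, 0, 0)], [(3, 3, 26, 0), (3, 9, 26, 0), (3, 15, 26, 0), (3, 21, 26, 0), (1, 0, 0, 0), (3, 28, 23, 1), (0, 0, 0, 0)], [(3, 2, 27, 0), (3, 11, 27, 0), (3, 14, 27, 0), (3, 23, 27, 0), (3, 29, 27, 0), (3,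 22, 24, 1), (1, 0, 0, 0)], [(3, 0, 28, 0), (3, 9, 28, 0), (3, 7, 26, 1), (0, 0, 0, 0), (1, 0, 0, 0), (3, 10, 26, 1), (0, 0, 0, 0)], [(3, 0, 29, 0), (3, 11, 29, 0), (3, 7, 27, 1), (3, 8, 27, 1), (3, 29, 29, 0), (3, 10, 27, 1), (1, 0, 0, 0)], [(3, 3, 30, 0), (3, 9, 30, 0), (3, 15, 30, 0), (3, 21, 30, 0), (3, 29, 30, 0), (0, 0, 0, 0), (1, 0, 0, 0)], [(3, 2, 31, 0), (3, 8, 31, 0), (0, 0, 0, 0), (1, 0, 0, 0), (3, 21, 28, 1), (3, 22, 28, 1), (0, 0, 0, 0)], [(3, 0, 32, 0), (3, 9, 32, 0), (3, 7, 30, 1), (3, 23, 32, 0), (3, 29, 32, 0), (0, 0, 0, 0), (1, 0, 0, 0)], [(3, 4, 33, 0), (3, 10, 33, 0), (3, 16, 33, 0), (3, 22, 33, 0), (3, 28, 33, 0), (1, 0, 0, 0), (3, 35, 30, 1)], [(0, 0, 0, 0), (3, 7, 34, 0), (1, 0, 0, 0), (3, 14, 31, 1),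 (3, 15, 31, 1), (3, 16, 31, 1), (0, 0, 0, 0)], [(3, 2, 35, 0), (3, 8, 35, 0), (3, 17, 35, 0), (3, 23, 35, 0), (3, 21, 32, 1), (0, 0, 0, 0), (1, 0, 0, 0)], [(3, 0, 36, 0), (3, 10, 36, 0), (3, 7, 33, 1), (3, 22, 36, 0), (3, 9, 33, 1), (1, 0, 0, 0), (3, 11, 33, 1)], [(1, 0, 0, 0), (3, 0, 34, 1), (3, 1, 34, 1), (3, 2, 34, 1), (3, 3, 34, 1), (3, 4, 34, 1), (0, 0, 0, 0)], [(3, 5, 38, 0), (3, 7, 38, 0), (3, 17, 38, 0), (3, 14, 35, 1), (3, 15, 35, 1), (0, 0, 0, 0), (1, 0, 0, 0)], [(3, 2, 39, 0), (3, 8, 39, 0), (3, 16, 39, 0), (3, 22, 39, 0), (0, 0, 0, 0), (1, 0, 0, 0), (3, 23, 36, 1)], [(3, 5, 40, 0), (3, 0, 38, 1), (3, 1, 38, 1), (3, 2, 38, 1), (3, 3, 38, 1), (0, 0, 0, 0), (1, 0, 0, 0)], [(3, 4, 41, 0), (3, 7, 41, 0), (3, 16, 41,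 0), (3, 14, 39, 1), (0, 0, 0, 0), (1, 0, 0, 0), (3, 17, 39, 1)], [(3, 3, 42, 0), (3, 9, 42, 0), (3, 15, 42, 0), (3, 21, 42, 0), (1, 0, 0, 0), (3, 28, 39, 1), (3, 29, 39, 1)], [(3, 4, 43, 0), (3, 0, 41, 1), (3, 1, 41, 1), (3, 2, 41, 1), (0, 0, 0, 0), (1, 0, 0, 0), (3, 5, 41, 1)], [(3, 3, 44, 0), (3, 7, 44, 0), (3, 15, 44, 0), (0, 0, 0, 0), (1, 0, 0, 0), (3, 16, 42, 1), (3, 17, 42, 1)], [(3, 3, 45, 0), (3, 0, 44, 1), (3, 1, 44, 1), (0, 0, 0, 0), (1, 0, 0, 0), (3, 4, 44, 1), (3, 5, 44, 1)], [(3, 2, 46, 0), (0, 0, 0, 0), (3, 14, 46, 0), (1, 0, 0, 0), (3, 21, 44, 1), (3, 22, 44, 1), (3, 23, 44, 1)], [(3, 2, 47, 0), (0, 0, 0, 0), (0, 0, 0, 0), (1, 0, 0, 0), (3, 3, 46, 1), (3, 4, 46, 1), (3, 5, 46, 1)], [(3, 0, 48, 0), (1, 0, 0, 0),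 (3, 7, 46, 1), (3, 8, 46, 1), (3, 9, 46, 1), (3, 10, 46, 1), (3, 11, 46, 1)], [(3, 0, 49, 0), (1, 0, 0, 0), (0, 0, 0, 0), (3, 2, 48, 1), (3, 3, 48, 1), (3, 4, 48, 1), (3, 5, 48, 1)], [(3, 1, 50, 0), (3, 7, 50, 0), (1, 0, 0, 0), (3, 14, 47, 1), (3, 15, 47, 1), (3, 16, 47, 1), (3, 17, 47, 1)], [(3, 0, 51, 0), (3, 7, 51, 0), (1, 0, 0, 0), (0, 0, 0, 0), (3, 9, 50, 1), (3, 10, 50, 1), (3, 11, 50, 1)], [(3, 2, 52, 0), (3, 8, 52, 0), (3, 14, 52, 0), (1, 0, 0, 0), (0, 0, 0, 0), (3, 22, 51, 1), (3, 23, 51, 1)], [(3, 3, 53, 0), (3, 9, 53, 0), (3, 15, 53, 0), (3, 21, 53, 0), (1, 0, 0, 0), (0, 0, 0, 0), (3, 29, 52, 1)], [(3, 4, 54, 0), (3, 10, 54, 0), (3, 16, 54, 0), (3, 22, 54, 0), (3, 28, 54, 0), (1, 0, 0, 0), (0, 0, 0, 0)], [(3, 5,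 55, 0), (3, 11, 55, 0), (3, 17, 55, 0), (3, 23, 55, 0), (3, 29, 55, 0), (3, 35, 55, 0), (1, 0, 0, 0)]]
  rels := [(0, 1, 2), (0, 2, 3), (0, 3, 2), (0, 4, 2), (0, 5, 2), (0, 6, 2), (1, 0, 2), (1, 2, 2), (1, 3, 3), (1, 4, 2), (1, 5, 2), (1, 6, 2), (2, 0, 3), (2, 1, 2), (2, 3, 3), (2, 4, 2), (2, 5, 2), (2, 6, 2), (3, 0, 2), (3, 1, 3), (3, 2, 3), (3, 4, 3), (3, 5, 2), (3, 6, 2), (4, 0, 2), (4, 1, 2), (4, 2, 2), (4, 3, 3), (4, 5, 3), (4, 6, 2), (5, 0, 2), (5, 1, 2), (5, 2, 2), (5, 3, 2), (5, 4, 3), (5, 6, 3), (6, 0, 2), (6, 1, 2), (6, 2, 2), (6, 3, 2), (6, 4, 2), (6, 5, 3)]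

set_option maxRecDepth 100000 in
/-- certificate -/
def cE8_8 : Cert where
  n := 8
  k := 240
  word := [[], [7], [7, 6], [7, 6, 5], [7, 6, 5, 4], [7, 6, 5, 4, 3], [7, 6, 5, 4, 3, 1], [7, 6, 5, 4, 3, 2], [7, 6, 5, 4, 3, 1, 2], [7, 6, 5, 4, 3, 2, 0], [7, 6, 5, 4, 3, 1, 2, 0], [7, 6, 5, 4, 3, 1, 2, 3], [7, 6, 5, 4, 3, 1, 2, 0, 3], [7, 6, 5, 4, 3, 1, 2, 3, 4], [7, 6, 5, 4, 3, 1, 2, 0, 3, 2], [7, 6, 5, 4, 3, 1, 2, 0, 3, 4], [7, 6, 5, 4, 3, 1, 2, 3, 4, 5], [7, 6, 5, 4, 3, 1, 2, 0, 3, 2, 4], [7, 6, 5, 4, 3, 1, 2, 0, 3, 4, 5], [7, 6, 5, 4, 3, 1, 2, 3, 4, 5, 6], [7, 6, 5, 4, 3, 1, 2, 0, 3, 2, 4, 3], [7, 6, 5, 4, 3, 1, 2, 0, 3, 2, 4, 5], [7, 6, 5, 4, 3, 1, 2, 0, 3, 4, 5, 6], [7, 6, 5, 4, 3, 1, 2, 3, 4, 5, 6, 7], [7, 6, 5, 4, 3, 1,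 2, 0, 3, 2, 4, 3, 1], [7, 6, 5, 4, 3, 1, 2, 0, 3, 2, 4, 3, 5], [7, 6, 5, 4, 3, 1, 2, 0, 3, 2, 4, 5, 6], [7, 6, 5, 4, 3, 1, 2, 0, 3, 4, 5, 6, 7], [7, 6, 5, 4, 3, 1, 2, 0, 3, 2, 4, 3, 1, 5], [7, 6, 5, 4, 3, 1, 2, 0, 3, 2, 4, 3, 5, 4], [7, 6, 5, 4, 3, 1, 2, 0, 3, 2, 4, 3, 5, 6], [7, 6, 5, 4, 3, 1, 2, 0, 3, 2, 4, 5, 6, 7], [7, 6, 5, 4, 3, 1, 2, 0, 3, 2, 4, 3, 1, 5, 4], [7, 6, 5, 4, 3, 1, 2, 0, 3, 2, 4, 3, 1, 5, 6], [7, 6, 5, 4, 3, 1, 2, 0, 3, 2, 4, 3, 5, 4, 6], [7, 6, 5, 4, 3, 1, 2, 0, 3, 2, 4, 3, 5, 6, 7], [7, 6, 5, 4, 3, 1, 2, 0, 3, 2, 4, 3, 1, 5, 4, 3], [7, 6, 5, 4, 3, 1, 2, 0, 3, 2, 4, 3, 1, 5, 4, 6], [7, 6, 5, 4, 3, 1, 2, 0, 3, 2, 4, 3, 1, 5, 6, 7], [7, 6, 5, 4, 3, 1, 2, 0, 3, 2, 4, 3, 5, 4, 6, 5], [7, 6, 5, 4, 3, 1, 2, 0,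 3, 2, 4, 3, 5, 4, 6, 7], [7, 6, 5, 4, 3, 1, 2, 0, 3, 2, 4, 3, 1, 5, 4, 3, 2], [7, 6, 5, 4, 3, 1, 2, 0, 3, 2, 4, 3, 1, 5, 4, 3, 6], [7, 6, 5, 4, 3, 1, 2, 0, 3, 2, 4, 3, 1, 5, 4, 6, 5], [7, 6, 5, 4, 3, 1, 2, 0, 3, 2, 4, 3, 1, 5, 4, 6, 7], [7, 6, 5, 4, 3, 1, 2, 0, 3, 2, 4, 3, 5, 4, 6, 5, 7], [7, 6, 5, 4, 3, 1, 2, 0, 3, 2, 4, 3, 1, 5, 4, 3, 2, 0], [7, 6, 5, 4, 3, 1, 2, 0, 3, 2, 4, 3, 1, 5, 4, 3, 2, 6], [7, 6, 5, 4, 3, 1, 2, 0, 3, 2, 4, 3, 1, 5, 4, 3, 6, 5], [7, 6, 5, 4, 3, 1, 2, 0, 3, 2, 4, 3, 1, 5, 4, 3, 6, 7], [7, 6, 5, 4, 3, 1, 2, 0, 3, 2, 4, 3, 1, 5, 4, 6, 5, 7], [7, 6, 5, 4, 3, 1, 2, 0, 3, 2, 4, 3, 5, 4, 6, 5, 7, 6], [7, 6, 5, 4, 3, 1, 2, 0, 3, 2, 4, 3, 1, 5, 4, 3, 2, 0, 6], [7, 6, 5, 4, 3, 1, 2, 0, 3, 2, 4, 3, 1, 5, 4, 3,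 2, 6, 5], [7, 6, 5, 4, 3, 1, 2, 0, 3, 2, 4, 3, 1, 5, 4, 3, 2, 6, 7], [7, 6, 5, 4, 3, 1, 2, 0, 3, 2, 4, 3, 1, 5, 4, 3, 6, 5, 4], [7, 6, 5, 4, 3, 1, 2, 0, 3, 2, 4, 3, 1, 5, 4, 3, 6, 5, 7], [7, 6, 5, 4, 3, 1, 2, 0, 3, 2, 4, 3, 1, 5, 4, 6, 5, 7, 6], [7, 6, 5, 4, 3, 1, 2, 0, 3, 2, 4, 3, 1, 5, 4, 3, 2, 0, 6, 5], [7, 6, 5, 4, 3, 1, 2, 0, 3, 2, 4, 3, 1, 5, 4, 3, 2, 0, 6, 7], [7, 6, 5, 4, 3, 1, 2, 0, 3, 2, 4, 3, 1, 5, 4, 3, 2, 6, 5, 4], [7, 6, 5, 4, 3, 1, 2, 0, 3, 2, 4, 3, 1, 5, 4, 3, 2, 6, 5, 7], [7, 6, 5, 4, 3, 1, 2, 0, 3, 2, 4, 3, 1, 5, 4, 3, 6, 5, 4, 7], [7, 6, 5, 4, 3, 1, 2, 0, 3, 2, 4, 3, 1, 5, 4, 3, 6, 5, 7, 6], [7, 6, 5, 4, 3, 1, 2, 0, 3, 2, 4, 3, 1, 5, 4, 3, 2, 0, 6, 5, 4], [7, 6, 5, 4, 3, 1, 2, 0, 3, 2, 4, 3, 1, 5, 4, 3, 2,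 0, 6, 5, 7], [7, 6, 5, 4, 3, 1, 2, 0, 3, 2, 4, 3, 1, 5, 4, 3, 2, 6, 5, 4, 3], [7, 6, 5, 4, 3, 1, 2, 0, 3, 2, 4, 3, 1, 5, 4, 3, 2, 6, 5, 4, 7], [7, 6, 5, 4, 3, 1, 2, 0, 3, 2, 4, 3, 1, 5, 4, 3, 2, 6, 5, 7, 6], [7, 6, 5, 4, 3, 1, 2, 0, 3, 2, 4, 3, 1, 5, 4, 3, 6, 5, 4, 7, 6], [7, 6, 5, 4, 3, 1, 2, 0, 3, 2, 4, 3, 1, 5, 4, 3, 2, 0, 6, 5, 4, 3], [7, 6, 5, 4, 3, 1, 2, 0, 3, 2, 4, 3, 1, 5, 4, 3, 2, 0, 6, 5, 4, 7], [7, 6, 5, 4, 3, 1, 2, 0, 3, 2, 4, 3, 1, 5, 4, 3, 2, 0, 6, 5, 7, 6], [7, 6, 5, 4, 3, 1, 2, 0, 3, 2, 4, 3, 1, 5, 4, 3, 2, 6, 5, 4, 3, 1], [7, 6, 5, 4, 3, 1, 2, 0, 3, 2, 4, 3, 1, 5, 4, 3, 2, 6, 5, 4, 3, 7], [7, 6, 5, 4, 3, 1, 2, 0, 3, 2, 4, 3, 1, 5, 4, 3, 2, 6, 5, 4, 7, 6], [7, 6, 5, 4, 3, 1, 2, 0, 3, 2, 4, 3, 1, 5, 4, 3, 6,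 5, 4, 7, 6, 5], [7, 6, 5, 4, 3, 1, 2, 0, 3, 2, 4, 3, 1, 5, 4, 3, 2, 0, 6, 5, 4, 3, 1], [7, 6, 5, 4, 3, 1, 2, 0, 3, 2, 4, 3, 1, 5, 4, 3, 2, 0, 6, 5, 4, 3, 2], [7, 6, 5, 4, 3, 1, 2, 0, 3, 2, 4, 3, 1, 5, 4, 3, 2, 0, 6, 5, 4, 3, 7], [7, 6, 5, 4, 3, 1, 2, 0, 3, 2, 4, 3, 1, 5, 4, 3, 2, 0, 6, 5, 4, 7, 6], [7, 6, 5, 4, 3, 1, 2, 0, 3, 2, 4, 3, 1, 5, 4, 3, 2, 6, 5, 4, 3, 1, 7], [7, 6, 5, 4, 3, 1, 2, 0, 3, 2, 4, 3, 1, 5, 4, 3, 2, 6, 5, 4, 3, 7, 6], [7, 6, 5, 4, 3, 1, 2, 0, 3, 2, 4, 3, 1, 5, 4, 3, 2, 6, 5, 4, 7, 6, 5], [7, 6, 5, 4, 3, 1, 2, 0, 3, 2, 4, 3, 1, 5, 4, 3, 2, 0, 6, 5, 4, 3, 1, 2], [7, 6, 5, 4, 3, 1, 2, 0, 3, 2, 4, 3, 1, 5, 4, 3, 2, 0, 6, 5, 4, 3, 1, 7], [7, 6, 5, 4, 3, 1, 2, 0, 3, 2, 4, 3, 1, 5, 4, 3, 2, 0, 6, 5, 4, 3, 2, 7],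 [7, 6, 5, 4, 3, 1, 2, 0, 3, 2, 4, 3, 1, 5, 4, 3, 2, 0, 6, 5, 4, 3, 7, 6], [7, 6, 5, 4, 3, 1, 2, 0, 3, 2, 4, 3, 1, 5, 4, 3, 2, 0, 6, 5, 4, 7, 6, 5], [7, 6, 5, 4, 3, 1, 2, 0, 3, 2, 4, 3, 1, 5, 4, 3, 2, 6, 5, 4, 3, 1, 7, 6], [7, 6, 5, 4, 3, 1, 2, 0, 3, 2, 4, 3, 1, 5, 4, 3, 2, 6, 5, 4, 3, 7, 6, 5], [7, 6, 5, 4, 3, 1, 2, 0, 3, 2, 4, 3, 1, 5, 4, 3, 2, 0, 6, 5, 4, 3, 1, 2, 3], [7, 6, 5, 4, 3, 1, 2, 0, 3, 2, 4, 3, 1, 5, 4, 3, 2, 0, 6, 5, 4, 3, 1, 2, 7], [7, 6, 5, 4, 3, 1, 2, 0, 3, 2, 4, 3, 1, 5, 4, 3, 2, 0, 6, 5, 4, 3, 1, 7, 6], [7, 6, 5, 4, 3, 1, 2, 0, 3, 2, 4, 3, 1, 5, 4, 3, 2, 0, 6, 5, 4, 3, 2, 7, 6], [7, 6, 5, 4, 3, 1, 2, 0, 3, 2, 4, 3, 1, 5, 4, 3, 2, 0, 6, 5, 4, 3, 7, 6, 5], [7, 6, 5, 4, 3, 1, 2, 0, 3, 2, 4, 3, 1, 5, 4, 3, 2,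 6, 5, 4, 3, 1, 7, 6, 5], [7, 6, 5, 4, 3, 1, 2, 0, 3, 2, 4, 3, 1, 5, 4, 3, 2, 6, 5, 4, 3, 7, 6, 5, 4], [7, 6, 5, 4, 3, 1, 2, 0, 3, 2, 4, 3, 1, 5, 4, 3, 2, 0, 6, 5, 4, 3, 1, 2, 3, 4], [7, 6, 5, 4, 3, 1, 2, 0, 3, 2, 4, 3, 1, 5, 4, 3, 2, 0, 6, 5, 4, 3, 1, 2, 3, 7], [7, 6, 5, 4, 3, 1, 2, 0, 3, 2, 4, 3, 1, 5, 4, 3, 2, 0, 6, 5, 4, 3, 1, 2, 7, 6], [7, 6, 5, 4, 3, 1, 2, 0, 3, 2, 4, 3, 1, 5, 4, 3, 2, 0, 6, 5, 4, 3, 1, 7, 6, 5], [7, 6, 5, 4, 3, 1, 2, 0, 3, 2, 4, 3, 1, 5, 4, 3, 2, 0, 6, 5, 4, 3, 2, 7, 6, 5], [7, 6, 5, 4, 3, 1, 2, 0, 3, 2, 4, 3, 1, 5, 4, 3, 2, 0, 6, 5, 4, 3, 7, 6, 5, 4], [7, 6, 5, 4, 3, 1, 2, 0, 3, 2, 4, 3, 1, 5, 4, 3, 2, 6, 5, 4, 3, 1, 7, 6, 5, 4], [7, 6, 5, 4, 3, 1, 2, 0, 3, 2, 4, 3, 1, 5, 4, 3, 2, 0, 6, 5, 4, 3, 1, 2,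 3, 4, 5], [7, 6, 5, 4, 3, 1, 2, 0, 3, 2, 4, 3, 1, 5, 4, 3, 2, 0, 6, 5, 4, 3, 1, 2, 3, 4, 7], [7, 6, 5, 4, 3, 1, 2, 0, 3, 2, 4, 3, 1, 5, 4, 3, 2, 0, 6, 5, 4, 3, 1, 2, 3, 7, 6], [7, 6, 5, 4, 3, 1, 2, 0, 3, 2, 4, 3, 1, 5, 4, 3, 2, 0, 6, 5, 4, 3, 1, 2, 7, 6, 5], [7, 6, 5, 4, 3, 1, 2, 0, 3, 2, 4, 3, 1, 5, 4, 3, 2, 0, 6, 5, 4, 3, 1, 7, 6, 5, 4], [7, 6, 5, 4, 3, 1, 2, 0, 3, 2, 4, 3, 1, 5, 4, 3, 2, 0, 6, 5, 4, 3, 2, 7, 6, 5, 4], [7, 6, 5, 4, 3, 1, 2, 0, 3, 2, 4, 3, 1, 5, 4, 3, 2, 6, 5, 4, 3, 1, 7, 6, 5, 4, 3], [7, 6, 5, 4, 3, 1, 2, 0, 3, 2, 4, 3, 1, 5, 4, 3, 2, 0, 6, 5, 4, 3, 1, 2, 3, 4, 5, 6], [7, 6, 5, 4, 3, 1, 2, 0, 3, 2, 4, 3, 1, 5, 4, 3, 2, 0, 6, 5, 4, 3, 1, 2, 3, 4, 5, 7], [7, 6, 5, 4, 3, 1, 2, 0, 3, 2, 4, 3, 1, 5, 4, 3, 2, 0,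 6, 5, 4, 3, 1, 2, 3, 4, 7, 6], [7, 6, 5, 4, 3, 1, 2, 0, 3, 2, 4, 3, 1, 5, 4, 3, 2, 0, 6, 5, 4, 3, 1, 2, 3, 7, 6, 5], [7, 6, 5, 4, 3, 1, 2, 0, 3, 2, 4, 3, 1, 5, 4, 3, 2, 0, 6, 5, 4, 3, 1, 2, 7, 6, 5, 4], [7, 6, 5, 4, 3, 1, 2, 0, 3, 2, 4, 3, 1, 5, 4, 3, 2, 0, 6, 5, 4, 3, 1, 7, 6, 5, 4, 3], [7, 6, 5, 4, 3, 1, 2, 0, 3, 2, 4, 3, 1, 5, 4, 3, 2, 0, 6, 5, 4, 3, 2, 7, 6, 5, 4, 3], [7, 6, 5, 4, 3, 1, 2, 0, 3, 2, 4, 3, 1, 5, 4, 3, 2, 6, 5, 4, 3, 1, 7, 6, 5, 4, 3, 2], [7, 6, 5, 4, 3, 1, 2, 0, 3, 2, 4, 3, 1, 5, 4, 3, 2, 0, 6, 5, 4, 3, 1, 2, 3, 4, 5, 6, 7], [7, 6, 5, 4, 3, 1, 2, 0, 3, 2, 4, 3, 1, 5, 4, 3, 2, 0, 6, 5, 4, 3, 1, 2, 3, 4, 5, 7, 6], [7, 6, 5, 4, 3, 1, 2, 0, 3, 2, 4, 3, 1, 5, 4, 3, 2, 0, 6, 5, 4, 3, 1, 2, 3, 4, 7, 6, 5], [7, 6,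 5, 4, 3, 1, 2, 0, 3, 2, 4, 3, 1, 5, 4, 3, 2, 0, 6, 5, 4, 3, 1, 2, 3, 7, 6, 5, 4], [7, 6, 5, 4, 3, 1, 2, 0, 3, 2, 4, 3, 1, 5, 4, 3, 2, 0, 6, 5, 4, 3, 1, 2, 7, 6, 5, 4, 3], [7, 6, 5, 4, 3, 1, 2, 0, 3, 2, 4, 3, 1, 5, 4, 3, 2, 0, 6, 5, 4, 3, 1, 7, 6, 5, 4, 3, 2], [7, 6, 5, 4, 3, 1, 2, 0, 3, 2, 4, 3, 1, 5, 4, 3, 2, 0, 6, 5, 4, 3, 2, 7, 6, 5, 4, 3, 1], [7, 6, 5, 4, 3, 1, 2, 0, 3, 2, 4, 3, 1, 5, 4, 3, 2, 6, 5, 4, 3, 1, 7, 6, 5, 4, 3, 2, 0], [7, 6, 5, 4, 3, 1, 2, 0, 3, 2, 4, 3, 1, 5, 4, 3, 2, 0, 6, 5, 4, 3, 1, 2, 3, 4, 5, 6, 7, 6], [7, 6, 5, 4, 3, 1, 2, 0, 3, 2, 4, 3, 1, 5, 4, 3, 2, 0, 6, 5, 4, 3, 1, 2, 3, 4, 5, 7, 6, 5], [7, 6, 5, 4, 3, 1, 2, 0, 3, 2, 4, 3, 1, 5, 4, 3, 2, 0, 6, 5, 4, 3, 1, 2, 3, 4, 7, 6, 5, 4], [7, 6, 5, 4, 3, 1,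 2, 0, 3, 2, 4, 3, 1, 5, 4, 3, 2, 0, 6, 5, 4, 3, 1, 2, 3, 7, 6, 5, 4, 3], [7, 6, 5, 4, 3, 1, 2, 0, 3, 2, 4, 3, 1, 5, 4, 3, 2, 0, 6, 5, 4, 3, 1, 2, 7, 6, 5, 4, 3, 1], [7, 6, 5, 4, 3, 1, 2, 0, 3, 2, 4, 3, 1, 5, 4, 3, 2, 0, 6, 5, 4, 3, 1, 2, 7, 6, 5, 4, 3, 2], [7, 6, 5, 4, 3, 1, 2, 0, 3, 2, 4, 3, 1, 5, 4, 3, 2, 0, 6, 5, 4, 3, 1, 7, 6, 5, 4, 3, 2, 0], [7, 6, 5, 4, 3, 1, 2, 0, 3, 2, 4, 3, 1, 5, 4, 3, 2, 0, 6, 5, 4, 3, 1, 2, 3, 4, 5, 6, 7, 6, 5], [7, 6, 5, 4, 3, 1, 2, 0, 3, 2, 4, 3, 1, 5, 4, 3, 2, 0, 6, 5, 4, 3, 1, 2, 3, 4, 5, 7, 6, 5, 4], [7, 6, 5, 4, 3, 1, 2, 0, 3, 2, 4, 3, 1, 5, 4, 3, 2, 0, 6, 5, 4, 3, 1, 2, 3, 4, 7, 6, 5, 4, 3], [7, 6, 5, 4, 3, 1, 2, 0, 3, 2, 4, 3, 1, 5, 4, 3, 2, 0, 6, 5, 4, 3, 1, 2, 3, 7, 6, 5, 4, 3, 1], [7,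 6, 5, 4, 3, 1, 2, 0, 3, 2, 4, 3, 1, 5, 4, 3, 2, 0, 6, 5, 4, 3, 1, 2, 3, 7, 6, 5, 4, 3, 2], [7, 6, 5, 4, 3, 1, 2, 0, 3, 2, 4, 3, 1, 5, 4, 3, 2, 0, 6, 5, 4, 3, 1, 2, 7, 6, 5, 4, 3, 1, 2], [7, 6, 5, 4, 3, 1, 2, 0, 3, 2, 4, 3, 1, 5, 4, 3, 2, 0, 6, 5, 4, 3, 1, 2, 7, 6, 5, 4, 3, 2, 0], [7, 6, 5, 4, 3, 1, 2, 0, 3, 2, 4, 3, 1, 5, 4, 3, 2, 0, 6, 5, 4, 3, 1, 2, 3, 4, 5, 6, 7, 6, 5, 4], [7, 6, 5, 4, 3, 1, 2, 0, 3, 2, 4, 3, 1, 5, 4, 3, 2, 0, 6, 5, 4, 3, 1, 2, 3, 4, 5, 7, 6, 5, 4, 3], [7, 6, 5, 4, 3, 1, 2, 0, 3, 2, 4, 3, 1, 5, 4, 3, 2, 0, 6, 5, 4, 3, 1, 2, 3, 4, 7, 6, 5, 4, 3, 1], [7, 6, 5, 4, 3, 1, 2, 0, 3, 2, 4, 3, 1, 5, 4, 3, 2, 0, 6, 5, 4, 3, 1, 2, 3, 4, 7, 6, 5, 4, 3, 2], [7, 6, 5, 4, 3, 1, 2, 0, 3, 2, 4, 3, 1, 5, 4, 3, 2, 0, 6, 5,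 4, 3, 1, 2, 3, 7, 6, 5, 4, 3, 1, 2], [7, 6, 5, 4, 3, 1, 2, 0, 3, 2, 4, 3, 1, 5, 4, 3, 2, 0, 6, 5, 4, 3, 1, 2, 3, 7, 6, 5, 4, 3, 2, 0], [7, 6, 5, 4, 3, 1, 2, 0, 3, 2, 4, 3, 1, 5, 4, 3, 2, 0, 6, 5, 4, 3, 1, 2, 7, 6, 5, 4, 3, 1, 2, 0], [7, 6, 5, 4, 3, 1, 2, 0, 3, 2, 4, 3, 1, 5, 4, 3, 2, 0, 6, 5, 4, 3, 1, 2, 3, 4, 5, 6, 7, 6, 5, 4, 3], [7, 6, 5, 4, 3, 1, 2, 0, 3, 2, 4, 3, 1, 5, 4, 3, 2, 0, 6, 5, 4, 3, 1, 2, 3, 4, 5, 7, 6, 5, 4, 3, 1], [7, 6, 5, 4, 3, 1, 2, 0, 3, 2, 4, 3, 1, 5, 4, 3, 2, 0, 6, 5, 4, 3, 1, 2, 3, 4, 5, 7, 6, 5, 4, 3, 2], [7, 6, 5, 4, 3, 1, 2, 0, 3, 2, 4, 3, 1, 5, 4, 3, 2, 0, 6, 5, 4, 3, 1, 2, 3, 4, 7, 6, 5, 4, 3, 1, 2], [7, 6, 5, 4, 3, 1, 2, 0, 3, 2, 4, 3, 1, 5, 4, 3, 2, 0, 6, 5, 4, 3, 1, 2, 3, 4, 7, 6, 5, 4, 3, 2,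 0], [7, 6, 5, 4, 3, 1, 2, 0, 3, 2, 4, 3, 1, 5, 4, 3, 2, 0, 6, 5, 4, 3, 1, 2, 3, 7, 6, 5, 4, 3, 1, 2, 0], [7, 6, 5, 4, 3, 1, 2, 0, 3, 2, 4, 3, 1, 5, 4, 3, 2, 0, 6, 5, 4, 3, 1, 2, 3, 7, 6, 5, 4, 3, 1, 2, 3], [7, 6, 5, 4, 3, 1, 2, 0, 3, 2, 4, 3, 1, 5, 4, 3, 2, 0, 6, 5, 4, 3, 1, 2, 3, 4, 5, 6, 7, 6, 5, 4, 3, 1], [7, 6, 5, 4, 3, 1, 2, 0, 3, 2, 4, 3, 1, 5, 4, 3, 2, 0, 6, 5, 4, 3, 1, 2, 3, 4, 5, 6, 7, 6, 5, 4, 3, 2], [7, 6, 5, 4, 3, 1, 2, 0, 3, 2, 4, 3, 1, 5, 4, 3, 2, 0, 6, 5, 4, 3, 1, 2, 3, 4, 5, 7, 6, 5, 4, 3, 1, 2], [7, 6, 5, 4, 3, 1, 2, 0, 3, 2, 4, 3, 1, 5, 4, 3, 2, 0, 6, 5, 4, 3, 1, 2, 3, 4, 5, 7, 6, 5, 4, 3, 2, 0], [7, 6, 5, 4, 3, 1, 2, 0, 3, 2, 4, 3, 1, 5, 4, 3, 2, 0, 6, 5, 4, 3, 1, 2, 3, 4, 7, 6, 5, 4, 3, 1, 2, 0], [7, 6,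 5, 4, 3, 1, 2, 0, 3, 2, 4, 3, 1, 5, 4, 3, 2, 0, 6, 5, 4, 3, 1, 2, 3, 4, 7, 6, 5, 4, 3, 1, 2, 3], [7, 6, 5, 4, 3, 1, 2, 0, 3, 2, 4, 3, 1, 5, 4, 3, 2, 0, 6, 5, 4, 3, 1, 2, 3, 7, 6, 5, 4, 3, 1, 2, 0, 3], [7, 6, 5, 4, 3, 1, 2, 0, 3, 2, 4, 3, 1, 5, 4, 3, 2, 0, 6, 5, 4, 3, 1, 2, 3, 4, 5, 6, 7, 6, 5, 4, 3, 1, 2], [7, 6, 5, 4, 3, 1, 2, 0, 3, 2, 4, 3, 1, 5, 4, 3, 2, 0, 6, 5, 4, 3, 1, 2, 3, 4, 5, 6, 7, 6, 5, 4, 3, 2, 0], [7, 6, 5, 4, 3, 1, 2, 0, 3, 2, 4, 3, 1, 5, 4, 3, 2, 0, 6, 5, 4, 3, 1, 2, 3, 4, 5, 7, 6, 5, 4, 3, 1, 2, 0], [7, 6, 5, 4, 3, 1, 2, 0, 3, 2, 4, 3, 1, 5, 4, 3, 2, 0, 6, 5, 4, 3, 1, 2, 3, 4, 5, 7, 6, 5, 4, 3, 1, 2, 3], [7, 6, 5, 4, 3, 1, 2, 0, 3, 2, 4, 3, 1, 5, 4, 3, 2, 0, 6, 5, 4, 3, 1, 2, 3, 4, 7, 6, 5, 4, 3, 1, 2, 0, 3],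 [7, 6, 5, 4, 3, 1, 2, 0, 3, 2, 4, 3, 1, 5, 4, 3, 2, 0, 6, 5, 4, 3, 1, 2, 3, 4, 7, 6, 5, 4, 3, 1, 2, 3, 4], [7, 6, 5, 4, 3, 1, 2, 0, 3, 2, 4, 3, 1, 5, 4, 3, 2, 0, 6, 5, 4, 3, 1, 2, 3, 7, 6, 5, 4, 3, 1, 2, 0, 3, 2], [7, 6, 5, 4, 3, 1, 2, 0, 3, 2, 4, 3, 1, 5, 4, 3, 2, 0, 6, 5, 4, 3, 1, 2, 3, 4, 5, 6, 7, 6, 5, 4, 3, 1, 2, 0], [7, 6, 5, 4, 3, 1, 2, 0, 3, 2, 4, 3, 1, 5, 4, 3, 2, 0, 6, 5, 4, 3, 1, 2, 3, 4, 5, 6, 7, 6, 5, 4, 3, 1, 2, 3], [7, 6, 5, 4, 3, 1, 2, 0, 3, 2, 4, 3, 1, 5, 4, 3, 2, 0, 6, 5, 4, 3, 1, 2, 3, 4, 5, 7, 6, 5, 4, 3, 1, 2, 0, 3], [7, 6, 5, 4, 3, 1, 2, 0, 3, 2, 4, 3, 1, 5, 4, 3, 2, 0, 6, 5, 4, 3, 1, 2, 3, 4, 5, 7, 6, 5, 4, 3, 1, 2, 3, 4], [7, 6, 5, 4, 3, 1, 2, 0, 3, 2, 4, 3, 1, 5, 4, 3, 2, 0, 6, 5, 4, 3, 1, 2, 3, 4,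 7, 6, 5, 4, 3, 1, 2, 0, 3, 2], [7, 6, 5, 4, 3, 1, 2, 0, 3, 2, 4, 3, 1, 5, 4, 3, 2, 0, 6, 5, 4, 3, 1, 2, 3, 4, 7, 6, 5, 4, 3, 1, 2, 0, 3, 4], [7, 6, 5, 4, 3, 1, 2, 0, 3, 2, 4, 3, 1, 5, 4, 3, 2, 0, 6, 5, 4, 3, 1, 2, 3, 4, 5, 6, 7, 6, 5, 4, 3, 1, 2, 0, 3], [7, 6, 5, 4, 3, 1, 2, 0, 3, 2, 4, 3, 1, 5, 4, 3, 2, 0, 6, 5, 4, 3, 1, 2, 3, 4, 5, 6, 7, 6, 5, 4, 3, 1, 2, 3, 4], [7, 6, 5, 4, 3, 1, 2, 0, 3, 2, 4, 3, 1, 5, 4, 3, 2, 0, 6, 5, 4, 3, 1, 2, 3, 4, 5, 7, 6, 5, 4, 3, 1, 2, 0, 3, 2], [7, 6, 5, 4, 3, 1, 2, 0, 3, 2, 4, 3, 1, 5, 4, 3, 2, 0, 6, 5, 4, 3, 1, 2, 3, 4, 5, 7, 6, 5, 4, 3, 1, 2, 0, 3, 4], [7, 6, 5, 4, 3, 1, 2, 0, 3, 2, 4, 3, 1, 5, 4, 3, 2, 0, 6, 5, 4, 3, 1, 2, 3, 4, 5, 7, 6, 5, 4, 3, 1, 2, 3, 4, 5], [7, 6, 5, 4, 3, 1, 2, 0, 3,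 2, 4, 3, 1, 5, 4, 3, 2, 0, 6, 5, 4, 3, 1, 2, 3, 4, 7, 6, 5, 4, 3, 1, 2, 0, 3, 2, 4], [7, 6, 5, 4, 3, 1, 2, 0, 3, 2, 4, 3, 1, 5, 4, 3, 2, 0, 6, 5, 4, 3, 1, 2, 3, 4, 5, 6, 7, 6, 5, 4, 3, 1, 2, 0, 3, 2], [7, 6, 5, 4, 3, 1, 2, 0, 3, 2, 4, 3, 1, 5, 4, 3, 2, 0, 6, 5, 4, 3, 1, 2, 3, 4, 5, 6, 7, 6, 5, 4, 3, 1, 2, 0, 3, 4], [7, 6, 5, 4, 3, 1, 2, 0, 3, 2, 4, 3, 1, 5, 4, 3, 2, 0, 6, 5, 4, 3, 1, 2, 3, 4, 5, 6, 7, 6, 5, 4, 3, 1, 2, 3, 4, 5], [7, 6, 5, 4, 3, 1, 2, 0, 3, 2, 4, 3, 1, 5, 4, 3, 2, 0, 6, 5, 4, 3, 1, 2, 3, 4, 5, 7, 6, 5, 4, 3, 1, 2, 0, 3, 2, 4], [7, 6, 5, 4, 3, 1, 2, 0, 3, 2, 4, 3, 1, 5, 4, 3, 2, 0, 6, 5, 4, 3, 1, 2, 3, 4, 5, 7, 6, 5, 4, 3, 1, 2, 0, 3, 4, 5], [7, 6, 5, 4, 3, 1, 2, 0, 3, 2, 4, 3, 1, 5, 4, 3, 2, 0, 6, 5, 4, 3, 1,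 2, 3, 4, 7, 6, 5, 4, 3, 1, 2, 0, 3, 2, 4, 3], [7, 6, 5, 4, 3, 1, 2, 0, 3, 2, 4, 3, 1, 5, 4, 3, 2, 0, 6, 5, 4, 3, 1, 2, 3, 4, 5, 6, 7, 6, 5, 4, 3, 1, 2, 0, 3, 2, 4], [7, 6, 5, 4, 3, 1, 2, 0, 3, 2, 4, 3, 1, 5, 4, 3, 2, 0, 6, 5, 4, 3, 1, 2, 3, 4, 5, 6, 7, 6, 5, 4, 3, 1, 2, 0, 3, 4, 5], [7, 6, 5, 4, 3, 1, 2, 0, 3, 2, 4, 3, 1, 5, 4, 3, 2, 0, 6, 5, 4, 3, 1, 2, 3, 4, 5, 6, 7, 6, 5, 4, 3, 1, 2, 3, 4, 5, 6], [7, 6, 5, 4, 3, 1, 2, 0, 3, 2, 4, 3, 1, 5, 4, 3, 2, 0, 6, 5, 4, 3, 1, 2, 3, 4, 5, 7, 6, 5, 4, 3, 1, 2, 0, 3, 2, 4, 3], [7, 6, 5, 4, 3, 1, 2, 0, 3, 2, 4, 3, 1, 5, 4, 3, 2, 0, 6, 5, 4, 3, 1, 2, 3, 4, 5, 7, 6, 5, 4, 3, 1, 2, 0, 3, 2, 4, 5], [7, 6, 5, 4, 3, 1, 2, 0, 3, 2, 4, 3, 1, 5, 4, 3, 2, 0, 6, 5, 4, 3, 1, 2, 3, 4, 7, 6, 5, 4, 3,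 1, 2, 0, 3, 2, 4, 3, 1], [7, 6, 5, 4, 3, 1, 2, 0, 3, 2, 4, 3, 1, 5, 4, 3, 2, 0, 6, 5, 4, 3, 1, 2, 3, 4, 5, 6, 7, 6, 5, 4, 3, 1, 2, 0, 3, 2, 4, 3], [7, 6, 5, 4, 3, 1, 2, 0, 3, 2, 4, 3, 1, 5, 4, 3, 2, 0, 6, 5, 4, 3, 1, 2, 3, 4, 5, 6, 7, 6, 5, 4, 3, 1, 2, 0, 3, 2, 4, 5], [7, 6, 5, 4, 3, 1, 2, 0, 3, 2, 4, 3, 1, 5, 4, 3, 2, 0, 6, 5, 4, 3, 1, 2, 3, 4, 5, 6, 7, 6, 5, 4, 3, 1, 2, 0, 3, 4, 5, 6], [7, 6, 5, 4, 3, 1, 2, 0, 3, 2, 4, 3, 1, 5, 4, 3, 2, 0, 6, 5, 4, 3, 1, 2, 3, 4, 5, 7, 6, 5, 4, 3, 1, 2, 0, 3, 2, 4, 3, 1], [7, 6, 5, 4, 3, 1, 2, 0, 3, 2, 4, 3, 1, 5, 4, 3, 2, 0, 6, 5, 4, 3, 1, 2, 3, 4, 5, 7, 6, 5, 4, 3, 1, 2, 0, 3, 2, 4, 3, 5], [7, 6, 5, 4, 3, 1, 2, 0, 3, 2, 4, 3, 1, 5, 4, 3, 2, 0, 6, 5, 4, 3, 1, 2, 3, 4, 5, 6, 7, 6, 5, 4, 3,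 1, 2, 0, 3, 2, 4, 3, 1], [7, 6, 5, 4, 3, 1, 2, 0, 3, 2, 4, 3, 1, 5, 4, 3, 2, 0, 6, 5, 4, 3, 1, 2, 3, 4, 5, 6, 7, 6, 5, 4, 3, 1, 2, 0, 3, 2, 4, 3, 5], [7, 6, 5, 4, 3, 1, 2, 0, 3, 2, 4, 3, 1, 5, 4, 3, 2, 0, 6, 5, 4, 3, 1, 2, 3, 4, 5, 6, 7, 6, 5, 4, 3, 1, 2, 0, 3, 2, 4, 5, 6], [7, 6, 5, 4, 3, 1, 2, 0, 3, 2, 4, 3, 1, 5, 4, 3, 2, 0, 6, 5, 4, 3, 1, 2, 3, 4, 5, 7, 6, 5, 4, 3, 1, 2, 0, 3, 2, 4, 3, 1, 5], [7, 6, 5, 4, 3, 1, 2, 0, 3, 2, 4, 3, 1, 5, 4, 3, 2, 0, 6, 5, 4, 3, 1, 2, 3, 4, 5, 7, 6, 5, 4, 3, 1, 2, 0, 3, 2, 4, 3, 5, 4], [7, 6, 5, 4, 3, 1, 2, 0, 3, 2, 4, 3, 1, 5, 4, 3, 2, 0, 6, 5, 4, 3, 1, 2, 3, 4, 5, 6, 7, 6, 5, 4, 3, 1, 2, 0, 3, 2, 4, 3, 1, 5], [7, 6, 5, 4, 3, 1, 2, 0, 3, 2, 4, 3, 1, 5, 4, 3, 2, 0, 6, 5, 4, 3, 1, 2, 3, 4, 5,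 6, 7, 6, 5, 4, 3, 1, 2, 0, 3, 2, 4, 3, 5, 4], [7, 6, 5, 4, 3, 1, 2, 0, 3, 2, 4, 3, 1, 5, 4, 3, 2, 0, 6, 5, 4, 3, 1, 2, 3, 4, 5, 6, 7, 6, 5, 4, 3, 1, 2, 0, 3, 2, 4, 3, 5, 6], [7, 6, 5, 4, 3, 1, 2, 0, 3, 2, 4, 3, 1, 5, 4, 3, 2, 0, 6, 5, 4, 3, 1, 2, 3, 4, 5, 7, 6, 5, 4, 3, 1, 2, 0, 3, 2, 4, 3, 1, 5, 4], [7, 6, 5, 4, 3, 1, 2, 0, 3, 2, 4, 3, 1, 5, 4, 3, 2, 0, 6, 5, 4, 3, 1, 2, 3, 4, 5, 6, 7, 6, 5, 4, 3, 1, 2, 0, 3, 2, 4, 3, 1, 5, 4], [7, 6, 5, 4, 3, 1, 2, 0, 3, 2, 4, 3, 1, 5, 4, 3, 2, 0, 6, 5, 4, 3, 1, 2, 3, 4, 5, 6, 7, 6, 5, 4, 3, 1, 2, 0, 3, 2, 4, 3, 1, 5, 6], [7, 6, 5, 4, 3, 1, 2, 0, 3, 2, 4, 3, 1, 5, 4, 3, 2, 0, 6, 5, 4, 3, 1, 2, 3, 4, 5, 6, 7, 6, 5, 4, 3, 1, 2, 0, 3, 2, 4, 3, 5, 4, 6], [7, 6, 5, 4, 3, 1, 2, 0, 3, 2, 4, 3, 1,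 5, 4, 3, 2, 0, 6, 5, 4, 3, 1, 2, 3, 4, 5, 7, 6, 5, 4, 3, 1, 2, 0, 3, 2, 4, 3, 1, 5, 4, 3], [7, 6, 5, 4, 3, 1, 2, 0, 3, 2, 4, 3, 1, 5, 4, 3, 2, 0, 6, 5, 4, 3, 1, 2, 3, 4, 5, 6, 7, 6, 5, 4, 3, 1, 2, 0, 3, 2, 4, 3, 1, 5, 4, 3], [7, 6, 5, 4, 3, 1, 2, 0, 3, 2, 4, 3, 1, 5, 4, 3, 2, 0, 6, 5, 4, 3, 1, 2, 3, 4, 5, 6, 7, 6, 5, 4, 3, 1, 2, 0, 3, 2, 4, 3, 1, 5, 4, 6], [7, 6, 5, 4, 3, 1, 2, 0, 3, 2, 4, 3, 1, 5, 4, 3, 2, 0, 6, 5, 4, 3, 1, 2, 3, 4, 5, 6, 7, 6, 5, 4, 3, 1, 2, 0, 3, 2, 4, 3, 5, 4, 6, 5], [7, 6, 5, 4, 3, 1, 2, 0, 3, 2, 4, 3, 1, 5, 4, 3, 2, 0, 6, 5, 4, 3, 1, 2, 3, 4, 5, 7, 6, 5, 4, 3, 1, 2, 0, 3, 2, 4, 3, 1, 5, 4, 3, 2], [7, 6, 5, 4, 3, 1, 2, 0, 3, 2, 4, 3, 1, 5, 4, 3, 2, 0, 6, 5, 4, 3, 1, 2, 3, 4, 5, 6, 7, 6, 5, 4, 3, 1, 2,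 0, 3, 2, 4, 3, 1, 5, 4, 3, 2], [7, 6, 5, 4, 3, 1, 2, 0, 3, 2, 4, 3, 1, 5, 4, 3, 2, 0, 6, 5, 4, 3, 1, 2, 3, 4, 5, 6, 7, 6, 5, 4, 3, 1, 2, 0, 3, 2, 4, 3, 1, 5, 4, 3, 6], [7, 6, 5, 4, 3, 1, 2, 0, 3, 2, 4, 3, 1, 5, 4, 3, 2, 0, 6, 5, 4, 3, 1, 2, 3, 4, 5, 6, 7, 6, 5, 4, 3, 1, 2, 0, 3, 2, 4, 3, 1, 5, 4, 6, 5], [7, 6, 5, 4, 3, 1, 2, 0, 3, 2, 4, 3, 1, 5, 4, 3, 2, 0, 6, 5, 4, 3, 1, 2, 3, 4, 5, 7, 6, 5, 4, 3, 1, 2, 0, 3, 2, 4, 3, 1, 5, 4, 3, 2, 0], [7, 6, 5, 4, 3, 1, 2, 0, 3, 2, 4, 3, 1, 5, 4, 3, 2, 0, 6, 5, 4, 3, 1, 2, 3, 4, 5, 6, 7, 6, 5, 4, 3, 1, 2, 0, 3, 2, 4, 3, 1, 5, 4, 3, 2, 0], [7, 6, 5, 4, 3, 1, 2, 0, 3, 2, 4, 3, 1, 5, 4, 3, 2, 0, 6, 5, 4, 3, 1, 2, 3, 4, 5, 6, 7, 6, 5, 4, 3, 1, 2, 0, 3, 2, 4, 3, 1, 5, 4, 3, 2, 6], [7, 6, 5, 4,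 3, 1, 2, 0, 3, 2, 4, 3, 1, 5, 4, 3, 2, 0, 6, 5, 4, 3, 1, 2, 3, 4, 5, 6, 7, 6, 5, 4, 3, 1, 2, 0, 3, 2, 4, 3, 1, 5, 4, 3, 6, 5], [7, 6, 5, 4, 3, 1, 2, 0, 3, 2, 4, 3, 1, 5, 4, 3, 2, 0, 6, 5, 4, 3, 1, 2, 3, 4, 5, 6, 7, 6, 5, 4, 3, 1, 2, 0, 3, 2, 4, 3, 1, 5, 4, 3, 2, 0, 6], [7, 6, 5, 4, 3, 1, 2, 0, 3, 2, 4, 3, 1, 5, 4, 3, 2, 0, 6, 5, 4, 3, 1, 2, 3, 4, 5, 6, 7, 6, 5, 4, 3, 1, 2, 0, 3, 2, 4, 3, 1, 5, 4, 3, 2, 6, 5], [7, 6, 5, 4, 3, 1, 2, 0, 3, 2, 4, 3, 1, 5, 4, 3, 2, 0, 6, 5, 4, 3, 1, 2, 3, 4, 5, 6, 7, 6, 5, 4, 3, 1, 2, 0, 3, 2, 4, 3, 1, 5, 4, 3, 6, 5, 4], [7, 6, 5, 4, 3, 1, 2, 0, 3, 2, 4, 3, 1, 5, 4, 3, 2, 0, 6, 5, 4, 3, 1, 2, 3, 4, 5, 6, 7, 6, 5, 4, 3, 1, 2, 0, 3, 2, 4, 3, 1, 5, 4, 3, 2, 0, 6, 5], [7, 6, 5, 4, 3, 1, 2, 0, 3, 2,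 4, 3, 1, 5, 4, 3, 2, 0, 6, 5, 4, 3, 1, 2, 3, 4, 5, 6, 7, 6, 5, 4, 3, 1, 2, 0, 3, 2, 4, 3, 1, 5, 4, 3, 2, 6, 5, 4], [7, 6, 5, 4, 3, 1, 2, 0, 3, 2, 4, 3, 1, 5, 4, 3, 2, 0, 6, 5, 4, 3, 1, 2, 3, 4, 5, 6, 7, 6, 5, 4, 3, 1, 2, 0, 3, 2, 4, 3, 1, 5, 4, 3, 2, 0, 6, 5, 4], [7, 6, 5, 4, 3, 1, 2, 0, 3, 2, 4, 3, 1, 5, 4, 3, 2, 0, 6, 5, 4, 3, 1, 2, 3, 4, 5, 6, 7, 6, 5, 4, 3, 1, 2, 0, 3, 2, 4, 3, 1, 5, 4, 3, 2, 6, 5, 4, 3], [7, 6, 5, 4, 3, 1, 2, 0, 3, 2, 4, 3, 1, 5, 4, 3, 2, 0, 6, 5, 4, 3, 1, 2, 3, 4, 5, 6, 7, 6, 5, 4, 3, 1, 2, 0, 3, 2, 4, 3, 1, 5, 4, 3, 2, 0, 6, 5, 4, 3], [7, 6, 5, 4, 3, 1, 2, 0, 3, 2, 4, 3, 1, 5, 4, 3, 2, 0, 6, 5, 4, 3, 1, 2, 3, 4, 5, 6, 7, 6, 5, 4, 3, 1, 2, 0, 3, 2, 4, 3, 1, 5, 4, 3, 2, 6, 5, 4, 3, 1], [7, 6, 5, 4, 3,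 1, 2, 0, 3, 2, 4, 3, 1, 5, 4, 3, 2, 0, 6, 5, 4, 3, 1, 2, 3, 4, 5, 6, 7, 6, 5, 4, 3, 1, 2, 0, 3, 2, 4, 3, 1, 5, 4, 3, 2, 0, 6, 5, 4, 3, 1], [7, 6, 5, 4, 3, 1, 2, 0, 3, 2, 4, 3, 1, 5, 4, 3, 2, 0, 6, 5, 4, 3, 1, 2, 3, 4, 5, 6, 7, 6, 5, 4, 3, 1, 2, 0, 3, 2, 4, 3, 1, 5, 4, 3, 2, 0, 6, 5, 4, 3, 2], [7, 6, 5, 4, 3, 1, 2, 0, 3, 2, 4, 3, 1, 5, 4, 3, 2, 0, 6, 5, 4, 3, 1, 2, 3, 4, 5, 6, 7, 6, 5, 4, 3, 1, 2, 0, 3, 2, 4, 3, 1, 5, 4, 3, 2, 0, 6, 5, 4, 3, 1, 2], [7, 6, 5, 4, 3, 1, 2, 0, 3, 2, 4, 3, 1, 5, 4, 3, 2, 0, 6, 5, 4, 3, 1, 2, 3, 4, 5, 6, 7, 6, 5, 4, 3, 1, 2, 0, 3, 2, 4, 3, 1, 5, 4, 3, 2, 0, 6, 5, 4, 3, 1, 2, 3], [7, 6, 5, 4, 3, 1, 2, 0, 3, 2, 4, 3, 1, 5, 4, 3, 2, 0, 6, 5, 4, 3, 1, 2, 3, 4, 5, 6, 7, 6, 5, 4, 3, 1, 2, 0, 3, 2, 4, 3,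 1, 5, 4, 3, 2, 0, 6, 5, 4, 3, 1, 2, 3, 4], [7, 6, 5, 4, 3, 1, 2, 0, 3, 2, 4, 3, 1, 5, 4, 3, 2, 0, 6, 5, 4, 3, 1, 2, 3, 4, 5, 6, 7, 6, 5, 4, 3, 1, 2, 0, 3, 2, 4, 3, 1, 5, 4, 3, 2, 0, 6, 5, 4, 3, 1, 2, 3, 4, 5], [7, 6, 5, 4, 3, 1, 2, 0, 3, 2, 4, 3, 1, 5, 4, 3, 2, 0, 6, 5, 4, 3, 1, 2, 3, 4, 5, 6, 7, 6, 5, 4, 3, 1, 2, 0, 3, 2, 4, 3, 1, 5, 4, 3, 2, 0, 6, 5, 4, 3, 1, 2, 3, 4, 5, 6], [7, 6, 5, 4, 3, 1, 2, 0, 3, 2, 4, 3, 1, 5, 4, 3, 2, 0, 6, 5, 4, 3, 1, 2, 3, 4, 5, 6, 7, 6, 5, 4, 3, 1, 2, 0, 3, 2, 4, 3, 1, 5, 4, 3, 2, 0, 6, 5, 4, 3, 1, 2, 3, 4, 5, 6, 7]]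
  tau := [[0, 0, 0, 0, 0, 0, 0, 1], [1, 1, 1, 1, 1, 1, 2, 0], [2, 2, 2, 2, 2, 3, 1, 2], [3, 3, 3, 3, 4, 2, 3, 3], [4, 4, 4, 5, 3, 4, 4, 4], [5, 6, 7, 4, 5, 5, 5, 5], [6, 5, 8, 6, 6, 6, 6, 6], [9, 8, 5, 7, 7, 7, 7, 7], [10, 7, 6, 11, 8, 8, 8, 8], [7, 10, 9, 9, 9, 9, 9, 9], [8, 9, 10, 12, 10, 10, 10, 10], [12, 11, 11, 8, 13, 11, 11, 11], [11, 12, 14, 10, 15, 12, 12, 12], [15, 13, 13, 13, 11, 16, 13, 13], [14, 14, 12, 14, 17, 14, 14, 14], [13, 15, 17, 15, 12, 18, 15, 15], [18, 16, 16, 16, 16, 13, 19, 16], [17, 17, 15, 20, 14, 21, 17, 17], [16, 18, 21, 18, 18, 15, 22, 18], [22, 19, 19, 19, 19, 19, 16, 23], [20, 24, 20, 17, 20, 25, 20, 20], [21, 21, 18, 25, 21, 17, 26, 21], [19, 22, 26, 22, 22, 22, 18, 27], [27, 23, 23, 23, 23,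 23, 23, 19], [24, 20, 24, 24, 24, 28, 24, 24], [25, 28, 25, 21, 29, 20, 30, 25], [26, 26, 22, 30, 26, 26, 21, 31], [23, 27, 31, 27, 27, 27, 27, 22], [28, 25, 28, 28, 32, 24, 33, 28], [29, 32, 29, 29, 25, 29, 34, 29], [30, 33, 30, 26, 34, 30, 25, 35], [31, 31, 27, 35, 31, 31, 31, 26], [32, 29, 32, 36, 28, 32, 37, 32], [33, 30, 33, 33, 37, 33, 28, 38], [34, 37, 34, 34, 30, 39, 29, 40], [35, 38, 35, 31, 40, 35, 35, 30], [36, 36, 41, 32, 36, 36, 42, 36], [37, 34, 37, 42, 33, 43, 32, 44], [38, 35, 38, 38, 44, 38, 38, 33], [39, 43, 39, 39, 39, 34, 39, 45], [40, 44, 40, 40, 35, 45, 40, 34], [46, 41, 36, 41, 41, 41, 47, 41], [42, 42, 47, 37, 42, 48, 36, 49], [43, 39, 43, 48, 43, 37, 43, 50], [44, 40, 44, 49, 38, 50, 44, 37], [45, 50,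 45, 45, 45, 40, 51, 39], [41, 46, 46, 46, 46, 46, 52, 46], [52, 47, 42, 47, 47, 53, 41, 54], [48, 48, 53, 43, 55, 42, 48, 56], [49, 49, 54, 44, 49, 56, 49, 42], [50, 45, 50, 56, 50, 44, 57, 43], [51, 57, 51, 51, 51, 51, 45, 51], [47, 52, 52, 52, 52, 58, 46, 59], [58, 53, 48, 53, 60, 47, 53, 61], [59, 54, 49, 54, 54, 61, 54, 47], [55, 55, 60, 55, 48, 55, 55, 62], [56, 56, 61, 50, 62, 49, 63, 48], [57, 51, 57, 63, 57, 57, 50, 57], [53, 58, 58, 58, 64, 52, 58, 65], [54, 59, 59, 59, 59, 65, 59, 52], [64, 60, 55, 66, 53, 60, 60, 67], [65, 61, 56, 61, 67, 54, 68, 53], [62, 62, 67, 62, 56, 62, 69, 55], [63, 63, 68, 57, 69, 63, 56, 63], [60, 64, 64, 70, 58, 64, 64, 71], [61, 65, 65, 65, 71, 59, 72, 58], [70, 73, 66, 60, 66, 66, 66,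 74], [71, 67, 62, 74, 61, 67, 75, 60], [72, 68, 63, 68, 75, 68, 61, 68], [69, 69, 75, 69, 63, 76, 62, 69], [66, 77, 78, 64, 70, 70, 70, 79], [67, 71, 71, 79, 65, 71, 80, 64], [68, 72, 72, 72, 80, 72, 65, 72], [77, 66, 73, 73, 73, 73, 73, 81], [79, 81, 74, 67, 74, 74, 82, 66], [80, 75, 69, 82, 68, 83, 67, 75], [76, 76, 83, 76, 76, 69, 76, 76], [73, 70, 84, 77, 77, 77, 77, 85], [78, 84, 70, 78, 78, 78, 78, 86], [74, 85, 86, 71, 79, 79, 87, 70], [75, 80, 80, 87, 72, 88, 71, 80], [85, 74, 81, 81, 81, 81, 89, 73], [87, 89, 82, 75, 82, 90, 74, 82], [88, 83, 76, 90, 83, 75, 83, 83], [84, 78, 77, 91, 84, 84, 84, 92], [81, 79, 92, 85, 85, 85, 93, 77], [86, 92, 79, 86, 86, 86, 94, 78], [82, 93, 94, 80, 87, 95, 79, 87], [83, 88, 88, 95,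 88, 80, 88, 88], [93, 82, 89, 89, 89, 96, 81, 89], [95, 96, 90, 83, 97, 82, 90, 90], [91, 91, 91, 84, 98, 91, 91, 99], [92, 86, 85, 99, 92, 92, 100, 84], [89, 87, 100, 93, 93, 101, 85, 93], [94, 100, 87, 94, 94, 102, 86, 94], [90, 101, 102, 88, 103, 87, 95, 95], [101, 90, 96, 96, 104, 89, 96, 96], [103, 104, 97, 97, 90, 97, 97, 97], [98, 98, 98, 98, 91, 105, 98, 106], [99, 99, 99, 92, 106, 99, 107, 91], [100, 94, 93, 107, 100, 108, 92, 100], [96, 95, 108, 101, 109, 93, 101, 101], [102, 108, 95, 102, 110, 94, 102, 102], [97, 109, 110, 103, 95, 103, 103, 103], [109, 97, 104, 111, 96, 104, 104, 104], [105, 105, 105, 105, 105, 98, 112, 113], [106, 106, 106, 106, 99, 113, 114, 98], [107, 107, 107, 100, 114, 115, 99, 107], [108,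 102, 101, 115, 116, 100, 108, 108], [104, 103, 116, 117, 101, 109, 109, 109], [110, 116, 103, 118, 102, 110, 110, 110], [117, 111, 119, 104, 111, 111, 111, 111], [112, 112, 112, 112, 112, 112, 105, 120], [113, 113, 113, 113, 113, 106, 121, 105], [114, 114, 114, 114, 107, 122, 106, 114], [115, 115, 115, 108, 123, 107, 115, 115], [116, 110, 109, 124, 108, 116, 116, 116], [111, 117, 125, 109, 117, 117, 117, 117], [118, 126, 118, 110, 118, 118, 118, 118], [127, 119, 111, 119, 119, 119, 119, 119], [120, 120, 120, 120, 120, 120, 128, 112], [121, 121, 121, 121, 121, 129, 113, 128], [122, 122, 122, 122, 130, 114, 129, 122], [123, 123, 123, 131, 115, 130, 123, 123], [124, 132, 133, 116, 131, 124, 124, 124], [134, 125, 117, 133, 125,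 125, 125, 125], [126, 118, 126, 132, 126, 126, 126, 126], [119, 127, 134, 127, 127, 127, 127, 127], [128, 128, 128, 128, 128, 135, 120, 121], [129, 129, 129, 129, 136, 121, 122, 135], [130, 130, 130, 137, 122, 123, 136, 130], [131, 138, 139, 123, 124, 137, 131, 131], [132, 124, 140, 126, 138, 132, 132, 132], [141, 140, 124, 125, 139, 133, 133, 133], [125, 134, 127, 141, 134, 134, 134, 134], [135, 135, 135, 135, 142, 128, 135, 129], [136, 136, 136, 143, 129, 136, 130, 142], [137, 144, 145, 130, 137, 131, 143, 137], [138, 131, 146, 138, 132, 144, 138, 138], [147, 146, 131, 139, 133, 145, 139, 139], [148, 133, 132, 140, 146, 140, 140, 140], [133, 148, 141, 134, 147, 141, 141, 141], [142, 142, 142, 149, 135, 142, 142, 136], [143,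 150, 151, 136, 143, 143, 137, 149], [144, 137, 152, 144, 144, 138, 150, 144], [153, 152, 137, 145, 145, 139, 151, 145], [154, 139, 138, 155, 140, 152, 146, 146], [139, 154, 147, 147, 141, 153, 147, 147], [140, 141, 148, 148, 154, 148, 148, 148], [149, 156, 157, 142, 149, 149, 149, 143], [150, 143, 158, 150, 150, 150, 144, 156], [159, 158, 143, 151, 151, 151, 145, 157], [160, 145, 144, 161, 152, 146, 158, 152], [145, 160, 153, 153, 153, 147, 159, 153], [146, 147, 154, 162, 148, 160, 154, 154], [162, 155, 155, 146, 155, 161, 155, 155], [156, 149, 163, 156, 156, 156, 156, 150], [164, 163, 149, 157, 157, 157, 157, 151], [165, 151, 150, 166, 158, 158, 152, 163], [151, 165, 159, 159, 159, 159, 153, 164], [152, 153, 160, 167, 160,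 154, 165, 160], [167, 161, 161, 152, 168, 155, 166, 161], [155, 162, 169, 154, 162, 167, 162, 162], [170, 157, 156, 171, 163, 163, 163, 158], [157, 170, 164, 164, 164, 164, 164, 159], [158, 159, 165, 172, 165, 165, 160, 170], [172, 166, 166, 158, 173, 166, 161, 171], [161, 167, 174, 160, 175, 162, 172, 167], [175, 168, 168, 168, 161, 168, 173, 168], [169, 169, 162, 169, 169, 174, 169, 169], [163, 164, 170, 176, 170, 170, 170, 165], [176, 171, 171, 163, 177, 171, 171, 166], [166, 172, 178, 165, 179, 172, 167, 176], [179, 173, 173, 173, 166, 180, 168, 177], [174, 174, 167, 174, 181, 169, 178, 174], [168, 175, 181, 175, 167, 175, 179, 175], [171, 176, 182, 170, 183, 176, 176, 172], [183, 177, 177, 177, 171, 184, 177, 173], [178,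 178, 172, 178, 185, 178, 174, 182], [173, 179, 185, 179, 172, 186, 175, 183], [186, 180, 180, 180, 180, 173, 180, 184], [181, 181, 175, 187, 174, 181, 185, 181], [182, 182, 176, 182, 188, 182, 182, 178], [177, 183, 188, 183, 176, 189, 183, 179], [189, 184, 184, 184, 184, 177, 190, 180], [185, 185, 179, 191, 178, 192, 181, 188], [180, 186, 192, 186, 186, 179, 186, 189], [187, 193, 187, 181, 187, 187, 191, 187], [188, 188, 183, 194, 182, 195, 188, 185], [184, 189, 195, 189, 189, 183, 196, 186], [196, 190, 190, 190, 190, 190, 184, 190], [191, 197, 191, 185, 191, 198, 187, 194], [192, 192, 186, 198, 192, 185, 192, 195], [193, 187, 193, 193, 193, 193, 197, 193], [194, 199, 194, 188, 194, 200, 194, 191], [195, 195, 189, 200, 195,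 188, 201, 192], [190, 196, 201, 196, 196, 196, 189, 196], [197, 191, 197, 197, 197, 202, 193, 199], [198, 202, 198, 192, 203, 191, 198, 200], [199, 194, 199, 199, 199, 204, 199, 197], [200, 204, 200, 195, 205, 194, 206, 198], [201, 201, 196, 206, 201, 201, 195, 201], [202, 198, 202, 202, 207, 197, 202, 204], [203, 207, 203, 203, 198, 203, 203, 205], [204, 200, 204, 204, 208, 199, 209, 202], [205, 208, 205, 205, 200, 205, 210, 203], [206, 209, 206, 201, 210, 206, 200, 206], [207, 203, 207, 211, 202, 207, 207, 208], [208, 205, 208, 212, 204, 208, 213, 207], [209, 206, 209, 209, 213, 209, 204, 209], [210, 213, 210, 210, 206, 214, 205, 210], [211, 211, 215, 207, 211, 211, 211, 212], [212, 212, 216, 208, 212, 212, 217, 211], [213,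 210, 213, 217, 209, 218, 208, 213], [214, 218, 214, 214, 214, 210, 214, 214], [219, 215, 211, 215, 215, 215, 215, 216], [220, 216, 212, 216, 216, 216, 221, 215], [217, 217, 221, 213, 217, 222, 212, 217], [218, 214, 218, 222, 218, 213, 218, 218], [215, 219, 219, 219, 219, 219, 219, 220], [216, 220, 220, 220, 220, 220, 223, 219], [223, 221, 217, 221, 221, 224, 216, 221], [222, 222, 224, 218, 225, 217, 222, 222], [221, 223, 223, 223, 223, 226, 220, 223], [226, 224, 222, 224, 227, 221, 224, 224], [225, 225, 227, 225, 222, 225, 225, 225], [224, 226, 226, 226, 228, 223, 226, 226], [228, 227, 225, 229, 224, 227, 227, 227], [227, 228, 228, 230, 226, 228, 228, 228], [230, 231, 229, 227, 229, 229, 229, 229], [229, 232, 233, 228, 230,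 230, 230, 230], [232, 229, 231, 231, 231, 231, 231, 231], [231, 230, 234, 232, 232, 232, 232, 232], [233, 234, 230, 233, 233, 233, 233, 233], [234, 233, 232, 235, 234, 234, 234, 234], [235, 235, 235, 234, 236, 235, 235, 235], [236, 236, 236, 236, 235, 237, 236, 236], [237, 237, 237, 237, 237, 236, 238, 237], [238, 238, 238, 238, 238, 238, 237, 239], [239, 239, 239, 239, 239, 239, 239, 238]]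
  rnk := [[0, 0, 0, 0, 0, 0, 0, 0], [1, 1, 1, 1, 1, 1, 0, 0], [2, 2, 2, 2, 2, 0, 0, 1], [3, 3, 3, 3, 0, 0, 2, 2], [4, 4, 4, 0, 0, 3, 3, 3], [5, 0, 0, 0, 4, 4, 4, 4], [6, 0, 0, 5, 5, 5, 5, 5], [0, 1, 0, 5, 5, 5, 5, 5], [0, 1, 0, 0, 6, 6, 6, 6], [0, 2, 6, 6, 6, 6, 6, 6], [0, 2, 7, 0, 7, 7, 7, 7], [1, 6, 6, 0, 0, 7, 7, 7], [1, 7, 0, 0, 0, 8, 8, 8], [2, 7, 7, 7, 0, 0, 8, 8], [7, 8, 0, 8, 0, 9, 9, 9], [2, 8, 1, 8, 0, 0, 9, 9], [3, 8, 8, 8, 8, 0, 0, 9], [8, 9, 1, 0, 0, 0, 10, 10], [3, 9, 2, 9, 9, 0, 0, 10], [4, 9, 9, 9, 9, 9, 0, 0], [9, 0, 9, 0, 9, 0, 11, 11], [9, 10, 2, 1, 10, 0, 0, 11], [4, 10, 3, 10, 10, 10, 0, 0], [5, 10, 10, 10, 10, 10, 10, 0], [10, 0, 10, 10, 10, 0, 12, 12], [10, 1, 10, 1, 0, 0, 0, 12], [10, 11, 3, 2, 11, 11,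 0, 0], [5, 11, 4, 11, 11, 11, 11, 0], [11, 1, 11, 11, 0, 0, 0, 13], [11, 2, 11, 11, 0, 10, 0, 13], [11, 2, 11, 2, 1, 12, 0, 0], [11, 12, 4, 3, 12, 12, 12, 0], [12, 2, 12, 0, 0, 11, 0, 14], [12, 2, 12, 12, 1, 13, 0, 0], [12, 3, 12, 12, 1, 0, 0, 0], [12, 3, 12, 3, 2, 13, 13, 0], [13, 12, 0, 0, 12, 12, 0, 15], [13, 3, 13, 1, 1, 0, 0, 0], [13, 3, 13, 13, 2, 14, 14, 0], [13, 4, 13, 13, 13, 0, 11, 0], [13, 4, 13, 13, 2, 1, 14, 0], [0, 13, 0, 13, 13, 13, 0, 16], [14, 13, 1, 1, 13, 0, 0, 0], [14, 4, 14, 2, 14, 0, 12, 0], [14, 4, 14, 2, 2, 1, 15, 0], [14, 5, 14, 14, 14, 1, 0, 0], [0, 14, 14, 14, 14, 14, 0, 17], [1, 14, 1, 14, 14, 0, 0, 0], [15, 14, 2, 2, 0, 0, 13, 0], [15, 14, 2, 2, 14, 1, 16, 0], [15, 5, 15, 3, 15, 1, 0, 0], [15, 6,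 15, 15, 15, 15, 0, 12], [1, 15, 15, 15, 15, 0, 0, 0], [2, 15, 2, 15, 0, 0, 14, 0], [2, 15, 2, 15, 15, 1, 17, 0], [16, 15, 3, 15, 0, 14, 14, 0], [16, 15, 3, 3, 1, 1, 0, 0], [16, 6, 16, 4, 16, 16, 0, 13], [2, 16, 16, 16, 0, 0, 15, 0], [2, 16, 16, 16, 16, 1, 18, 0], [3, 16, 3, 0, 0, 15, 15, 0], [3, 16, 3, 16, 1, 1, 0, 0], [17, 16, 4, 16, 1, 15, 0, 0], [17, 16, 4, 4, 2, 17, 0, 14], [3, 17, 17, 0, 0, 16, 16, 0], [3, 17, 17, 17, 1, 1, 0, 0], [4, 0, 16, 0, 16, 16, 16, 0], [4, 17, 4, 1, 1, 16, 0, 0], [4, 17, 4, 17, 2, 18, 0, 15], [18, 17, 5, 17, 2, 0, 0, 15], [4, 0, 0, 0, 17, 17, 17, 0], [4, 18, 18, 1, 1, 17, 0, 0], [4, 18, 18, 18, 2, 19, 0, 16], [5, 0, 17, 17, 17, 17, 17, 0], [5, 1, 17, 1, 17, 17, 0, 0], [5, 18, 5, 2, 2, 0, 0, 16],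 [19, 18, 6, 18, 18, 0, 16, 16], [5, 0, 0, 18, 18, 18, 18, 0], [17, 1, 0, 18, 18, 18, 18, 0], [5, 1, 1, 1, 18, 18, 0, 0], [5, 19, 19, 2, 2, 0, 0, 17], [6, 1, 18, 18, 18, 18, 0, 0], [6, 2, 18, 2, 18, 0, 0, 17], [6, 19, 6, 3, 19, 0, 17, 17], [18, 1, 0, 0, 19, 19, 19, 0], [6, 1, 1, 19, 19, 19, 0, 0], [18, 2, 1, 19, 19, 19, 0, 0], [6, 2, 2, 2, 19, 0, 0, 18], [6, 20, 20, 3, 20, 0, 18, 18], [7, 2, 19, 19, 19, 0, 0, 18], [7, 3, 19, 3, 0, 0, 18, 18], [19, 19, 19, 0, 0, 20, 20, 0], [19, 2, 1, 1, 20, 20, 0, 0], [7, 2, 2, 20, 20, 0, 0, 19], [19, 3, 2, 20, 20, 0, 0, 19], [7, 3, 3, 3, 0, 0, 19, 19], [8, 3, 20, 20, 0, 0, 19, 19], [8, 4, 20, 20, 0, 19, 19, 19], [20, 20, 20, 20, 0, 0, 21, 0], [20, 20, 20, 1, 1, 21, 0, 0], [20, 3, 2, 2, 21,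 0, 0, 20], [8, 3, 3, 21, 0, 0, 20, 20], [20, 4, 3, 21, 0, 0, 20, 20], [8, 4, 4, 21, 0, 20, 20, 20], [9, 4, 21, 0, 0, 20, 20, 20], [21, 21, 21, 21, 21, 0, 0, 0], [21, 21, 21, 21, 1, 1, 0, 0], [21, 21, 21, 2, 2, 0, 0, 21], [21, 4, 3, 3, 0, 0, 21, 21], [9, 4, 4, 0, 0, 21, 21, 21], [21, 5, 4, 0, 0, 21, 21, 21], [10, 21, 0, 0, 21, 21, 21, 21], [22, 22, 22, 22, 22, 22, 0, 0], [22, 22, 22, 22, 22, 1, 0, 0], [22, 22, 22, 22, 2, 0, 0, 22], [22, 22, 22, 3, 0, 0, 22, 22], [22, 5, 4, 0, 0, 22, 22, 22], [10, 22, 0, 0, 22, 22, 22, 22], [22, 0, 22, 0, 22, 22, 22, 22], [0, 22, 0, 22, 22, 22, 22, 22], [23, 23, 23, 23, 23, 23, 0, 0], [23, 23, 23, 23, 23, 0, 0, 1], [23, 23, 23, 23, 0, 0, 2, 23], [23, 23, 23, 0, 0, 3, 23, 23], [23, 0, 0, 0, 4,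 23, 23, 23], [0, 23, 0, 5, 23, 23, 23, 23], [23, 0, 23, 6, 23, 23, 23, 23], [0, 23, 11, 23, 23, 23, 23, 23], [24, 24, 24, 24, 24, 0, 0, 1], [24, 24, 24, 24, 0, 0, 2, 2], [24, 24, 24, 0, 0, 3, 3, 24], [24, 0, 0, 0, 4, 4, 24, 24], [24, 0, 0, 6, 5, 24, 24, 24], [0, 1, 0, 5, 5, 24, 24, 24], [0, 24, 11, 6, 24, 24, 24, 24], [25, 25, 25, 25, 0, 0, 24, 2], [25, 25, 25, 0, 0, 24, 3, 3], [25, 0, 0, 0, 24, 4, 4, 25], [25, 0, 0, 24, 5, 5, 25, 25], [0, 1, 0, 24, 5, 5, 25, 25], [0, 1, 0, 24, 6, 25, 25, 25], [0, 2, 24, 6, 6, 25, 25, 25], [26, 26, 26, 0, 0, 25, 25, 3], [26, 0, 0, 0, 25, 25, 4, 4], [26, 0, 0, 25, 25, 5, 5, 26], [0, 1, 0, 25, 25, 5, 5, 26], [0, 1, 0, 0, 6, 6, 26, 26], [0, 2, 25, 25, 6, 6, 26, 26], [0, 2, 25, 25, 7, 26, 26, 26],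 [27, 0, 0, 0, 26, 26, 26, 4], [27, 0, 0, 26, 26, 26, 5, 5], [0, 1, 0, 26, 26, 26, 5, 5], [0, 1, 0, 0, 26, 6, 6, 27], [0, 2, 26, 26, 26, 6, 6, 27], [0, 2, 26, 0, 7, 7, 27, 27], [1, 25, 25, 0, 25, 7, 27, 27], [28, 0, 0, 27, 27, 27, 27, 5], [0, 1, 0, 27, 27, 27, 27, 5], [0, 1, 0, 0, 27, 27, 6, 6], [0, 2, 27, 27, 27, 27, 6, 6], [0, 2, 27, 0, 27, 7, 7, 28], [1, 26, 26, 0, 0, 7, 7, 28], [1, 26, 0, 0, 26, 8, 28, 28], [0, 1, 0, 0, 28, 28, 28, 6], [0, 2, 28, 28, 28, 28, 28, 6], [0, 2, 28, 0, 28, 28, 7, 7], [1, 27, 27, 0, 0, 28, 7, 7], [1, 27, 0, 0, 0, 8, 8, 29], [2, 27, 27, 27, 0, 26, 8, 29], [26, 27, 0, 27, 27, 9, 29, 29], [0, 2, 29, 0, 29, 29, 29, 7], [1, 28, 28, 0, 0, 29, 29, 7], [1, 28, 0, 0, 0, 29, 8, 8], [2, 28, 28, 28, 0, 0,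 8, 8], [27, 28, 0, 28, 0, 9, 9, 30], [2, 28, 1, 28, 0, 27, 9, 30], [1, 29, 0, 0, 0, 30, 30, 8], [2, 29, 29, 29, 0, 0, 30, 8], [28, 29, 0, 29, 0, 30, 9, 9], [2, 29, 1, 29, 0, 0, 9, 9], [3, 29, 29, 29, 29, 0, 27, 9], [28, 29, 1, 0, 0, 28, 10, 31], [29, 30, 0, 30, 0, 31, 31, 9], [2, 30, 1, 30, 0, 0, 31, 9], [3, 30, 30, 30, 30, 0, 0, 9], [29, 30, 1, 0, 0, 0, 10, 10], [3, 30, 2, 30, 30, 0, 28, 10], [29, 0, 29, 0, 29, 29, 11, 32], [30, 31, 1, 0, 0, 0, 32, 10], [3, 31, 2, 31, 31, 0, 0, 10], [4, 31, 31, 31, 31, 31, 0, 28], [30, 0, 30, 0, 30, 0, 11, 11], [30, 31, 2, 1, 31, 0, 29, 11], [30, 0, 30, 30, 30, 30, 12, 33], [31, 0, 31, 0, 31, 0, 33, 11], [31, 32, 2, 1, 32, 0, 0, 11], [4, 32, 3, 32, 32, 32, 0, 29], [31, 0, 31, 31, 31, 0, 12,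 12], [31, 1, 31, 1, 0, 0, 30, 12], [32, 0, 32, 32, 32, 0, 34, 12], [32, 1, 32, 1, 0, 0, 0, 12], [32, 33, 3, 2, 33, 33, 0, 30], [32, 1, 32, 32, 0, 0, 31, 13], [32, 2, 32, 32, 0, 31, 31, 13], [33, 1, 33, 33, 0, 0, 0, 13], [33, 2, 33, 33, 0, 32, 0, 13], [33, 2, 33, 2, 1, 34, 0, 31], [33, 2, 33, 0, 0, 32, 32, 14], [34, 2, 34, 0, 0, 33, 0, 14], [34, 2, 34, 34, 1, 35, 0, 32], [34, 3, 34, 34, 1, 0, 0, 32], [34, 33, 0, 0, 33, 33, 33, 15], [35, 34, 0, 0, 34, 34, 0, 15], [35, 3, 35, 1, 1, 0, 0, 33], [35, 4, 35, 35, 35, 0, 33, 33], [0, 34, 0, 34, 34, 34, 34, 16], [0, 35, 0, 35, 35, 35, 0, 16], [36, 35, 1, 1, 35, 0, 0, 34], [36, 4, 36, 2, 36, 0, 34, 34], [0, 35, 35, 35, 35, 35, 35, 17], [0, 36, 36, 36, 36, 36, 0, 17], [1, 36, 1, 36, 36,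 0, 0, 35], [37, 36, 2, 2, 0, 0, 35, 35], [1, 37, 37, 37, 37, 0, 0, 36], [2, 37, 2, 37, 0, 0, 36, 36], [38, 37, 3, 37, 0, 36, 36, 36], [2, 38, 38, 38, 0, 0, 37, 37], [3, 38, 3, 0, 0, 37, 37, 37], [3, 39, 39, 0, 0, 38, 38, 38], [4, 0, 38, 0, 38, 38, 38, 38], [4, 0, 0, 0, 39, 39, 39, 39], [5, 0, 39, 39, 39, 39, 39, 39], [5, 0, 0, 40, 40, 40, 40, 40], [39, 1, 0, 40, 40, 40, 40, 40], [40, 1, 0, 0, 41, 41, 41, 41], [41, 41, 41, 0, 0, 42, 42, 42], [42, 42, 42, 42, 0, 0, 43, 43], [43, 43, 43, 43, 43, 0, 0, 44], [44, 44, 44, 44, 44, 44, 0, 0], [45, 45, 45, 45, 45, 45, 45, 0]]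
  jst := [[(2, 0, 0, 0), (2, 0, 0, 0), (2, 0, 0, 0), (2, 0, 0, 0), (2, 0, 0, 0), (2, 0, 0, 0), (2, 0, 0, 0), (0, 0, 0, 0)], [(3, 6, 1, 0), (3, 13, 1, 0), (3, 20, 1, 0), (3, 27, 1, 0), (3, 34, 1, 0), (3, 41, 1, 0), (0, 0, 0, 0), (1, 0, 0, 0)], [(3, 5, 2, 0), (3, 12, 2, 0), (3, 19, 2, 0), (3, 26, 2, 0), (3, 33, 2, 0), (0, 0, 0, 0), (1, 0, 0, 0), (3, 48, 1, 1)], [(3, 4, 3, 0), (3, 11, 3, 0), (3, 18, 3, 0), (3, 25, 3, 0), (0, 0, 0, 0), (1, 0, 0, 0), (3, 40, 2, 1), (3, 41, 2, 1)], [(3, 3, 4, 0), (3, 10, 4, 0), (3, 17, 4, 0), (0, 0, 0, 0), (1, 0, 0, 0), (3, 32, 3, 1), (3, 33, 3, 1), (3, 34, 3, 1)], [(3, 2, 5, 0), (0, 0, 0, 0), (0, 0, 0, 0), (1, 0, 0, 0), (3, 24, 4, 1), (3, 25, 4, 1), (3, 26, 4, 1), (3, 27, 4, 1)], [(3, 0, 6, 0),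 (1, 0, 0, 0), (0, 0, 0, 0), (3, 9, 5, 1), (3, 10, 5, 1), (3, 11, 5, 1), (3, 12, 5, 1), (3, 13, 5, 1)], [(0, 0, 0, 0), (3, 8, 7, 0), (1, 0, 0, 0), (3, 16, 5, 1), (3, 17, 5, 1), (3, 18, 5, 1), (3, 19, 5, 1), (3, 20, 5, 1)], [(0, 0, 0, 0), (3, 8, 8, 0), (1, 0, 0, 0), (0, 0, 0, 0), (3, 10, 7, 1), (3, 11, 7, 1), (3, 12, 7, 1), (3, 13, 7, 1)], [(1, 0, 0, 0), (3, 0, 7, 1), (3, 1, 7, 1), (3, 2, 7, 1), (3, 3, 7, 1), (3, 4, 7, 1), (3, 5, 7, 1), (3, 6, 7, 1)], [(1, 0, 0, 0), (3, 0, 8, 1), (3, 1, 8, 1), (0, 0, 0, 0), (3, 3, 8, 1), (3, 4, 8, 1), (3, 5, 8, 1), (3, 6, 8, 1)], [(3, 2, 11, 0), (3, 9, 11, 0), (3, 16, 11, 0), (1, 0, 0, 0), (0, 0, 0, 0), (3, 25, 8, 1), (3, 26, 8, 1), (3, 27, 8, 1)], [(3, 2, 12, 0), (3, 0, 11, 1), (0, 0, 0, 0),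 (1, 0, 0, 0), (0, 0, 0, 0), (3, 4, 11, 1), (3, 5, 11, 1), (3, 6, 11, 1)], [(3, 3, 13, 0), (3, 10, 13, 0), (3, 17, 13, 0), (3, 24, 13, 0), (1, 0, 0, 0), (0, 0, 0, 0), (3, 33, 11, 1), (3, 34, 11, 1)], [(3, 1, 14, 0), (3, 8, 14, 0), (1, 0, 0, 0), (3, 16, 12, 1), (0, 0, 0, 0), (3, 18, 12, 1), (3, 19, 12, 1), (3, 20, 12, 1)], [(3, 3, 15, 0), (3, 0, 13, 1), (3, 17, 15, 0), (3, 2, 13, 1), (1, 0, 0, 0), (0, 0, 0, 0), (3, 5, 13, 1), (3, 6, 13, 1)], [(3, 4, 16, 0), (3, 11, 16, 0), (3, 18, 16, 0), (3, 25, 16, 0), (3, 32, 16, 0), (1, 0, 0, 0), (0, 0, 0, 0), (3, 41, 13, 1)], [(3, 1, 17, 0), (3, 8, 17, 0), (3, 17, 17, 0), (0, 0, 0, 0), (1, 0, 0, 0), (0, 0, 0, 0), (3, 19, 15, 1), (3, 20, 15, 1)], [(3, 4, 18, 0), (3, 0, 16, 1), (3, 18, 18,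 0), (3, 2, 16, 1), (3, 3, 16, 1), (1, 0, 0, 0), (0, 0, 0, 0), (3, 6, 16, 1)], [(3, 5, 19, 0), (3, 12, 19, 0), (3, 19, 19, 0), (3, 26, 19, 0), (3, 33, 19, 0), (3, 40, 19, 0), (1, 0, 0, 0), (0, 0, 0, 0)], [(3, 2, 20, 0), (0, 0, 0, 0), (3, 16, 20, 0), (1, 0, 0, 0), (3, 24, 17, 1), (0, 0, 0, 0), (3, 26, 17, 1), (3, 27, 17, 1)], [(3, 1, 21, 0), (3, 8, 21, 0), (3, 18, 21, 0), (3, 25, 21, 0), (3, 17, 18, 1), (1, 0, 0, 0), (0, 0, 0, 0), (3, 20, 18, 1)], [(3, 5, 22, 0), (3, 0, 19, 1), (3, 19, 22, 0), (3, 2, 19, 1), (3, 3, 19, 1), (3, 4, 19, 1), (1, 0, 0, 0), (0, 0, 0, 0)], [(3, 6, 23, 0), (3, 13, 23, 0), (3, 20, 23, 0), (3, 27, 23, 0), (3, 34, 23, 0), (3, 41, 23, 0), (3, 48, 23, 0), (1, 0, 0, 0)], [(3, 0, 24, 0), (1, 0, 0, 0), (3, 8,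 20, 1), (3, 9, 20, 1), (3, 10, 20, 1), (0, 0, 0, 0), (3, 12, 20, 1), (3, 13, 20, 1)], [(3, 2, 25, 0), (3, 11, 25, 0), (3, 16, 25, 0), (3, 25, 25, 0), (0, 0, 0, 0), (1, 0, 0, 0), (0, 0, 0, 0), (3, 27, 21, 1)], [(3, 1, 26, 0), (3, 8, 26, 0), (3, 19, 26, 0), (3, 26, 26, 0), (3, 17, 22, 1), (3, 18, 22, 1), (1, 0, 0, 0), (0, 0, 0, 0)], [(3, 6, 27, 0), (3, 0, 23, 1), (3, 20, 27, 0), (3, 2, 23, 1), (3, 3, 23, 1), (3, 4, 23, 1), (3, 5, 23, 1), (1, 0, 0, 0)], [(3, 0, 28, 0), (3, 11, 28, 0), (3, 8, 25, 1), (3, 9, 25, 1), (0, 0, 0, 0), (1, 0, 0, 0), (0, 0, 0, 0), (3, 13, 25, 1)], [(3, 3, 29, 0), (3, 10, 29, 0), (3, 17, 29, 0), (3, 24, 29, 0), (1, 0, 0, 0), (3, 32, 25, 1), (0, 0, 0, 0), (3, 34, 25, 1)], [(3, 2, 30, 0), (3, 12, 30, 0),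 (3, 16, 30, 0), (3, 26, 30, 0), (3, 33, 30, 0), (3, 25, 26, 1), (1, 0, 0, 0), (0, 0, 0, 0)], [(3, 1, 31, 0), (3, 8, 31, 0), (3, 20, 31, 0), (3, 27, 31, 0), (3, 17, 27, 1), (3, 18, 27, 1), (3, 19, 27, 1), (1, 0, 0, 0)], [(3, 0, 32, 0), (3, 10, 32, 0), (3, 8, 29, 1), (0, 0, 0, 0), (1, 0, 0, 0), (3, 11, 29, 1), (0, 0, 0, 0), (3, 13, 29, 1)], [(3, 0, 33, 0), (3, 12, 33, 0), (3, 8, 30, 1), (3, 9, 30, 1), (3, 33, 33, 0), (3, 11, 30, 1), (1, 0, 0, 0), (0, 0, 0, 0)], [(3, 3, 34, 0), (3, 10, 34, 0), (3, 17, 34, 0), (3, 24, 34, 0), (3, 33, 34, 0), (0, 0, 0, 0), (1, 0, 0, 0), (0, 0, 0, 0)], [(3, 2, 35, 0), (3, 13, 35, 0), (3, 16, 35, 0), (3, 27, 35, 0), (3, 34, 35, 0), (3, 25, 31, 1), (3, 26, 31, 1), (1, 0, 0, 0)], [(3, 2, 36, 0), (3,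 9, 36, 0), (0, 0, 0, 0), (1, 0, 0, 0), (3, 24, 32, 1), (3, 25, 32, 1), (0, 0, 0, 0), (3, 27, 32, 1)], [(3, 0, 37, 0), (3, 10, 37, 0), (3, 8, 34, 1), (3, 26, 37, 0), (3, 33, 37, 0), (0, 0, 0, 0), (1, 0, 0, 0), (0, 0, 0, 0)], [(3, 0, 38, 0), (3, 13, 38, 0), (3, 8, 35, 1), (3, 9, 35, 1), (3, 34, 38, 0), (3, 11, 35, 1), (3, 12, 35, 1), (1, 0, 0, 0)], [(3, 4, 39, 0), (3, 11, 39, 0), (3, 18, 39, 0), (3, 25, 39, 0), (3, 32, 39, 0), (1, 0, 0, 0), (3, 40, 34, 1), (0, 0, 0, 0)], [(3, 3, 40, 0), (3, 10, 40, 0), (3, 17, 40, 0), (3, 24, 40, 0), (3, 34, 40, 0), (3, 41, 40, 0), (3, 33, 35, 1), (1, 0, 0, 0)], [(0, 0, 0, 0), (3, 8, 41, 0), (1, 0, 0, 0), (3, 16, 36, 1), (3, 17, 36, 1), (3, 18, 36, 1), (0, 0, 0, 0), (3, 20, 36, 1)], [(3, 2, 42,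 0), (3, 9, 42, 0), (3, 19, 42, 0), (3, 26, 42, 0), (3, 24, 37, 1), (0, 0, 0, 0), (1, 0, 0, 0), (0, 0, 0, 0)], [(3, 0, 43, 0), (3, 11, 43, 0), (3, 8, 39, 1), (3, 25, 43, 0), (3, 10, 39, 1), (1, 0, 0, 0), (3, 12, 39, 1), (0, 0, 0, 0)], [(3, 0, 44, 0), (3, 10, 44, 0), (3, 8, 40, 1), (3, 27, 44, 0), (3, 34, 44, 0), (3, 41, 44, 0), (3, 12, 40, 1), (1, 0, 0, 0)], [(3, 4, 45, 0), (3, 11, 45, 0), (3, 18, 45, 0), (3, 25, 45, 0), (3, 32, 45, 0), (3, 41, 45, 0), (0, 0, 0, 0), (1, 0, 0, 0)], [(1, 0, 0, 0), (3, 0, 41, 1), (3, 1, 41, 1), (3, 2, 41, 1), (3, 3, 41, 1), (3, 4, 41, 1), (0, 0, 0, 0), (3, 6, 41, 1)], [(3, 5, 47, 0), (3, 8, 47, 0), (3, 19, 47, 0), (3, 16, 42, 1), (3, 17, 42, 1), (0, 0, 0, 0), (1, 0, 0, 0), (0, 0, 0, 0)], [(3, 2,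 48, 0), (3, 9, 48, 0), (3, 18, 48, 0), (3, 25, 48, 0), (0, 0, 0, 0), (1, 0, 0, 0), (3, 26, 43, 1), (0, 0, 0, 0)], [(3, 2, 49, 0), (3, 9, 49, 0), (3, 20, 49, 0), (3, 27, 49, 0), (3, 24, 44, 1), (3, 41, 49, 0), (3, 26, 44, 1), (1, 0, 0, 0)], [(3, 0, 50, 0), (3, 11, 50, 0), (3, 8, 45, 1), (3, 25, 50, 0), (3, 10, 45, 1), (3, 41, 50, 0), (0, 0, 0, 0), (1, 0, 0, 0)], [(3, 5, 51, 0), (3, 12, 51, 0), (3, 19, 51, 0), (3, 26, 51, 0), (3, 33, 51, 0), (3, 40, 51, 0), (1, 0, 0, 0), (3, 48, 45, 1)], [(3, 5, 52, 0), (3, 0, 47, 1), (3, 1, 47, 1), (3, 2, 47, 1), (3, 3, 47, 1), (0, 0, 0, 0), (1, 0, 0, 0), (0, 0, 0, 0)], [(3, 4, 53, 0), (3, 8, 53, 0), (3, 18, 53, 0), (3, 16, 48, 1), (0, 0, 0, 0), (1, 0, 0, 0), (3, 19, 48, 1), (0, 0, 0, 0)], [(3,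 6, 54, 0), (3, 8, 54, 0), (3, 20, 54, 0), (3, 16, 49, 1), (3, 17, 49, 1), (3, 41, 54, 0), (3, 19, 49, 1), (1, 0, 0, 0)], [(3, 3, 55, 0), (3, 10, 55, 0), (3, 17, 55, 0), (3, 24, 55, 0), (1, 0, 0, 0), (3, 32, 48, 1), (3, 33, 48, 1), (0, 0, 0, 0)], [(3, 2, 56, 0), (3, 9, 56, 0), (3, 18, 56, 0), (3, 25, 56, 0), (3, 34, 56, 0), (3, 41, 56, 0), (0, 0, 0, 0), (1, 0, 0, 0)], [(3, 0, 57, 0), (3, 12, 57, 0), (3, 8, 51, 1), (3, 26, 57, 0), (3, 10, 51, 1), (3, 11, 51, 1), (1, 0, 0, 0), (3, 13, 51, 1)], [(3, 4, 58, 0), (3, 0, 53, 1), (3, 1, 53, 1), (3, 2, 53, 1), (0, 0, 0, 0), (1, 0, 0, 0), (3, 5, 53, 1), (0, 0, 0, 0)], [(3, 6, 59, 0), (3, 0, 54, 1), (3, 1, 54, 1), (3, 2, 54, 1), (3, 3, 54, 1), (3, 41, 59, 0), (3, 5, 54, 1), (1, 0, 0, 0)],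 [(3, 3, 60, 0), (3, 8, 60, 0), (3, 17, 60, 0), (0, 0, 0, 0), (1, 0, 0, 0), (3, 18, 55, 1), (3, 19, 55, 1), (0, 0, 0, 0)], [(3, 4, 61, 0), (3, 8, 61, 0), (3, 18, 61, 0), (3, 16, 56, 1), (3, 34, 61, 0), (3, 41, 61, 0), (0, 0, 0, 0), (1, 0, 0, 0)], [(3, 3, 62, 0), (3, 10, 62, 0), (3, 17, 62, 0), (3, 24, 62, 0), (3, 34, 62, 0), (3, 32, 56, 1), (0, 0, 0, 0), (1, 0, 0, 0)], [(3, 2, 63, 0), (3, 9, 63, 0), (3, 19, 63, 0), (3, 26, 63, 0), (3, 33, 63, 0), (3, 25, 57, 1), (1, 0, 0, 0), (3, 27, 57, 1)], [(3, 3, 64, 0), (3, 0, 60, 1), (3, 1, 60, 1), (0, 0, 0, 0), (1, 0, 0, 0), (3, 4, 60, 1), (3, 5, 60, 1), (0, 0, 0, 0)], [(3, 4, 65, 0), (3, 0, 61, 1), (3, 1, 61, 1), (3, 2, 61, 1), (3, 34, 65, 0), (3, 41, 65, 0), (0, 0, 0, 0), (1, 0, 0,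 0)], [(3, 2, 66, 0), (0, 0, 0, 0), (3, 16, 66, 0), (1, 0, 0, 0), (3, 24, 60, 1), (3, 25, 60, 1), (3, 26, 60, 1), (0, 0, 0, 0)], [(3, 3, 67, 0), (3, 8, 67, 0), (3, 17, 67, 0), (3, 27, 67, 0), (3, 34, 67, 0), (3, 18, 62, 1), (0, 0, 0, 0), (1, 0, 0, 0)], [(3, 5, 68, 0), (3, 8, 68, 0), (3, 19, 68, 0), (3, 16, 63, 1), (3, 33, 68, 0), (3, 18, 63, 1), (1, 0, 0, 0), (3, 20, 63, 1)], [(3, 3, 69, 0), (3, 10, 69, 0), (3, 17, 69, 0), (3, 24, 69, 0), (3, 33, 69, 0), (0, 0, 0, 0), (1, 0, 0, 0), (3, 34, 63, 1)], [(3, 2, 70, 0), (0, 0, 0, 0), (0, 0, 0, 0), (1, 0, 0, 0), (3, 3, 66, 1), (3, 4, 66, 1), (3, 5, 66, 1), (0, 0, 0, 0)], [(3, 3, 71, 0), (3, 0, 67, 1), (3, 1, 67, 1), (3, 27, 71, 0), (3, 34, 71, 0), (3, 4, 67, 1), (0, 0, 0, 0), (1, 0,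 0, 0)], [(3, 5, 72, 0), (3, 0, 68, 1), (3, 1, 68, 1), (3, 2, 68, 1), (3, 33, 72, 0), (3, 4, 68, 1), (1, 0, 0, 0), (3, 6, 68, 1)], [(3, 0, 73, 0), (1, 0, 0, 0), (3, 8, 66, 1), (3, 9, 66, 1), (3, 10, 66, 1), (3, 11, 66, 1), (3, 12, 66, 1), (0, 0, 0, 0)], [(3, 2, 74, 0), (3, 13, 74, 0), (3, 16, 74, 0), (3, 27, 74, 0), (3, 24, 67, 1), (3, 25, 67, 1), (0, 0, 0, 0), (1, 0, 0, 0)], [(3, 3, 75, 0), (3, 8, 75, 0), (3, 17, 75, 0), (3, 26, 75, 0), (3, 33, 75, 0), (0, 0, 0, 0), (1, 0, 0, 0), (3, 20, 69, 1)], [(3, 4, 76, 0), (3, 11, 76, 0), (3, 18, 76, 0), (3, 25, 76, 0), (3, 32, 76, 0), (1, 0, 0, 0), (3, 40, 69, 1), (3, 41, 69, 1)], [(3, 0, 77, 0), (1, 0, 0, 0), (0, 0, 0, 0), (3, 2, 73, 1), (3, 3, 73, 1), (3, 4, 73, 1), (3, 5, 73, 1),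 (0, 0, 0, 0)], [(3, 1, 78, 0), (3, 8, 78, 0), (1, 0, 0, 0), (3, 16, 70, 1), (3, 17, 70, 1), (3, 18, 70, 1), (3, 19, 70, 1), (0, 0, 0, 0)], [(3, 2, 79, 0), (3, 13, 79, 0), (3, 20, 79, 0), (3, 27, 79, 0), (3, 3, 74, 1), (3, 4, 74, 1), (0, 0, 0, 0), (1, 0, 0, 0)], [(3, 3, 80, 0), (3, 0, 75, 1), (3, 1, 75, 1), (3, 26, 80, 0), (3, 33, 80, 0), (0, 0, 0, 0), (1, 0, 0, 0), (3, 6, 75, 1)], [(3, 0, 81, 0), (3, 13, 81, 0), (3, 8, 74, 1), (3, 9, 74, 1), (3, 10, 74, 1), (3, 11, 74, 1), (0, 0, 0, 0), (1, 0, 0, 0)], [(3, 2, 82, 0), (3, 12, 82, 0), (3, 16, 82, 0), (3, 26, 82, 0), (3, 24, 75, 1), (0, 0, 0, 0), (1, 0, 0, 0), (3, 27, 75, 1)], [(3, 4, 83, 0), (3, 8, 83, 0), (3, 18, 83, 0), (3, 25, 83, 0), (3, 17, 76, 1), (1, 0, 0, 0), (3, 19,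 76, 1), (3, 20, 76, 1)], [(3, 0, 84, 0), (3, 8, 84, 0), (1, 0, 0, 0), (0, 0, 0, 0), (3, 10, 78, 1), (3, 11, 78, 1), (3, 12, 78, 1), (0, 0, 0, 0)], [(3, 0, 85, 0), (3, 13, 85, 0), (3, 20, 85, 0), (3, 2, 81, 1), (3, 3, 81, 1), (3, 4, 81, 1), (0, 0, 0, 0), (1, 0, 0, 0)], [(3, 1, 86, 0), (3, 8, 86, 0), (3, 20, 86, 0), (3, 16, 79, 1), (3, 17, 79, 1), (3, 18, 79, 1), (0, 0, 0, 0), (1, 0, 0, 0)], [(3, 2, 87, 0), (3, 12, 87, 0), (3, 19, 87, 0), (3, 26, 87, 0), (3, 3, 82, 1), (0, 0, 0, 0), (1, 0, 0, 0), (3, 6, 82, 1)], [(3, 4, 88, 0), (3, 0, 83, 1), (3, 1, 83, 1), (3, 25, 88, 0), (3, 3, 83, 1), (1, 0, 0, 0), (3, 5, 83, 1), (3, 6, 83, 1)], [(3, 0, 89, 0), (3, 12, 89, 0), (3, 8, 82, 1), (3, 9, 82, 1), (3, 10, 82, 1), (0, 0, 0, 0), (1,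 0, 0, 0), (3, 13, 82, 1)], [(3, 2, 90, 0), (3, 11, 90, 0), (3, 16, 90, 0), (3, 25, 90, 0), (0, 0, 0, 0), (1, 0, 0, 0), (3, 26, 83, 1), (3, 27, 83, 1)], [(3, 2, 91, 0), (3, 9, 91, 0), (3, 16, 91, 0), (1, 0, 0, 0), (0, 0, 0, 0), (3, 25, 84, 1), (3, 26, 84, 1), (0, 0, 0, 0)], [(3, 0, 92, 0), (3, 8, 92, 0), (3, 20, 92, 0), (3, 27, 92, 0), (3, 10, 86, 1), (3, 11, 86, 1), (0, 0, 0, 0), (1, 0, 0, 0)], [(3, 0, 93, 0), (3, 12, 93, 0), (3, 19, 93, 0), (3, 2, 89, 1), (3, 3, 89, 1), (0, 0, 0, 0), (1, 0, 0, 0), (3, 6, 89, 1)], [(3, 1, 94, 0), (3, 8, 94, 0), (3, 19, 94, 0), (3, 16, 87, 1), (3, 17, 87, 1), (0, 0, 0, 0), (1, 0, 0, 0), (3, 20, 87, 1)], [(3, 2, 95, 0), (3, 11, 95, 0), (3, 18, 95, 0), (3, 25, 95, 0), (0, 0, 0, 0), (1, 0, 0, 0),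 (3, 5, 90, 1), (3, 6, 90, 1)], [(3, 0, 96, 0), (3, 11, 96, 0), (3, 8, 90, 1), (3, 9, 90, 1), (0, 0, 0, 0), (1, 0, 0, 0), (3, 12, 90, 1), (3, 13, 90, 1)], [(3, 3, 97, 0), (3, 10, 97, 0), (3, 17, 97, 0), (3, 24, 97, 0), (1, 0, 0, 0), (3, 32, 90, 1), (3, 33, 90, 1), (3, 34, 90, 1)], [(3, 3, 98, 0), (3, 10, 98, 0), (3, 17, 98, 0), (3, 24, 98, 0), (1, 0, 0, 0), (0, 0, 0, 0), (3, 33, 91, 1), (0, 0, 0, 0)], [(3, 2, 99, 0), (3, 9, 99, 0), (3, 16, 99, 0), (3, 27, 99, 0), (3, 34, 99, 0), (3, 25, 92, 1), (0, 0, 0, 0), (1, 0, 0, 0)], [(3, 0, 100, 0), (3, 8, 100, 0), (3, 19, 100, 0), (3, 26, 100, 0), (3, 10, 94, 1), (0, 0, 0, 0), (1, 0, 0, 0), (3, 13, 94, 1)], [(3, 0, 101, 0), (3, 11, 101, 0), (3, 18, 101, 0), (3, 2, 96, 1), (0, 0, 0, 0),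 (1, 0, 0, 0), (3, 5, 96, 1), (3, 6, 96, 1)], [(3, 1, 102, 0), (3, 8, 102, 0), (3, 18, 102, 0), (3, 16, 95, 1), (0, 0, 0, 0), (1, 0, 0, 0), (3, 19, 95, 1), (3, 20, 95, 1)], [(3, 3, 103, 0), (3, 10, 103, 0), (3, 17, 103, 0), (3, 2, 97, 1), (1, 0, 0, 0), (3, 4, 97, 1), (3, 5, 97, 1), (3, 6, 97, 1)], [(3, 0, 104, 0), (3, 10, 104, 0), (3, 8, 97, 1), (0, 0, 0, 0), (1, 0, 0, 0), (3, 11, 97, 1), (3, 12, 97, 1), (3, 13, 97, 1)], [(3, 4, 105, 0), (3, 11, 105, 0), (3, 18, 105, 0), (3, 25, 105, 0), (3, 32, 105, 0), (1, 0, 0, 0), (0, 0, 0, 0), (0, 0, 0, 0)], [(3, 3, 106, 0), (3, 10, 106, 0), (3, 17, 106, 0), (3, 24, 106, 0), (3, 34, 106, 0), (3, 41, 106, 0), (0, 0, 0, 0), (1, 0, 0, 0)], [(3, 2, 107, 0), (3, 9, 107, 0), (3, 16, 107, 0),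 (3, 26, 107, 0), (3, 33, 107, 0), (0, 0, 0, 0), (1, 0, 0, 0), (3, 27, 100, 1)], [(3, 0, 108, 0), (3, 8, 108, 0), (3, 18, 108, 0), (3, 25, 108, 0), (0, 0, 0, 0), (1, 0, 0, 0), (3, 12, 102, 1), (3, 13, 102, 1)], [(3, 0, 109, 0), (3, 10, 109, 0), (3, 17, 109, 0), (0, 0, 0, 0), (1, 0, 0, 0), (3, 4, 104, 1), (3, 5, 104, 1), (3, 6, 104, 1)], [(3, 1, 110, 0), (3, 8, 110, 0), (3, 17, 110, 0), (0, 0, 0, 0), (1, 0, 0, 0), (3, 18, 103, 1), (3, 19, 103, 1), (3, 20, 103, 1)], [(3, 2, 111, 0), (3, 9, 111, 0), (0, 0, 0, 0), (1, 0, 0, 0), (3, 24, 104, 1), (3, 25, 104, 1), (3, 26, 104, 1), (3, 27, 104, 1)], [(3, 5, 112, 0), (3, 12, 112, 0), (3, 19, 112, 0), (3, 26, 112, 0), (3, 33, 112, 0), (3, 40, 112, 0), (1, 0, 0, 0), (0, 0, 0, 0)], [(3,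 4, 113, 0), (3, 11, 113, 0), (3, 18, 113, 0), (3, 25, 113, 0), (3, 32, 113, 0), (3, 41, 113, 0), (0, 0, 0, 0), (1, 0, 0, 0)], [(3, 3, 114, 0), (3, 10, 114, 0), (3, 17, 114, 0), (3, 24, 114, 0), (3, 33, 114, 0), (0, 0, 0, 0), (1, 0, 0, 0), (3, 34, 107, 1)], [(3, 2, 115, 0), (3, 9, 115, 0), (3, 16, 115, 0), (3, 25, 115, 0), (0, 0, 0, 0), (1, 0, 0, 0), (3, 26, 108, 1), (3, 27, 108, 1)], [(3, 0, 116, 0), (3, 8, 116, 0), (3, 17, 116, 0), (0, 0, 0, 0), (1, 0, 0, 0), (3, 11, 110, 1), (3, 12, 110, 1), (3, 13, 110, 1)], [(3, 2, 117, 0), (3, 0, 111, 1), (0, 0, 0, 0), (1, 0, 0, 0), (3, 3, 111, 1), (3, 4, 111, 1), (3, 5, 111, 1), (3, 6, 111, 1)], [(3, 2, 118, 0), (0, 0, 0, 0), (3, 16, 118, 0), (1, 0, 0, 0), (3, 24, 110, 1), (3, 25, 110,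 1), (3, 26, 110, 1), (3, 27, 110, 1)], [(0, 0, 0, 0), (3, 8, 119, 0), (1, 0, 0, 0), (3, 16, 111, 1), (3, 17, 111, 1), (3, 18, 111, 1), (3, 19, 111, 1), (3, 20, 111, 1)], [(3, 6, 120, 0), (3, 13, 120, 0), (3, 20, 120, 0), (3, 27, 120, 0), (3, 34, 120, 0), (3, 41, 120, 0), (0, 0, 0, 0), (1, 0, 0, 0)], [(3, 5, 121, 0), (3, 12, 121, 0), (3, 19, 121, 0), (3, 26, 121, 0), (3, 33, 121, 0), (0, 0, 0, 0), (1, 0, 0, 0), (3, 48, 113, 1)], [(3, 4, 122, 0), (3, 11, 122, 0), (3, 18, 122, 0), (3, 25, 122, 0), (0, 0, 0, 0), (1, 0, 0, 0), (3, 40, 114, 1), (3, 41, 114, 1)], [(3, 3, 123, 0), (3, 10, 123, 0), (3, 17, 123, 0), (0, 0, 0, 0), (1, 0, 0, 0), (3, 32, 115, 1), (3, 33, 115, 1), (3, 34, 115, 1)], [(3, 2, 124, 0), (0, 0, 0, 0), (0, 0, 0,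 0), (1, 0, 0, 0), (3, 24, 116, 1), (3, 25, 116, 1), (3, 26, 116, 1), (3, 27, 116, 1)], [(0, 0, 0, 0), (3, 8, 125, 0), (1, 0, 0, 0), (3, 16, 117, 1), (3, 17, 117, 1), (3, 18, 117, 1), (3, 19, 117, 1), (3, 20, 117, 1)], [(3, 0, 126, 0), (1, 0, 0, 0), (3, 8, 118, 1), (3, 9, 118, 1), (3, 10, 118, 1), (3, 11, 118, 1), (3, 12, 118, 1), (3, 13, 118, 1)], [(1, 0, 0, 0), (3, 0, 119, 1), (3, 1, 119, 1), (3, 2, 119, 1), (3, 3, 119, 1), (3, 4, 119, 1), (3, 5, 119, 1), (3, 6, 119, 1)], [(3, 5, 128, 0), (3, 12, 128, 0), (3, 19, 128, 0), (3, 26, 128, 0), (3, 33, 128, 0), (0, 0, 0, 0), (1, 0, 0, 0), (3, 48, 120, 1)], [(3, 4, 129, 0), (3, 11, 129, 0), (3, 18, 129, 0), (3, 25, 129, 0), (0, 0, 0, 0), (1, 0, 0, 0), (3, 40, 121, 1), (3, 41, 121,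 1)], [(3, 3, 130, 0), (3, 10, 130, 0), (3, 17, 130, 0), (0, 0, 0, 0), (1, 0, 0, 0), (3, 32, 122, 1), (3, 33, 122, 1), (3, 34, 122, 1)], [(3, 2, 131, 0), (0, 0, 0, 0), (0, 0, 0, 0), (1, 0, 0, 0), (3, 24, 123, 1), (3, 25, 123, 1), (3, 26, 123, 1), (3, 27, 123, 1)], [(3, 0, 132, 0), (1, 0, 0, 0), (0, 0, 0, 0), (3, 9, 124, 1), (3, 10, 124, 1), (3, 11, 124, 1), (3, 12, 124, 1), (3, 13, 124, 1)], [(0, 0, 0, 0), (3, 8, 133, 0), (1, 0, 0, 0), (3, 16, 124, 1), (3, 17, 124, 1), (3, 18, 124, 1), (3, 19, 124, 1), (3, 20, 124, 1)], [(1, 0, 0, 0), (3, 0, 125, 1), (3, 1, 125, 1), (3, 2, 125, 1), (3, 3, 125, 1), (3, 4, 125, 1), (3, 5, 125, 1), (3, 6, 125, 1)], [(3, 4, 135, 0), (3, 11, 135, 0), (3, 18, 135, 0), (3, 25, 135, 0), (0, 0, 0, 0),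 (1, 0, 0, 0), (3, 40, 128, 1), (3, 41, 128, 1)], [(3, 3, 136, 0), (3, 10, 136, 0), (3, 17, 136, 0), (0, 0, 0, 0), (1, 0, 0, 0), (3, 32, 129, 1), (3, 33, 129, 1), (3, 34, 129, 1)], [(3, 2, 137, 0), (0, 0, 0, 0), (0, 0, 0, 0), (1, 0, 0, 0), (3, 24, 130, 1), (3, 25, 130, 1), (3, 26, 130, 1), (3, 27, 130, 1)], [(3, 0, 138, 0), (1, 0, 0, 0), (0, 0, 0, 0), (3, 9, 131, 1), (3, 10, 131, 1), (3, 11, 131, 1), (3, 12, 131, 1), (3, 13, 131, 1)], [(0, 0, 0, 0), (3, 8, 139, 0), (1, 0, 0, 0), (3, 16, 131, 1), (3, 17, 131, 1), (3, 18, 131, 1), (3, 19, 131, 1), (3, 20, 131, 1)], [(0, 0, 0, 0), (3, 8, 140, 0), (1, 0, 0, 0), (3, 9, 133, 1), (3, 10, 133, 1), (3, 11, 133, 1), (3, 12, 133, 1), (3, 13, 133, 1)], [(1, 0, 0, 0), (3, 0, 133, 1), (3,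 1, 133, 1), (3, 2, 133, 1), (3, 3, 133, 1), (3, 4, 133, 1), (3, 5, 133, 1), (3, 6, 133, 1)], [(3, 3, 142, 0), (3, 10, 142, 0), (3, 17, 142, 0), (0, 0, 0, 0), (1, 0, 0, 0), (3, 32, 135, 1), (3, 33, 135, 1), (3, 34, 135, 1)], [(3, 2, 143, 0), (0, 0, 0, 0), (0, 0, 0, 0), (1, 0, 0, 0), (3, 24, 136, 1), (3, 25, 136, 1), (3, 26, 136, 1), (3, 27, 136, 1)], [(3, 0, 144, 0), (1, 0, 0, 0), (0, 0, 0, 0), (3, 9, 137, 1), (3, 10, 137, 1), (3, 11, 137, 1), (3, 12, 137, 1), (3, 13, 137, 1)], [(0, 0, 0, 0), (3, 8, 145, 0), (1, 0, 0, 0), (3, 16, 137, 1), (3, 17, 137, 1), (3, 18, 137, 1), (3, 19, 137, 1), (3, 20, 137, 1)], [(0, 0, 0, 0), (3, 8, 146, 0), (1, 0, 0, 0), (0, 0, 0, 0), (3, 10, 139, 1), (3, 11, 139, 1), (3, 12, 139, 1), (3, 13, 139,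 1)], [(1, 0, 0, 0), (3, 0, 139, 1), (3, 1, 139, 1), (3, 2, 139, 1), (3, 3, 139, 1), (3, 4, 139, 1), (3, 5, 139, 1), (3, 6, 139, 1)], [(1, 0, 0, 0), (3, 0, 140, 1), (3, 1, 140, 1), (3, 2, 140, 1), (3, 3, 140, 1), (3, 4, 140, 1), (3, 5, 140, 1), (3, 6, 140, 1)], [(3, 2, 149, 0), (0, 0, 0, 0), (0, 0, 0, 0), (1, 0, 0, 0), (3, 24, 142, 1), (3, 25, 142, 1), (3, 26, 142, 1), (3, 27, 142, 1)], [(3, 0, 150, 0), (1, 0, 0, 0), (0, 0, 0, 0), (3, 9, 143, 1), (3, 10, 143, 1), (3, 11, 143, 1), (3, 12, 143, 1), (3, 13, 143, 1)], [(0, 0, 0, 0), (3, 8, 151, 0), (1, 0, 0, 0), (3, 16, 143, 1), (3, 17, 143, 1), (3, 18, 143, 1), (3, 19, 143, 1), (3, 20, 143, 1)], [(0, 0, 0, 0), (3, 8, 152, 0), (1, 0, 0, 0), (0, 0, 0, 0), (3, 10, 145, 1), (3, 11,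 145, 1), (3, 12, 145, 1), (3, 13, 145, 1)], [(1, 0, 0, 0), (3, 0, 145, 1), (3, 1, 145, 1), (3, 2, 145, 1), (3, 3, 145, 1), (3, 4, 145, 1), (3, 5, 145, 1), (3, 6, 145, 1)], [(1, 0, 0, 0), (3, 0, 146, 1), (3, 1, 146, 1), (0, 0, 0, 0), (3, 3, 146, 1), (3, 4, 146, 1), (3, 5, 146, 1), (3, 6, 146, 1)], [(3, 2, 155, 0), (3, 9, 155, 0), (3, 16, 155, 0), (1, 0, 0, 0), (3, 24, 146, 1), (3, 25, 146, 1), (3, 26, 146, 1), (3, 27, 146, 1)], [(3, 0, 156, 0), (1, 0, 0, 0), (0, 0, 0, 0), (3, 9, 149, 1), (3, 10, 149, 1), (3, 11, 149, 1), (3, 12, 149, 1), (3, 13, 149, 1)], [(0, 0, 0, 0), (3, 8, 157, 0), (1, 0, 0, 0), (3, 16, 149, 1), (3, 17, 149, 1), (3, 18, 149, 1), (3, 19, 149, 1), (3, 20, 149, 1)], [(0, 0, 0, 0), (3, 8, 158, 0), (1, 0, 0,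 0), (0, 0, 0, 0), (3, 10, 151, 1), (3, 11, 151, 1), (3, 12, 151, 1), (3, 13, 151, 1)], [(1, 0, 0, 0), (3, 0, 151, 1), (3, 1, 151, 1), (3, 2, 151, 1), (3, 3, 151, 1), (3, 4, 151, 1), (3, 5, 151, 1), (3, 6, 151, 1)], [(1, 0, 0, 0), (3, 0, 152, 1), (3, 1, 152, 1), (0, 0, 0, 0), (3, 3, 152, 1), (3, 4, 152, 1), (3, 5, 152, 1), (3, 6, 152, 1)], [(3, 2, 161, 0), (3, 9, 161, 0), (3, 16, 161, 0), (1, 0, 0, 0), (0, 0, 0, 0), (3, 25, 152, 1), (3, 26, 152, 1), (3, 27, 152, 1)], [(3, 2, 162, 0), (3, 0, 155, 1), (0, 0, 0, 0), (1, 0, 0, 0), (3, 3, 155, 1), (3, 4, 155, 1), (3, 5, 155, 1), (3, 6, 155, 1)], [(0, 0, 0, 0), (3, 8, 163, 0), (1, 0, 0, 0), (0, 0, 0, 0), (3, 10, 157, 1), (3, 11, 157, 1), (3, 12, 157, 1), (3, 13, 157, 1)], [(1, 0,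 0, 0), (3, 0, 157, 1), (3, 1, 157, 1), (3, 2, 157, 1), (3, 3, 157, 1), (3, 4, 157, 1), (3, 5, 157, 1), (3, 6, 157, 1)], [(1, 0, 0, 0), (3, 0, 158, 1), (3, 1, 158, 1), (0, 0, 0, 0), (3, 3, 158, 1), (3, 4, 158, 1), (3, 5, 158, 1), (3, 6, 158, 1)], [(3, 2, 166, 0), (3, 9, 166, 0), (3, 16, 166, 0), (1, 0, 0, 0), (0, 0, 0, 0), (3, 25, 158, 1), (3, 26, 158, 1), (3, 27, 158, 1)], [(3, 2, 167, 0), (3, 0, 161, 1), (0, 0, 0, 0), (1, 0, 0, 0), (0, 0, 0, 0), (3, 4, 161, 1), (3, 5, 161, 1), (3, 6, 161, 1)], [(3, 3, 168, 0), (3, 10, 168, 0), (3, 17, 168, 0), (3, 24, 168, 0), (1, 0, 0, 0), (3, 32, 161, 1), (3, 33, 161, 1), (3, 34, 161, 1)], [(3, 1, 169, 0), (3, 8, 169, 0), (1, 0, 0, 0), (3, 16, 162, 1), (3, 17, 162, 1), (3, 18, 162, 1), (3,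 19, 162, 1), (3, 20, 162, 1)], [(1, 0, 0, 0), (3, 0, 163, 1), (3, 1, 163, 1), (0, 0, 0, 0), (3, 3, 163, 1), (3, 4, 163, 1), (3, 5, 163, 1), (3, 6, 163, 1)], [(3, 2, 171, 0), (3, 9, 171, 0), (3, 16, 171, 0), (1, 0, 0, 0), (0, 0, 0, 0), (3, 25, 163, 1), (3, 26, 163, 1), (3, 27, 163, 1)], [(3, 2, 172, 0), (3, 0, 166, 1), (0, 0, 0, 0), (1, 0, 0, 0), (0, 0, 0, 0), (3, 4, 166, 1), (3, 5, 166, 1), (3, 6, 166, 1)], [(3, 3, 173, 0), (3, 10, 173, 0), (3, 17, 173, 0), (3, 24, 173, 0), (1, 0, 0, 0), (0, 0, 0, 0), (3, 33, 166, 1), (3, 34, 166, 1)], [(3, 1, 174, 0), (3, 8, 174, 0), (1, 0, 0, 0), (3, 16, 167, 1), (0, 0, 0, 0), (3, 18, 167, 1), (3, 19, 167, 1), (3, 20, 167, 1)], [(3, 3, 175, 0), (3, 0, 168, 1), (3, 17, 175, 0), (3, 2, 168,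 1), (1, 0, 0, 0), (3, 4, 168, 1), (3, 5, 168, 1), (3, 6, 168, 1)], [(3, 2, 176, 0), (3, 0, 171, 1), (0, 0, 0, 0), (1, 0, 0, 0), (0, 0, 0, 0), (3, 4, 171, 1), (3, 5, 171, 1), (3, 6, 171, 1)], [(3, 3, 177, 0), (3, 10, 177, 0), (3, 17, 177, 0), (3, 24, 177, 0), (1, 0, 0, 0), (0, 0, 0, 0), (3, 33, 171, 1), (3, 34, 171, 1)], [(3, 1, 178, 0), (3, 8, 178, 0), (1, 0, 0, 0), (3, 16, 172, 1), (0, 0, 0, 0), (3, 18, 172, 1), (3, 19, 172, 1), (3, 20, 172, 1)], [(3, 3, 179, 0), (3, 0, 173, 1), (3, 17, 179, 0), (3, 2, 173, 1), (1, 0, 0, 0), (0, 0, 0, 0), (3, 5, 173, 1), (3, 6, 173, 1)], [(3, 4, 180, 0), (3, 11, 180, 0), (3, 18, 180, 0), (3, 25, 180, 0), (3, 32, 180, 0), (1, 0, 0, 0), (3, 40, 173, 1), (3, 41, 173, 1)], [(3, 1, 181, 0), (3,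 8, 181, 0), (3, 17, 181, 0), (0, 0, 0, 0), (1, 0, 0, 0), (3, 18, 175, 1), (3, 19, 175, 1), (3, 20, 175, 1)], [(3, 1, 182, 0), (3, 8, 182, 0), (1, 0, 0, 0), (3, 16, 176, 1), (0, 0, 0, 0), (3, 18, 176, 1), (3, 19, 176, 1), (3, 20, 176, 1)], [(3, 3, 183, 0), (3, 0, 177, 1), (3, 17, 183, 0), (3, 2, 177, 1), (1, 0, 0, 0), (0, 0, 0, 0), (3, 5, 177, 1), (3, 6, 177, 1)], [(3, 4, 184, 0), (3, 11, 184, 0), (3, 18, 184, 0), (3, 25, 184, 0), (3, 32, 184, 0), (1, 0, 0, 0), (0, 0, 0, 0), (3, 41, 177, 1)], [(3, 1, 185, 0), (3, 8, 185, 0), (3, 17, 185, 0), (0, 0, 0, 0), (1, 0, 0, 0), (0, 0, 0, 0), (3, 19, 179, 1), (3, 20, 179, 1)], [(3, 4, 186, 0), (3, 0, 180, 1), (3, 18, 186, 0), (3, 2, 180, 1), (3, 3, 180, 1), (1, 0, 0, 0), (3, 5, 180, 1),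 (3, 6, 180, 1)], [(3, 2, 187, 0), (0, 0, 0, 0), (3, 16, 187, 0), (1, 0, 0, 0), (3, 24, 181, 1), (3, 25, 181, 1), (3, 26, 181, 1), (3, 27, 181, 1)], [(3, 1, 188, 0), (3, 8, 188, 0), (3, 17, 188, 0), (0, 0, 0, 0), (1, 0, 0, 0), (0, 0, 0, 0), (3, 19, 183, 1), (3, 20, 183, 1)], [(3, 4, 189, 0), (3, 0, 184, 1), (3, 18, 189, 0), (3, 2, 184, 1), (3, 3, 184, 1), (1, 0, 0, 0), (0, 0, 0, 0), (3, 6, 184, 1)], [(3, 5, 190, 0), (3, 12, 190, 0), (3, 19, 190, 0), (3, 26, 190, 0), (3, 33, 190, 0), (3, 40, 190, 0), (1, 0, 0, 0), (3, 48, 184, 1)], [(3, 2, 191, 0), (0, 0, 0, 0), (3, 16, 191, 0), (1, 0, 0, 0), (3, 24, 185, 1), (0, 0, 0, 0), (3, 26, 185, 1), (3, 27, 185, 1)], [(3, 1, 192, 0), (3, 8, 192, 0), (3, 18, 192, 0), (3, 25, 192, 0), (3,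 17, 186, 1), (1, 0, 0, 0), (3, 19, 186, 1), (3, 20, 186, 1)], [(3, 0, 193, 0), (1, 0, 0, 0), (3, 8, 187, 1), (3, 9, 187, 1), (3, 10, 187, 1), (3, 11, 187, 1), (3, 12, 187, 1), (3, 13, 187, 1)], [(3, 2, 194, 0), (0, 0, 0, 0), (3, 16, 194, 0), (1, 0, 0, 0), (3, 24, 188, 1), (0, 0, 0, 0), (3, 26, 188, 1), (3, 27, 188, 1)], [(3, 1, 195, 0), (3, 8, 195, 0), (3, 18, 195, 0), (3, 25, 195, 0), (3, 17, 189, 1), (1, 0, 0, 0), (0, 0, 0, 0), (3, 20, 189, 1)], [(3, 5, 196, 0), (3, 0, 190, 1), (3, 19, 196, 0), (3, 2, 190, 1), (3, 3, 190, 1), (3, 4, 190, 1), (1, 0, 0, 0), (3, 6, 190, 1)], [(3, 0, 197, 0), (1, 0, 0, 0), (3, 8, 191, 1), (3, 9, 191, 1), (3, 10, 191, 1), (0, 0, 0, 0), (3, 12, 191, 1), (3, 13, 191, 1)], [(3, 2, 198, 0), (3, 11,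 198, 0), (3, 16, 198, 0), (3, 25, 198, 0), (0, 0, 0, 0), (1, 0, 0, 0), (3, 26, 192, 1), (3, 27, 192, 1)], [(3, 0, 199, 0), (1, 0, 0, 0), (3, 8, 194, 1), (3, 9, 194, 1), (3, 10, 194, 1), (0, 0, 0, 0), (3, 12, 194, 1), (3, 13, 194, 1)], [(3, 2, 200, 0), (3, 11, 200, 0), (3, 16, 200, 0), (3, 25, 200, 0), (0, 0, 0, 0), (1, 0, 0, 0), (0, 0, 0, 0), (3, 27, 195, 1)], [(3, 1, 201, 0), (3, 8, 201, 0), (3, 19, 201, 0), (3, 26, 201, 0), (3, 17, 196, 1), (3, 18, 196, 1), (1, 0, 0, 0), (3, 20, 196, 1)], [(3, 0, 202, 0), (3, 11, 202, 0), (3, 8, 198, 1), (3, 9, 198, 1), (0, 0, 0, 0), (1, 0, 0, 0), (3, 12, 198, 1), (3, 13, 198, 1)], [(3, 3, 203, 0), (3, 10, 203, 0), (3, 17, 203, 0), (3, 24, 203, 0), (1, 0, 0, 0), (3, 32, 198, 1), (3, 33, 198,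 1), (3, 34, 198, 1)], [(3, 0, 204, 0), (3, 11, 204, 0), (3, 8, 200, 1), (3, 9, 200, 1), (0, 0, 0, 0), (1, 0, 0, 0), (0, 0, 0, 0), (3, 13, 200, 1)], [(3, 3, 205, 0), (3, 10, 205, 0), (3, 17, 205, 0), (3, 24, 205, 0), (1, 0, 0, 0), (3, 32, 200, 1), (0, 0, 0, 0), (3, 34, 200, 1)], [(3, 2, 206, 0), (3, 12, 206, 0), (3, 16, 206, 0), (3, 26, 206, 0), (3, 33, 206, 0), (3, 25, 201, 1), (1, 0, 0, 0), (3, 27, 201, 1)], [(3, 0, 207, 0), (3, 10, 207, 0), (3, 8, 203, 1), (0, 0, 0, 0), (1, 0, 0, 0), (3, 11, 203, 1), (3, 12, 203, 1), (3, 13, 203, 1)], [(3, 0, 208, 0), (3, 10, 208, 0), (3, 8, 205, 1), (0, 0, 0, 0), (1, 0, 0, 0), (3, 11, 205, 1), (0, 0, 0, 0), (3, 13, 205, 1)], [(3, 0, 209, 0), (3, 12, 209, 0), (3, 8, 206, 1), (3, 9, 206, 1),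 (3, 33, 209, 0), (3, 11, 206, 1), (1, 0, 0, 0), (3, 13, 206, 1)], [(3, 3, 210, 0), (3, 10, 210, 0), (3, 17, 210, 0), (3, 24, 210, 0), (3, 33, 210, 0), (0, 0, 0, 0), (1, 0, 0, 0), (3, 34, 206, 1)], [(3, 2, 211, 0), (3, 9, 211, 0), (0, 0, 0, 0), (1, 0, 0, 0), (3, 24, 207, 1), (3, 25, 207, 1), (3, 26, 207, 1), (3, 27, 207, 1)], [(3, 2, 212, 0), (3, 9, 212, 0), (0, 0, 0, 0), (1, 0, 0, 0), (3, 24, 208, 1), (3, 25, 208, 1), (0, 0, 0, 0), (3, 27, 208, 1)], [(3, 0, 213, 0), (3, 10, 213, 0), (3, 8, 210, 1), (3, 26, 213, 0), (3, 33, 213, 0), (0, 0, 0, 0), (1, 0, 0, 0), (3, 13, 210, 1)], [(3, 4, 214, 0), (3, 11, 214, 0), (3, 18, 214, 0), (3, 25, 214, 0), (3, 32, 214, 0), (1, 0, 0, 0), (3, 40, 210, 1), (3, 41, 210, 1)], [(0, 0, 0, 0),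 (3, 8, 215, 0), (1, 0, 0, 0), (3, 16, 211, 1), (3, 17, 211, 1), (3, 18, 211, 1), (3, 19, 211, 1), (3, 20, 211, 1)], [(0, 0, 0, 0), (3, 8, 216, 0), (1, 0, 0, 0), (3, 16, 212, 1), (3, 17, 212, 1), (3, 18, 212, 1), (0, 0, 0, 0), (3, 20, 212, 1)], [(3, 2, 217, 0), (3, 9, 217, 0), (3, 19, 217, 0), (3, 26, 217, 0), (3, 24, 213, 1), (0, 0, 0, 0), (1, 0, 0, 0), (3, 27, 213, 1)], [(3, 0, 218, 0), (3, 11, 218, 0), (3, 8, 214, 1), (3, 25, 218, 0), (3, 10, 214, 1), (1, 0, 0, 0), (3, 12, 214, 1), (3, 13, 214, 1)], [(1, 0, 0, 0), (3, 0, 215, 1), (3, 1, 215, 1), (3, 2, 215, 1), (3, 3, 215, 1), (3, 4, 215, 1), (3, 5, 215, 1), (3, 6, 215, 1)], [(1, 0, 0, 0), (3, 0, 216, 1), (3, 1, 216, 1), (3, 2, 216, 1), (3, 3, 216, 1), (3, 4, 216, 1), (0,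 0, 0, 0), (3, 6, 216, 1)], [(3, 5, 221, 0), (3, 8, 221, 0), (3, 19, 221, 0), (3, 16, 217, 1), (3, 17, 217, 1), (0, 0, 0, 0), (1, 0, 0, 0), (3, 20, 217, 1)], [(3, 2, 222, 0), (3, 9, 222, 0), (3, 18, 222, 0), (3, 25, 222, 0), (0, 0, 0, 0), (1, 0, 0, 0), (3, 26, 218, 1), (3, 27, 218, 1)], [(3, 5, 223, 0), (3, 0, 221, 1), (3, 1, 221, 1), (3, 2, 221, 1), (3, 3, 221, 1), (0, 0, 0, 0), (1, 0, 0, 0), (3, 6, 221, 1)], [(3, 4, 224, 0), (3, 8, 224, 0), (3, 18, 224, 0), (3, 16, 222, 1), (0, 0, 0, 0), (1, 0, 0, 0), (3, 19, 222, 1), (3, 20, 222, 1)], [(3, 3, 225, 0), (3, 10, 225, 0), (3, 17, 225, 0), (3, 24, 225, 0), (1, 0, 0, 0), (3, 32, 222, 1), (3, 33, 222, 1), (3, 34, 222, 1)], [(3, 4, 226, 0), (3, 0, 224, 1), (3, 1, 224, 1), (3, 2,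 224, 1), (0, 0, 0, 0), (1, 0, 0, 0), (3, 5, 224, 1), (3, 6, 224, 1)], [(3, 3, 227, 0), (3, 8, 227, 0), (3, 17, 227, 0), (0, 0, 0, 0), (1, 0, 0, 0), (3, 18, 225, 1), (3, 19, 225, 1), (3, 20, 225, 1)], [(3, 3, 228, 0), (3, 0, 227, 1), (3, 1, 227, 1), (0, 0, 0, 0), (1, 0, 0, 0), (3, 4, 227, 1), (3, 5, 227, 1), (3, 6, 227, 1)], [(3, 2, 229, 0), (0, 0, 0, 0), (3, 16, 229, 0), (1, 0, 0, 0), (3, 24, 227, 1), (3, 25, 227, 1), (3, 26, 227, 1), (3, 27, 227, 1)], [(3, 2, 230, 0), (0, 0, 0, 0), (0, 0, 0, 0), (1, 0, 0, 0), (3, 3, 229, 1), (3, 4, 229, 1), (3, 5, 229, 1), (3, 6, 229, 1)], [(3, 0, 231, 0), (1, 0, 0, 0), (3, 8, 229, 1), (3, 9, 229, 1), (3, 10, 229, 1), (3, 11, 229, 1), (3, 12, 229, 1), (3, 13, 229, 1)], [(3, 0, 232, 0), (1,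 0, 0, 0), (0, 0, 0, 0), (3, 2, 231, 1), (3, 3, 231, 1), (3, 4, 231, 1), (3, 5, 231, 1), (3, 6, 231, 1)], [(3, 1, 233, 0), (3, 8, 233, 0), (1, 0, 0, 0), (3, 16, 230, 1), (3, 17, 230, 1), (3, 18, 230, 1), (3, 19, 230, 1), (3, 20, 230, 1)], [(3, 0, 234, 0), (3, 8, 234, 0), (1, 0, 0, 0), (0, 0, 0, 0), (3, 10, 233, 1), (3, 11, 233, 1), (3, 12, 233, 1), (3, 13, 233, 1)], [(3, 2, 235, 0), (3, 9, 235, 0), (3, 16, 235, 0), (1, 0, 0, 0), (0, 0, 0, 0), (3, 25, 234, 1), (3, 26, 234, 1), (3, 27, 234, 1)], [(3, 3, 236, 0), (3, 10, 236, 0), (3, 17, 236, 0), (3, 24, 236, 0), (1, 0, 0, 0), (0, 0, 0, 0), (3, 33, 235, 1), (3, 34, 235, 1)], [(3, 4, 237, 0), (3, 11, 237, 0), (3, 18, 237, 0), (3, 25, 237, 0), (3, 32, 237, 0), (1, 0, 0, 0), (0, 0,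 0, 0), (3, 41, 236, 1)], [(3, 5, 238, 0), (3, 12, 238, 0), (3, 19, 238, 0), (3, 26, 238, 0), (3, 33, 238, 0), (3, 40, 238, 0), (1, 0, 0, 0), (0, 0, 0, 0)], [(3, 6, 239, 0), (3, 13, 239, 0), (3, 20, 239, 0), (3, 27, 239, 0), (3, 34, 239, 0), (3, 41, 239, 0), (3, 48, 239, 0), (1, 0, 0, 0)]]
  rels := [(0, 1, 2), (0, 2, 3), (0, 3, 2), (0, 4, 2), (0, 5, 2), (0, 6, 2), (0, 7, 2), (1, 0, 2), (1, 2, 2), (1, 3, 3), (1, 4, 2), (1, 5, 2), (1, 6, 2), (1, 7, 2), (2, 0, 3), (2, 1, 2), (2, 3, 3), (2, 4, 2), (2, 5, 2), (2, 6, 2), (2, 7, 2), (3, 0, 2), (3, 1, 3), (3, 2, 3), (3, 4, 3), (3, 5, 2), (3, 6, 2), (3, 7, 2), (4, 0, 2), (4, 1, 2), (4, 2, 2), (4, 3, 3), (4, 5, 3), (4, 6, 2), (4, 7, 2), (5, 0, 2), (5, 1, 2), (5, 2, 2), (5, 3, 2), (5,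 4, 3), (5, 6, 3), (5, 7, 2), (6, 0, 2), (6, 1, 2), (6, 2, 2), (6, 3, 2), (6, 4, 2), (6, 5, 3), (6, 7, 3), (7, 0, 2), (7, 1, 2), (7, 2, 2), (7, 3, 2), (7, 4, 2), (7, 5, 2), (7, 6, 3)]

/-- the chain -/
def chainE8_8 : List Cert := [cE8_1, cE8_2, cE8_3, cE8_4, cE8_5, cE8_6, cE8_7, cE8_8]

set_option maxRecDepth 100000 in
theorem chainE8_8_ok : chainOK mlE8 0 chainE8_8 = true := by decide +kernel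

end Cfsg.Agent.Lib.Helper3.TC
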