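import Cfsg.Agent.Lib.Helper3.CoxOrd.Main

set_option autoImplicit false

/-! Orders of elements and generation statements in presented Coxeter groups with a faithful
permutation model. -/

namespace Cfsg.Agent.Lib.Helper3.TC

theorem Model.actW_ge (X : Model) (w : List ℕ) {x : ℕ} (h : ¬ x < X.k) : X.actW w x = x := by
  induction w with
  | nil => rfl
  | cons a w ih =>
    show X.act a (X.actW w x) = x
    rw [ih, X.act_ge a h]

/-- order check for a word in the model -/
def Model.ordOK (X : Model) (w : List ℕ) (h : ℕ) : Bool :=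
  Nat.blt 0 h && X.allPts (fun x => Nat.beq (iter (X.actW w) h x) x) &&
  (List.range h).all fun d => Nat.beq d 0 || !(Nat.beq (h % d) 0) ||
    (List.range X.k).any fun x => !(Nat.beq (iter (X.actW w) d x) x)

variable {n : ℕ} (M : CoxeterMatrix (Fin n))

theorem coxeter_word : ((List.finRange n).map M.simple).prod = wv (gen M) (List.range n) := by
  unfold wv
  rw [← List.map_coe_finRange_eq_range, List.map_map]
  congr 1
  apply List.map_congr_left
  intro i _
  exact (gen_eq M i.2).symm

variable {ML : List (List ℕ)} (hM : ∀ a b : Fin n, M a b = Cert.mat ML a b)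
  (X : Model) (hX : X.modelOK ML n = true)

theorem orderOf_word (hinj : Function.Injective (hom M hM X hX)) (w : List ℕ)
    (hw : ∀ a ∈ w, a < n) (h : ℕ) (hc : X.ordOK w h = true) : orderOf (wv (gen M) w) = h := by
  unfold Model.ordOK at hc
  simp only [Bool.and_eq_true, Nat.blt_eq, List.all_eq_true, List.mem_range, Bool.or_eq_true,
    Bool.not_eq_true', List.any_eq_true] at hc
  obtain ⟨⟨hpos, hall⟩, hdiv⟩ := hc
  rw [X.allPts_iff] at hall
  set g := wv (gen M) w with hg
  set σ := hom M hM X hX g with hσ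
  have hσx : ∀ x, σ x = X.actW w x := fun x => hom_wv_apply M hM X hX w hw x
  have hpow : ∀ d x, (σ ^ d) x = iter (X.actW w) d x := pow_apply_eq_iter σ _ hσx
  have hσh : σ ^ h = 1 := by
    ext x
    rw [hpow]
    by_cases hx : x < X.k
    · exact Nat.eq_of_beq_eq_true (hall x hx)
    · exact iter_fix _ (X.actW_ge w hx) _
  have hgh : g ^ h = 1 := by
    apply hinj
    rw [map_pow, map_one]; exact hσh
  have hdvd : orderOf g ∣ h := orderOf_dvd_of_pow_eq_one hgh
  have hopos : 0 < orderOf g := Nat.pos_of_dvd_of_pos hdvd hpos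
  by_contra hne
  have hlt : orderOf g < h := lt_of_le_of_ne (Nat.le_of_dvd hpos hdvd) hne
  rcases hdiv (orderOf g) hlt with (h1 | h2) | h3
  · have := Nat.eq_of_beq_eq_true h1; omega
  · rw [Nat.mod_eq_zero_of_dvd hdvd] at h2
    exact absurd h2 (by decide)
  · obtain ⟨x, _, hx⟩ := h3
    have h1 : σ ^ orderOf g = 1 := by
      rw [hσ, ← map_pow, pow_orderOf_eq_one, map_one]
    have h2 : iter (X.actW w) (orderOf g) x = x := by
      rw [← hpow, h1]; rfl
    rw [h2] at hx
    simp at hx

/-- table of a node -/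
def tabOf (nodes : List (ℕ × ℕ × ℕ × List ℕ)) (r : ℕ) : List ℕ := (nodes.getD r (0, 0, 0, [])).2.2.2

/-- check of one node of a generation certificate -/
def Model.nodeOK (X : Model) (n : ℕ) (w base : List ℕ) (nodes : List (ℕ × ℕ × ℕ × List ℕ))
    (r : ℕ) : Bool :=
  match nodes.getD r (0, 0, 0, []) with
  | (0, a, _, t) => base.any (Nat.beq a) && Nat.blt a n &&
      X.allPts fun x => Nat.beq (X.ap t x) (X.act a x)
  | (1, a, _, t) => Nat.blt a r &&
      X.allPts fun x => Nat.beq (X.ap t (X.actW w x)) (X.actW w (X.ap (tabOf nodes a) x))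
  | (2, a, b, t) => Nat.blt a r && Nat.blt b r &&
      X.allPts fun x => Nat.beq (X.ap t x)
        (X.ap (tabOf nodes a) (X.ap (tabOf nodes b) (X.ap (tabOf nodes a) x)))
  | (3, a, _, t) => Nat.blt a r &&
      X.allPts fun x => Nat.beq (X.actW w (X.ap t x)) (X.ap (tabOf nodes a) (X.actW w x))
  | (4, a, b, t) => Nat.blt a r && Nat.blt b r &&
      X.allPts fun x => Nat.beq (X.ap t x) (X.ap (tabOf nodes a) (X.ap (tabOf nodes b) x))
  | (5, _, _, t) => X.allPts fun x => Nat.beq (X.ap t x) (X.actW w x)
  | _ => false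

/-- check of a generation certificate -/
def Model.genOK (X : Model) (n : ℕ) (w base : List ℕ) (nodes : List (ℕ × ℕ × ℕ × List ℕ))
    (fin : List ℕ) : Bool :=
  ((List.range nodes.length).all fun r => X.nodeOK n w base nodes r) &&
  (List.range n).all fun i => Nat.blt (fin.getD i 0) nodes.length &&
    X.allPts fun x => Nat.beq (X.ap (tabOf nodes (fin.getD i 0)) x) (X.act i x)

theorem Model.eq_of_allPts (X : Model) {f g : ℕ → ℕ} (hf : ∀ x, ¬ x < X.k → f x = x)
    (hg : ∀ x, ¬ x < X.k → g x = x) (h : X.allPts (fun x => Nat.beq (f x) (g x)) = true) (x : ℕ) :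
    f x = g x := by
  by_cases hx : x < X.k
  · rw [X.allPts_iff] at h
    exact Nat.eq_of_beq_eq_true (h x hx)
  · rw [hf x hx, hg x hx]

theorem gen_cert_sound (hinj : Function.Injective (hom M hM X hX)) (w : List ℕ)
    (hw : ∀ a ∈ w, a < n) (base : List ℕ) (nodes : List (ℕ × ℕ × ℕ × List ℕ)) (fin : List ℕ)
    (hc : X.genOK n w base nodes fin = true) (Q : Subgroup M.Group)
    (hcQ : wv (gen M) w ∈ Q) (hbQ : ∀ a ∈ base, gen M a ∈ Q) : Q = ⊤ := by
  unfold Model.genOK at hc
  simp only [Bool.and_eq_true, List.all_eq_true, List.mem_range, Nat.blt_eq] at hc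
  obtain ⟨hnodes, hfin⟩ := hc
  set φ := hom M hM X hX with hφ
  set c := wv (gen M) w with hcdef
  have hσx : ∀ x, φ c x = X.actW w x := fun x => hom_wv_apply M hM X hX w hw x
  have hσinv : ∀ x, (φ c)⁻¹ (X.actW w x) = x := by
    intro x; exact Equiv.Perm.inv_eq_iff_eq.mpr (hσx x).symm
  have key : ∀ r, r < nodes.length → ∃ q ∈ Q, ∀ x, φ q x = X.ap (tabOf nodes r) x := by
    intro r
    induction r using Nat.strong_induction_on with
    | _ r IH =>
      intro hr
      have hn := hnodes r hr
      unfold Model.nodeOK at hn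
      have htab : tabOf nodes r = (nodes.getD r (0, 0, 0, [])).2.2.2 := rfl
      split at hn
      · -- simple reflection
        rename_i a b t heq
        simp only [Bool.and_eq_true, Nat.blt_eq, List.any_eq_true] at hn
        obtain ⟨⟨⟨a', ha', haa'⟩, han⟩, hpts⟩ := hn
        have : a = a' := Nat.eq_of_beq_eq_true haa'
        subst this
        refine ⟨gen M a, hbQ a ha', fun x => ?_⟩
        rw [htab, heq, hom_gen_apply M hM X hX han]
        exact (X.eq_of_allPts (fun x hx => X.ap_ge _ hx) (fun x hx => X.act_ge _ hx) hpts x).symm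
      · -- conjugation by `c`
        rename_i a b t heq
        simp only [Bool.and_eq_true, Nat.blt_eq] at hn
        obtain ⟨har, hpts⟩ := hn
        obtain ⟨qa, hqa, hqax⟩ := IH a har (har.trans hr)
        refine ⟨c * qa * c⁻¹, Q.mul_mem (Q.mul_mem hcQ hqa) (Q.inv_mem hcQ), fun y => ?_⟩
        rw [htab, heq]
        have hy : y = X.actW w ((φ c)⁻¹ y) := by
          rw [← hσx]; exact (Equiv.Perm.eq_inv_iff_eq.mp rfl).symm
        have h1 := X.eq_of_allPts (f := fun x => X.ap t (X.actW w x))
          (g := fun x => X.actW w (X.ap (tabOf nodes a) x))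
          (fun x hx => by show X.ap t (X.actW w x) = x; rw [X.actW_ge w hx, X.ap_ge _ hx])
          (fun x hx => by show X.actW w (X.ap (tabOf nodes a) x) = x; rw [X.ap_ge _ hx, X.actW_ge w hx])
          hpts ((φ c)⁻¹ y)
        rw [← hy] at h1
        rw [h1, map_mul, map_mul, map_inv, Equiv.Perm.mul_apply, Equiv.Perm.mul_apply, hqax, hσx]
      · -- `a b a`
        rename_i a b t heq
        simp only [Bool.and_eq_true, Nat.blt_eq] at hn
        obtain ⟨⟨har, hbr⟩, hpts⟩ := hn
        obtain ⟨qa, hqa, hqax⟩ := IH a har (har.trans hr)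
        obtain ⟨qb, hqb, hqbx⟩ := IH b hbr (hbr.trans hr)
        refine ⟨qa * qb * qa, Q.mul_mem (Q.mul_mem hqa hqb) hqa, fun x => ?_⟩
        rw [htab, heq, map_mul, map_mul, Equiv.Perm.mul_apply, Equiv.Perm.mul_apply, hqax, hqbx, hqax]
        exact (X.eq_of_allPts (f := fun x => X.ap t x)
          (g := fun x => X.ap (tabOf nodes a) (X.ap (tabOf nodes b) (X.ap (tabOf nodes a) x)))
          (fun x hx => X.ap_ge _ hx)
          (fun x hx => by
            show X.ap (tabOf nodes a) (X.ap (tabOf nodes b) (X.ap (tabOf nodes a) x)) = x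
            rw [X.ap_ge _ hx, X.ap_ge _ hx, X.ap_ge _ hx]) hpts x).symm
      · -- conjugation by `c⁻¹`
        rename_i a b t heq
        simp only [Bool.and_eq_true, Nat.blt_eq] at hn
        obtain ⟨har, hpts⟩ := hn
        obtain ⟨qa, hqa, hqax⟩ := IH a har (har.trans hr)
        refine ⟨c⁻¹ * qa * c, Q.mul_mem (Q.mul_mem (Q.inv_mem hcQ) hqa) hcQ, fun x => ?_⟩
        rw [htab, heq]
        have h1 := X.eq_of_allPts (f := fun x => X.actW w (X.ap t x))
          (g := fun x => X.ap (tabOf nodes a) (X.actW w x))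
          (fun x hx => by show X.actW w (X.ap t x) = x; rw [X.ap_ge _ hx, X.actW_ge w hx])
          (fun x hx => by show X.ap (tabOf nodes a) (X.actW w x) = x; rw [X.actW_ge w hx, X.ap_ge _ hx])
          hpts x
        rw [map_mul, map_mul, map_inv, Equiv.Perm.mul_apply, Equiv.Perm.mul_apply, hσx, hqax, ← h1,
          hσinv]
      · -- product
        rename_i a b t heq
        simp only [Bool.and_eq_true, Nat.blt_eq] at hn
        obtain ⟨⟨har, hbr⟩, hpts⟩ := hn
        obtain ⟨qa, hqa, hqax⟩ := IH a har (har.trans hr)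
        obtain ⟨qb, hqb, hqbx⟩ := IH b hbr (hbr.trans hr)
        refine ⟨qa * qb, Q.mul_mem hqa hqb, fun x => ?_⟩
        rw [htab, heq, map_mul, Equiv.Perm.mul_apply, hqax, hqbx]
        exact (X.eq_of_allPts (f := fun x => X.ap t x)
          (g := fun x => X.ap (tabOf nodes a) (X.ap (tabOf nodes b) x))
          (fun x hx => X.ap_ge _ hx)
          (fun x hx => by
            show X.ap (tabOf nodes a) (X.ap (tabOf nodes b) x) = x
            rw [X.ap_ge _ hx, X.ap_ge _ hx]) hpts x).symm
      · -- the Coxeter element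
        rename_i a b t heq
        refine ⟨c, hcQ, fun x => ?_⟩
        rw [htab, heq, hσx]
        exact (X.eq_of_allPts (f := fun x => X.ap t x) (g := fun x => X.actW w x)
          (fun x hx => X.ap_ge _ hx) (fun x hx => X.actW_ge w hx) hn x).symm
      · exact absurd hn (by simp)
  rw [eq_top_iff, ← K_gen_top M]
  unfold K
  rw [Subgroup.closure_le]
  rintro _ ⟨i, hi, rfl⟩
  obtain ⟨hlt, hpts⟩ := hfin i hi
  obtain ⟨q, hq, hqx⟩ := key _ hlt
  have : gen M i = q := by
    apply hinj
    ext x
    rw [hqx, hom_gen_apply M hM X hX hi]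
    exact (X.eq_of_allPts (f := fun x => X.ap (tabOf nodes (fin.getD i 0)) x)
      (g := fun x => X.act i x) (fun x hx => X.ap_ge _ hx) (fun x hx => X.act_ge _ hx) hpts x).symm
  rw [SetLike.mem_coe, this]
  exact hq

/-- the base reflections are pairwise distinct in the model -/
def Model.distOK (X : Model) (n : ℕ) (base : List ℕ) : Bool :=
  decide base.Nodup && base.all fun a => Nat.blt a n && base.all fun b => Nat.beq a b ||
    (List.range X.k).any fun x => !(Nat.beq (X.act a x) (X.act b x))

open Classical in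
/-- the statement on generation by the Coxeter element and a few reflections -/
theorem gen_statement (hinj : Function.Injective (hom M hM X hX)) (base : List ℕ)
    (nodes : List (ℕ × ℕ × ℕ × List ℕ)) (fin : List ℕ)
    (hc : X.genOK n (List.range n) base nodes fin = true) (hd : X.distOK n base = true) :
    ∃ T : Finset M.Group, T.card = base.length ∧
      (∀ t ∈ T, ∃ (g : M.Group) (i : Fin n), t = g * M.simple i * g⁻¹) ∧
      Subgroup.closure (({((List.finRange n).map M.simple).prod} : Set M.Group) ∪ ↑T) = ⊤ := by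
  unfold Model.distOK at hd
  simp only [Bool.and_eq_true, decide_eq_true_eq, List.all_eq_true, Nat.blt_eq, Bool.or_eq_true,
    List.any_eq_true, List.mem_range, Bool.not_eq_true'] at hd
  obtain ⟨hnd, hdist⟩ := hd
  refine ⟨base.toFinset.image (gen M), ?_, ?_, ?_⟩
  · rw [Finset.card_image_of_injOn, List.toFinset_card_of_nodup hnd]
    intro a ha b hb hab
    have ha' : a ∈ base := by simpa using ha
    have hb' : b ∈ base := by simpa using hb
    rcases (hdist a ha').2 b hb' with h1 | ⟨x, _, hx⟩
    · exact Nat.eq_of_beq_eq_true h1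
    · exfalso
      have h1 := hom_gen_apply M hM X hX (hdist a ha').1 x
      have h2 := hom_gen_apply M hM X hX (hdist b hb').1 x
      have hab' : gen M a = gen M b := hab
      rw [hab', h2] at h1
      rw [h1] at hx
      simp at hx
  · intro t ht
    rw [Finset.mem_image] at ht
    obtain ⟨a, ha, rfl⟩ := ht
    have ha' : a ∈ base := by simpa using ha
    refine ⟨1, ⟨a, (hdist a ha').1⟩, ?_⟩
    rw [gen_eq M (hdist a ha').1, one_mul, inv_one, mul_one]
  · apply gen_cert_sound M hM X hX hinj (List.range n) (fun a ha => List.mem_range.mp ha) base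
      nodes fin hc
    · rw [← coxeter_word]
      exact Subgroup.subset_closure (Or.inl rfl)
    · intro a ha
      apply Subgroup.subset_closure
      right
      rw [Finset.mem_coe, Finset.mem_image]
      exact ⟨a, by simpa using ha, rfl⟩

end Cfsg.Agent.Lib.Helper3.TC
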