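import Cfsg.Agent.Lib.Helper3.CoxOrd.Orders
import Cfsg.Agent.Lib.Helper3.CoxOrd.Elements

set_option autoImplicit false

/-! Orders of the Coxeter elements. -/

namespace Cfsg.Agent.Lib.Helper3.TC

set_option maxRecDepth 100000 in
theorem ord_E8 : orderOf ((List.finRange 8).map CoxeterMatrix.E₈.simple).prod = 30 := by
  rw [coxeter_word]
  exact orderOf_word _ mat_E8 xE8 xE8_ok_8 main_E8.2.2 (List.range 8)
    (fun a ha => List.mem_range.mp ha) 30 (by decide +kernel)

set_option maxRecDepth 100000 in
theorem ord_E7 : orderOf ((List.finRange 7).map CoxeterMatrix.E₇.simple).prod = 18 := by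
  rw [coxeter_word]
  exact orderOf_word _ mat_E7 xE8 xE8_ok_7 main_E7.2.2 (List.range 7)
    (fun a ha => List.mem_range.mp ha) 18 (by decide +kernel)

set_option maxRecDepth 100000 in
theorem ord_E6 : orderOf ((List.finRange 6).map CoxeterMatrix.E₆.simple).prod = 12 := by
  rw [coxeter_word]
  exact orderOf_word _ mat_E6 xE8 xE8_ok_6 main_E6.2.2 (List.range 6)
    (fun a ha => List.mem_range.mp ha) 12 (by decide +kernel)

set_option maxRecDepth 100000 in
theorem ord_F4 : orderOf ((List.finRange 4).map CoxeterMatrix.F₄.simple).prod = 12 := by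
  rw [coxeter_word]
  exact orderOf_word _ mat_F4 xF4 xF4_ok_4 main_F4.2.2 (List.range 4)
    (fun a ha => List.mem_range.mp ha) 12 (by decide +kernel)

set_option maxRecDepth 100000 in
theorem ord_D4 : orderOf ((List.finRange 4).map Cfsg.Lie.coxeterD4.simple).prod = 6 := by
  rw [coxeter_word]
  exact orderOf_word _ mat_D4 xD4 xD4_ok_4 main_D4.2.2 (List.range 4)
    (fun a ha => List.mem_range.mp ha) 6 (by decide +kernel)

set_option maxRecDepth 100000 in
theorem ord_G2 : orderOf ((List.finRange 2).map CoxeterMatrix.G₂.simple).prod = 6 := by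
  rw [coxeter_word]
  exact orderOf_word _ mat_G2 xG2 xG2_ok_2 main_G2.2.2 (List.range 2)
    (fun a ha => List.mem_range.mp ha) 6 (by decide +kernel)

set_option maxRecDepth 100000 in
theorem ord_B2 : orderOf ((List.finRange 2).map (CoxeterMatrix.B 2).simple).prod = 4 := by
  rw [coxeter_word]
  exact orderOf_word _ mat_B2 xB2 xB2_ok_2 main_B2.2.2 (List.range 2)
    (fun a ha => List.mem_range.mp ha) 4 (by decide +kernel)

end Cfsg.Agent.Lib.Helper3.TC
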