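import Cfsg.Agent.Lib.Helper3.CoxOrd.Orders
import Cfsg.Agent.Lib.Helper3.CoxOrd.GenData

set_option autoImplicit false

/-! Generation of the Coxeter groups by the Coxeter element and one or two reflections. -/

namespace Cfsg.Agent.Lib.Helper3.TC

/-- the generation statement -/
def GenStmt {n : ℕ} (M : CoxeterMatrix (Fin n)) (c : ℕ) : Prop :=
  ∃ T : Finset M.Group, T.card = c ∧
    (∀ t ∈ T, ∃ (g : M.Group) (i : Fin n), t = g * M.simple i * g⁻¹) ∧
    Subgroup.closure (({((List.finRange n).map M.simple).prod} : Set M.Group) ∪ ↑T) = ⊤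

set_option maxRecDepth 100000 in
theorem gen_E8 : GenStmt CoxeterMatrix.E₈ 1 := gen_statement CoxeterMatrix.E₈ mat_E8 xE8 xE8_ok_8 main_E8.2.2 gbaseE8 gnodesE8 gfinE8
  (by decide +kernel) (by decide +kernel)

set_option maxRecDepth 100000 in
theorem gen_E7 : GenStmt CoxeterMatrix.E₇ 1 := gen_statement CoxeterMatrix.E₇ mat_E7 xE8 xE8_ok_7 main_E7.2.2 gbaseE7 gnodesE7 gfinE7
  (by decide +kernel) (by decide +kernel)

set_option maxRecDepth 100000 in
theorem gen_E6 : GenStmt CoxeterMatrix.E₆ 1 := gen_statement CoxeterMatrix.E₆ mat_E6 xE8 xE8_ok_6 main_E6.2.2 gbaseE6 gnodesE6 gfinE6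
  (by decide +kernel) (by decide +kernel)

set_option maxRecDepth 100000 in
theorem gen_F4 : GenStmt CoxeterMatrix.F₄ 2 := gen_statement CoxeterMatrix.F₄ mat_F4 xF4 xF4_ok_4 main_F4.2.2 gbaseF4 gnodesF4 gfinF4
  (by decide +kernel) (by decide +kernel)

set_option maxRecDepth 100000 in
theorem gen_D4 : GenStmt Cfsg.Lie.coxeterD4 2 := gen_statement Cfsg.Lie.coxeterD4 mat_D4 xD4 xD4_ok_4 main_D4.2.2 gbaseD4 gnodesD4 gfinD4
  (by decide +kernel) (by decide +kernel)

set_option maxRecDepth 100000 in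
theorem gen_G2 : GenStmt CoxeterMatrix.G₂ 1 := gen_statement CoxeterMatrix.G₂ mat_G2 xG2 xG2_ok_2 main_G2.2.2 gbaseG2 gnodesG2 gfinG2
  (by decide +kernel) (by decide +kernel)

set_option maxRecDepth 100000 in
theorem gen_B2 : GenStmt (CoxeterMatrix.B 2) 1 := gen_statement (CoxeterMatrix.B 2) mat_B2 xB2 xB2_ok_2 main_B2.2.2 gbaseB2 gnodesB2 gfinB2
  (by decide +kernel) (by decide +kernel)

end Cfsg.Agent.Lib.Helper3.TC
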