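import Cfsg.Agent.Lib.Helper3.CoxOrd.TC

set_option autoImplicit false

/-! Permutation models of Coxeter groups given by tables: lower bounds for the order along a chain of
parabolic subgroups. -/

namespace Cfsg.Agent.Lib.Helper3.TC

/-- a permutation model: `k` points and rows of images -/
structure Model where
  /-- number of points -/
  k : ℕ
  /-- rows of images -/
  T : List (List ℕ)

/-- iterate -/
def iter (f : ℕ → ℕ) : ℕ → ℕ → ℕ
  | 0, x => x
  | d + 1, x => iter f d (f x)

namespace Model

variable (X : Model)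

/-- apply a table -/
def ap (t : List ℕ) (x : ℕ) : ℕ := bif Nat.blt x X.k then t.getD x x else x

/-- the action of generator `i` -/
def act (i x : ℕ) : ℕ := X.ap (X.T.getD i []) x

/-- a check on all points -/
def allPts (p : ℕ → Bool) : Bool := (List.range X.k).all p

/-- the model satisfies the relations of the matrix `ML` for the first `n` generators -/
def modelOK (ML : List (List ℕ)) (n : ℕ) : Bool :=
  (List.range n).all fun a => Nat.beq (Cert.mat ML a a) 1 && (List.range n).all fun b =>
    X.allPts fun x => Nat.beq (iter (fun y => X.act a (X.act b y)) (Cert.mat ML a b) x) x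

theorem ap_ge (t : List ℕ) {x : ℕ} (h : ¬ x < X.k) : X.ap t x = x := by
  unfold ap
  have : Nat.blt x X.k = false := by
    rw [← Bool.not_eq_true, Nat.blt_eq]; exact h
  rw [this]; rfl

theorem act_ge (i : ℕ) {x : ℕ} (h : ¬ x < X.k) : X.act i x = x := X.ap_ge _ h

theorem allPts_iff (p : ℕ → Bool) : X.allPts p = true ↔ ∀ x < X.k, p x = true := by
  unfold allPts
  simp [List.all_eq_true]

end Model

theorem iter_fix (f : ℕ → ℕ) {x : ℕ} (h : f x = x) : ∀ d, iter f d x = x
  | 0 => rfl
  | d + 1 => by rw [iter, h]; exact iter_fix f h d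

theorem pow_apply_eq_iter (σ : Equiv.Perm ℕ) (f : ℕ → ℕ) (h : ∀ x, σ x = f x) :
    ∀ (d x : ℕ), (σ ^ d) x = iter f d x
  | 0, x => rfl
  | d + 1, x => by
    rw [pow_succ, Equiv.Perm.mul_apply, h x, iter]
    exact pow_apply_eq_iter σ f h d (f x)

namespace Model

variable (X : Model)

/-- the permutation given by generator `a` -/
noncomputable def P (a : ℕ) : Equiv.Perm ℕ :=
  open Classical in
  if h : Function.Involutive (X.act a) then h.toPerm _ else 1

variable {ML : List (List ℕ)} {n : ℕ}

theorem rel_pt (h : X.modelOK ML n = true) {a b : ℕ} (ha : a < n) (hb : b < n) (x : ℕ) :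
    iter (fun y => X.act a (X.act b y)) (Cert.mat ML a b) x = x := by
  by_cases hx : x < X.k
  · unfold modelOK at h
    simp only [List.all_eq_true, List.mem_range, Bool.and_eq_true] at h
    have := (h a ha).2 b hb
    rw [X.allPts_iff] at this
    exact Nat.eq_of_beq_eq_true (this x hx)
  · exact iter_fix _ (by rw [X.act_ge b hx, X.act_ge a hx]) _

theorem mat_diag (h : X.modelOK ML n = true) {a : ℕ} (ha : a < n) : Cert.mat ML a a = 1 := by
  unfold modelOK at h
  simp only [List.all_eq_true, List.mem_range, Bool.and_eq_true] at h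
  exact Nat.eq_of_beq_eq_true (h a ha).1

theorem invol (h : X.modelOK ML n = true) {a : ℕ} (ha : a < n) : Function.Involutive (X.act a) := by
  intro x
  have := X.rel_pt h ha ha x
  rw [X.mat_diag h ha] at this
  exact this

theorem P_apply (h : X.modelOK ML n = true) {a : ℕ} (ha : a < n) (x : ℕ) : X.P a x = X.act a x := by
  unfold P
  rw [dif_pos (X.invol h ha)]
  rfl

theorem P_rel (h : X.modelOK ML n = true) {a b : ℕ} (ha : a < n) (hb : b < n) :
    (X.P a * X.P b) ^ (Cert.mat ML a b) = 1 := by
  ext x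
  rw [pow_apply_eq_iter (X.P a * X.P b) (fun y => X.act a (X.act b y)) (fun y => by
    rw [Equiv.Perm.mul_apply, X.P_apply h hb, X.P_apply h ha]), X.rel_pt h ha hb]
  rfl

/-- orbit certificate at level `m`: points with parents and generators -/
def orbOK (m : ℕ) (orb : List (ℕ × ℕ × ℕ)) : Bool :=
  decide ((orb.map (·.1)).Nodup) &&
  ((List.range m).all fun i => Nat.beq (X.act i (orb.getD 0 (0, 0, 0)).1) (orb.getD 0 (0, 0, 0)).1) &&
  (List.range orb.length).all fun t => Nat.beq t 0 ||
    (Nat.blt (orb.getD t (0, 0, 0)).2.1 t && Nat.blt (orb.getD t (0, 0, 0)).2.2 (m + 1) &&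
      Nat.beq (X.act (orb.getD t (0, 0, 0)).2.2 (orb.getD (orb.getD t (0, 0, 0)).2.1 (0, 0, 0)).1)
        (orb.getD t (0, 0, 0)).1)

/-- one level of the lower bound -/
theorem lower_level (Q : ℕ → Equiv.Perm ℕ) (m : ℕ) (hQ : ∀ i < m + 1, ∀ x, Q i x = X.act i x)
    (orb : List (ℕ × ℕ × ℕ)) (horb : X.orbOK m orb = true) (hfin : Finite (K Q (m + 1))) :
    orb.length * Nat.card (K Q m) ≤ Nat.card (K Q (m + 1)) := by
  unfold orbOK at horb
  simp only [Bool.and_eq_true, decide_eq_true_eq, List.all_eq_true, List.mem_range,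
    Bool.or_eq_true, Nat.blt_eq] at horb
  obtain ⟨⟨hnd, hfix⟩, htree⟩ := horb
  set pt : ℕ → ℕ := fun t => (orb.getD t (0, 0, 0)).1 with hpt
  -- the subgroup fixes the base point
  have hA : ∀ a ∈ K Q m, a (pt 0) = pt 0 := by
    intro a ha
    induction ha using Subgroup.closure_induction with
    | mem y hy =>
      obtain ⟨i, hi, rfl⟩ := hy
      rw [hQ i (Nat.lt_succ_of_lt hi)]
      exact Nat.eq_of_beq_eq_true (hfix i hi)
    | one => rfl
    | mul y z _ _ hy hz => rw [Equiv.Perm.mul_apply, hz, hy]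
    | inv y _ hy =>
      rw [Equiv.Perm.inv_eq_iff_eq]; exact hy.symm
  -- the points are in the orbit
  have hB : ∀ t, t < orb.length → ∃ b ∈ K Q (m + 1), b (pt 0) = pt t := by
    intro t
    induction t using Nat.strong_induction_on with
    | _ t IH =>
      intro ht
      rcases htree t ht with h0 | h1
      · have : t = 0 := Nat.eq_of_beq_eq_true h0
        subst this
        exact ⟨1, Subgroup.one_mem _, rfl⟩
      · obtain ⟨⟨hpar, hgen⟩, hact⟩ := h1
        obtain ⟨b', hb', hb'x⟩ := IH _ hpar (hpar.trans ht)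
        refine ⟨Q (orb.getD t (0, 0, 0)).2.2 * b', Subgroup.mul_mem _ (mem_K Q hgen) hb', ?_⟩
        rw [Equiv.Perm.mul_apply, hb'x, hQ _ hgen]
        exact Nat.eq_of_beq_eq_true hact
  choose! β hβ1 hβ2 using hB
  let F : Fin orb.length × (K Q m) → (K Q (m + 1)) := fun p =>
    ⟨β p.1 * (p.2 : Equiv.Perm ℕ), Subgroup.mul_mem _ (hβ1 _ p.1.2) (K_mono Q (Nat.le_succ m) p.2.2)⟩
  have hpt_inj : ∀ t t', t < orb.length → t' < orb.length → pt t = pt t' → t = t' := by
    intro t t' ht ht' h
    have h1 : (orb.map (·.1))[t]'(by simpa using ht) = pt t := by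
      rw [hpt]; simp only [List.getD_eq_getElem _ _ ht, List.getElem_map]
    have h2 : (orb.map (·.1))[t']'(by simpa using ht') = pt t' := by
      rw [hpt]; simp only [List.getD_eq_getElem _ _ ht', List.getElem_map]
    exact (List.Nodup.getElem_inj_iff hnd).mp (by rw [h1, h2, h])
  have hF : Function.Injective F := by
    rintro ⟨t, a⟩ ⟨t', a'⟩ h
    have h' : β t * (a : Equiv.Perm ℕ) = β t' * (a' : Equiv.Perm ℕ) := congrArg Subtype.val h
    have e1 : (β t * (a : Equiv.Perm ℕ)) (pt 0) = pt t := by
      rw [Equiv.Perm.mul_apply, hA _ a.2, hβ2 _ t.2]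
    have e2 : (β t' * (a' : Equiv.Perm ℕ)) (pt 0) = pt t' := by
      rw [Equiv.Perm.mul_apply, hA _ a'.2, hβ2 _ t'.2]
    have htt : t = t' := Fin.ext (hpt_inj _ _ t.2 t'.2 (by rw [← e1, ← e2, h']))
    subst htt
    have : (a : Equiv.Perm ℕ) = a' := mul_left_cancel h'
    rw [Subtype.ext this]
  have := Nat.card_le_card_of_injective F hF
  rwa [Nat.card_prod, Nat.card_fin] at this

/-- check of a chain of orbit certificates -/
def lowOK : ℕ → List (List (ℕ × ℕ × ℕ)) → Bool
  | _, [] => true
  | m, orb :: orbs => X.orbOK m orb && lowOK (m + 1) orbs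

theorem lower_chain (Q : ℕ → Equiv.Perm ℕ) :
    ∀ (orbs : List (List (ℕ × ℕ × ℕ))) (m : ℕ), X.lowOK m orbs = true →
      (∀ i < m + orbs.length, ∀ x, Q i x = X.act i x) → Finite (K Q (m + orbs.length)) →
      (orbs.map List.length).prod * Nat.card (K Q m) ≤ Nat.card (K Q (m + orbs.length))
  | [], m, _, _, _ => by simp
  | orb :: orbs, m, hok, hQ, hfin => by
    unfold lowOK at hok
    simp only [Bool.and_eq_true] at hok
    have e : m + (orb :: orbs).length = (m + 1) + orbs.length := by
      simp only [List.length_cons]; omega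
    rw [e] at hQ hfin ⊢
    have ih := lower_chain Q orbs (m + 1) hok.2 hQ hfin
    have hfin' : Finite (K Q (m + 1)) := chain_finite Q hfin (by omega)
    have hl := X.lower_level Q m (fun i hi => hQ i (by omega)) orb hok.1 hfin'
    refine le_trans ?_ ih
    rw [List.map_cons, List.prod_cons, mul_comm orb.length, mul_assoc]
    exact Nat.mul_le_mul_left _ hl

theorem lowOK_take :
    ∀ (orbs : List (List (ℕ × ℕ × ℕ))) (m j : ℕ), X.lowOK m orbs = true →
      X.lowOK m (orbs.take j) = true
  | [], _, _, _ => by simp [lowOK]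
  | _ :: _, _, 0, _ => by simp [lowOK]
  | orb :: orbs, m, j + 1, h => by
    rw [List.take_succ_cons]
    unfold lowOK at h ⊢
    simp only [Bool.and_eq_true] at h ⊢
    exact ⟨h.1, lowOK_take orbs (m + 1) j h.2⟩

theorem modelOK_mono {ML : List (List ℕ)} {n n' : ℕ} (h : X.modelOK ML n = true) (hn : n' ≤ n) :
    X.modelOK ML n' = true := by
  unfold modelOK at h ⊢
  simp only [List.all_eq_true, List.mem_range, Bool.and_eq_true] at h ⊢
  intro a ha
  exact ⟨(h a (by omega)).1, fun b hb => (h a (by omega)).2 b (by omega)⟩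

end Model

end Cfsg.Agent.Lib.Helper3.TC
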