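import Mathlib

set_option autoImplicit false

/-! A small verified Todd–Coxeter check (upper bound for the index of the subgroup generated by all
but the last generator, for groups generated by involutions subject to relations
`(γ a * γ b) ^ m = 1`). -/

namespace Cfsg.Agent.Lib.Helper3.TC

/-- certificate -/
structure Cert where
  /-- number of letters -/
  n : ℕ
  /-- number of cosets -/
  k : ℕ
  /-- words of the coset representatives -/
  word : List (List ℕ)
  /-- the coset table -/
  tau : List (List ℕ)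
  /-- time stamps -/
  rnk : List (List ℕ)
  /-- justifications `(kind, relator index, start, position)` -/
  jst : List (List (ℕ × ℕ × ℕ × ℕ))
  /-- relators `(a, b, m)` -/
  rels : List (ℕ × ℕ × ℕ)

namespace Cert

variable (C : Cert)

/-- word of coset `j` -/
def wd (j : ℕ) : List ℕ := C.word.getD j []
/-- table entry -/
def tb (j i : ℕ) : ℕ := (C.tau.getD j []).getD i 0
/-- rank of an entry -/
def rk (j i : ℕ) : ℕ := (C.rnk.getD j []).getD i 0
/-- justification of an entry -/
def js (j i : ℕ) : ℕ × ℕ × ℕ × ℕ := (C.jst.getD j []).getD i (0, 0, 0, 0)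

/-- alternating word of length `l` starting with `a` -/
def altL (a b : ℕ) : ℕ → List ℕ
  | 0 => []
  | l + 1 => a :: altL b a l

/-- follow the table along a word, using only entries of rank `< r` -/
def walk (r : ℕ) : ℕ → List ℕ → Option ℕ
  | c, [] => some c
  | c, u :: ws =>
    if Nat.blt (C.rk c u) r && Nat.blt c C.k && Nat.blt u C.n then walk r (C.tb c u) ws else none

/-- the check of one entry -/
def entryOK (j i : ℕ) : Bool :=
  let j' := C.tb j i
  Nat.blt j' C.k &&
  match C.js j i with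
  | (0, _, _, _) => decide (C.wd j' = C.wd j ++ [i])
  | (1, _, _, _) => decide (C.wd j = C.wd j' ++ [i])
  | (2, _, _, _) => Nat.beq j 0 && Nat.beq j' 0 && Nat.blt (i + 1) C.n
  | (3, idx, c0, pos) =>
    let rel := C.rels.getD idx (0, 0, 0)
    let W := altL rel.1 rel.2.1 (2 * rel.2.2)
    Nat.blt idx C.rels.length && Nat.blt pos W.length && Nat.beq (W.getD pos 0) i &&
    (walk C (C.rk j i) c0 (W.take pos) == some j) &&
    (walk C (C.rk j i) j' (W.drop (pos + 1)) == some c0)
  | (4, _, _, _) => Nat.beq (C.tb j' i) j && Nat.blt (C.rk j' i) (C.rk j i)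
  | _ => false

/-- the whole check -/
def check : Bool :=
  decide (C.wd 0 = []) && Nat.blt 0 C.k &&
    (List.range C.k).all fun j => (List.range C.n).all fun i => C.entryOK j i

/-- entry of a matrix given by lists -/
def mat (ML : List (List ℕ)) (a b : ℕ) : ℕ := (ML.getD a []).getD b 0

/-- the relators are those of the matrix `ML` -/
def relsOK (ML : List (List ℕ)) : Bool :=
  C.rels.all fun r => Nat.blt r.1 C.n && Nat.blt r.2.1 C.n && Nat.beq (mat ML r.1 r.2.1) r.2.2

end Cert

section sound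

variable {Γ : Type*} [Group Γ] (C : Cert) (γ : ℕ → Γ) (H : Subgroup Γ)

/-- the value of a word -/
def wv (w : List ℕ) : Γ := (w.map γ).prod

theorem wv_nil : wv γ [] = 1 := rfl
theorem wv_cons (a : ℕ) (w : List ℕ) : wv γ (a :: w) = γ a * wv γ w := by simp [wv]
theorem wv_append (w w' : List ℕ) : wv γ (w ++ w') = wv γ w * wv γ w' := by simp [wv]
theorem wv_singleton (a : ℕ) : wv γ [a] = γ a := by simp [wv]

/-- coset representative -/
def rep (j : ℕ) : Γ := wv γ (C.wd j)

/-- the fact recorded by the table entry `(j, i)` -/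
def Fact (j i : ℕ) : Prop := rep C γ j * γ i * (rep C γ (C.tb j i))⁻¹ ∈ H

theorem wv_altL (a b : ℕ) (m : ℕ) : wv γ (Cert.altL a b (2 * m)) = (γ a * γ b) ^ m := by
  induction m with
  | zero => simp [Cert.altL, wv]
  | succ m ih =>
    have : 2 * (m + 1) = (2 * m + 1) + 1 := by ring
    rw [this, Cert.altL, Cert.altL, wv_cons, wv_cons, ih, pow_succ', mul_assoc]

theorem walk_sound {r : ℕ} (ih : ∀ j i, j < C.k → i < C.n → C.rk j i < r → Fact C γ H j i) :
    ∀ (ws : List ℕ) (c e : ℕ), C.walk r c ws = some e →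
      rep C γ c * wv γ ws * (rep C γ e)⁻¹ ∈ H
  | [], c, e, h => by
    simp only [Cert.walk, Option.some.injEq] at h
    rw [h, wv_nil, mul_one, mul_inv_cancel]
    exact H.one_mem
  | u :: ws, c, e, h => by
    unfold Cert.walk at h
    split_ifs at h with hc
    simp only [Bool.and_eq_true, Nat.blt_eq] at hc
    have h1 := ih c u hc.1.2 hc.2 hc.1.1
    have h2 := walk_sound ih ws (C.tb c u) e h
    have e1 : rep C γ c * wv γ (u :: ws) * (rep C γ e)⁻¹ =
        (rep C γ c * γ u * (rep C γ (C.tb c u))⁻¹) * (rep C γ (C.tb c u) * wv γ ws * (rep C γ e)⁻¹) := by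
      rw [wv_cons]; group
    rw [e1]
    exact H.mul_mem h1 h2

variable (h0 : C.wd 0 = [])
  (hγ : ∀ i < C.n, γ i * γ i = 1)
  (hrel : ∀ r ∈ C.rels, (γ r.1 * γ r.2.1) ^ r.2.2 = 1)
  (hsub : ∀ i, i + 1 < C.n → γ i ∈ H)
include h0 hγ hrel hsub

theorem entry_sound {j i : ℕ} (hi : i < C.n)
    (ih : ∀ j' i', j' < C.k → i' < C.n → C.rk j' i' < C.rk j i → Fact C γ H j' i')
    (h : C.entryOK j i = true) : Fact C γ H j i := by
  unfold Cert.entryOK at h
  simp only [Bool.and_eq_true, Nat.blt_eq] at h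
  obtain ⟨hj', h⟩ := h
  unfold Fact
  split at h
  · -- definition, forward
    have hw : C.wd (C.tb j i) = C.wd j ++ [i] := of_decide_eq_true h
    have : rep C γ (C.tb j i) = rep C γ j * γ i := by
      unfold rep; rw [hw, wv_append, wv_singleton]
    rw [this, mul_inv_cancel]
    exact H.one_mem
  · -- definition, backward
    have hw : C.wd j = C.wd (C.tb j i) ++ [i] := of_decide_eq_true h
    have : rep C γ j = rep C γ (C.tb j i) * γ i := by
      unfold rep; rw [hw, wv_append, wv_singleton]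
    rw [this, mul_assoc (rep C γ (C.tb j i)), hγ i hi, mul_one, mul_inv_cancel]
    exact H.one_mem
  · -- subgroup generator
    simp only [Bool.and_eq_true, Nat.blt_eq] at h
    obtain ⟨⟨h1, h2⟩, h3⟩ := h
    have hj0 : j = 0 := Nat.eq_of_beq_eq_true h1
    have hj'0 : C.tb j i = 0 := Nat.eq_of_beq_eq_true h2
    have hr0 : rep C γ 0 = 1 := by unfold rep; rw [h0]; rfl
    rw [hj'0, hj0, hr0, one_mul, inv_one, mul_one]
    exact hsub i h3
  · -- relator
    rename_i idx c0 pos hjs
    simp only [Bool.and_eq_true, Nat.blt_eq, beq_iff_eq] at h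
    obtain ⟨⟨⟨⟨hidx, hpos⟩, hWi⟩, hw1⟩, hw2⟩ := h
    have hWi' := Nat.eq_of_beq_eq_true hWi
    set rel := C.rels.getD idx (0, 0, 0) with hrel_def
    set W := Cert.altL rel.1 rel.2.1 (2 * rel.2.2) with hW
    have hmem : rel ∈ C.rels := by
      rw [hrel_def, List.getD_eq_getElem _ _ hidx]
      exact List.getElem_mem hidx
    have hWv : wv γ W = 1 := by rw [hW, wv_altL]; exact hrel rel hmem
    have hsplit : W = W.take pos ++ i :: W.drop (pos + 1) := by
      have h1 : W.getD pos 0 = W[pos] := List.getD_eq_getElem _ _ hpos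
      rw [← hWi', h1]
      exact (List.take_append_drop pos W).symm.trans (by rw [List.drop_eq_getElem_cons hpos])
    have hA := walk_sound C γ H ih _ _ _ hw1
    have hB := walk_sound C γ H ih _ _ _ hw2
    set T := wv γ (W.take pos) with hT
    set D := wv γ (W.drop (pos + 1)) with hD
    have hTD : T * γ i * D = 1 := by
      rw [← hWv]
      conv_rhs => rw [hsplit]
      rw [wv_append, wv_cons, ← mul_assoc]
    have hg : γ i = T⁻¹ * D⁻¹ := by
      have : γ i = T⁻¹ * (T * γ i * D) * D⁻¹ := by group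
      rw [this, hTD, mul_one]
    have key : rep C γ j * γ i * (rep C γ (C.tb j i))⁻¹ =
        (rep C γ c0 * T * (rep C γ j)⁻¹)⁻¹ * (rep C γ (C.tb j i) * D * (rep C γ c0)⁻¹)⁻¹ := by
      rw [hg]; group
    rw [key]
    exact H.mul_mem (H.inv_mem hA) (H.inv_mem hB)
  · -- symmetry
    simp only [Bool.and_eq_true, Nat.blt_eq] at h
    obtain ⟨h1, h2⟩ := h
    have hj : C.tb (C.tb j i) i = j := Nat.eq_of_beq_eq_true h1
    have hF := ih (C.tb j i) i hj' hi h2
    unfold Fact at hF
    rw [hj] at hF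
    have hinv : (γ i)⁻¹ = γ i := inv_eq_of_mul_eq_one_right (hγ i hi)
    have key : rep C γ j * γ i * (rep C γ (C.tb j i))⁻¹ =
        (rep C γ (C.tb j i) * γ i * (rep C γ j)⁻¹)⁻¹ := by
      rw [mul_inv_rev, mul_inv_rev, inv_inv, hinv, mul_assoc]
    rw [key]
    exact H.inv_mem hF
  · exact absurd h (by simp)

theorem all_facts (hC : C.check = true) :
    ∀ (r j i : ℕ), j < C.k → i < C.n → C.rk j i = r → Fact C γ H j i := by
  intro r
  induction r using Nat.strong_induction_on with
  | _ r IH =>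
    intro j i hj hi hr
    have hE : C.entryOK j i = true := by
      unfold Cert.check at hC
      simp only [Bool.and_eq_true, List.all_eq_true, List.mem_range] at hC
      exact hC.2 j hj i hi
    refine entry_sound C γ H h0 hγ hrel hsub hi ?_ hE
    intro j' i' hj' hi' hlt
    exact IH (C.rk j' i') (hr ▸ hlt) j' i' hj' hi' rfl

omit h0 hγ hrel hsub in
theorem tb_lt (hC : C.check = true) {j i : ℕ} (hj : j < C.k) (hi : i < C.n) : C.tb j i < C.k := by
  have hE : C.entryOK j i = true := by
    unfold Cert.check at hC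
    simp only [Bool.and_eq_true, List.all_eq_true, List.mem_range] at hC
    exact hC.2 j hj i hi
  unfold Cert.entryOK at hE
  simp only [Bool.and_eq_true, Nat.blt_eq] at hE
  exact hE.1

/-- every element of the group generated by the letters lies in one of the `k` cosets -/
theorem cover (hC : C.check = true) {g : Γ}
    (hg : g ∈ Subgroup.closure (γ '' Set.Iio C.n)) : ∃ j < C.k, ∃ h ∈ H, g = h * rep C γ j := by
  have hk : 0 < C.k := by
    unfold Cert.check at hC
    simp only [Bool.and_eq_true, Nat.blt_eq] at hC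
    exact hC.1.2
  have step : ∀ (x : Γ), (∃ j < C.k, ∃ h ∈ H, x = h * rep C γ j) → ∀ i < C.n,
      ∃ j < C.k, ∃ h ∈ H, x * γ i = h * rep C γ j := by
    rintro x ⟨j, hj, h, hh, rfl⟩ i hi
    refine ⟨C.tb j i, tb_lt C hC hj hi,
      h * (rep C γ j * γ i * (rep C γ (C.tb j i))⁻¹), H.mul_mem hh ?_, by group⟩
    exact all_facts C γ H h0 hγ hrel hsub hC _ j i hj hi rfl
  induction hg using Subgroup.closure_induction_right with
  | one =>
    refine ⟨0, hk, 1, H.one_mem, ?_⟩
    unfold rep; rw [h0]; simp [wv]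
  | mul_right x hx y hy ih =>
    obtain ⟨i, hi, rfl⟩ := hy
    exact step x ih i hi
  | mul_inv_cancel x hx y hy ih =>
    obtain ⟨i, hi, rfl⟩ := hy
    have hinv : (γ i)⁻¹ = γ i := inv_eq_of_mul_eq_one_right (hγ i hi)
    rw [hinv]
    exact step x ih i hi

end sound

/-- the subgroup generated by the first `m` letters -/
def K {Γ : Type*} [Group Γ] (γ : ℕ → Γ) (m : ℕ) : Subgroup Γ := Subgroup.closure (γ '' Set.Iio m)

theorem K_mono {Γ : Type*} [Group Γ] (γ : ℕ → Γ) {m m' : ℕ} (h : m ≤ m') : K γ m ≤ K γ m' :=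
  Subgroup.closure_mono (Set.image_mono (Set.Iio_subset_Iio h))

theorem mem_K {Γ : Type*} [Group Γ] (γ : ℕ → Γ) {m i : ℕ} (h : i < m) : γ i ∈ K γ m :=
  Subgroup.subset_closure ⟨i, h, rfl⟩

/-- one level of the chain -/
theorem level {Γ : Type*} [Group Γ] (C : Cert) (hC : C.check = true) (γ : ℕ → Γ) (m : ℕ)
    (hn : C.n = m + 1) (hγ : ∀ i < C.n, γ i * γ i = 1)
    (hrel : ∀ r ∈ C.rels, (γ r.1 * γ r.2.1) ^ r.2.2 = 1) (hfin : Finite (K γ m)) :
    Finite (K γ (m + 1)) ∧ Nat.card (K γ (m + 1)) ≤ C.k * Nat.card (K γ m) := by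
  have h0 : C.wd 0 = [] := by
    unfold Cert.check at hC
    simp only [Bool.and_eq_true, decide_eq_true_eq] at hC
    exact hC.1.1
  have hsub : ∀ i, i + 1 < C.n → γ i ∈ K γ m := fun i hi => mem_K γ (by omega)
  let F : Fin C.k × (K γ m) → Γ := fun p => (p.2 : Γ) * rep C γ p.1
  have hcov : ((K γ (m + 1) : Subgroup Γ) : Set Γ) ⊆ Set.range F := by
    intro g hg
    have hg' : g ∈ Subgroup.closure (γ '' Set.Iio C.n) := by rw [hn]; exact hg
    obtain ⟨j, hj, h, hh, rfl⟩ := cover C γ (K γ m) h0 hγ hrel hsub hC hg'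
    exact ⟨(⟨j, hj⟩, ⟨h, hh⟩), rfl⟩
  have hfr : (Set.range F).Finite := Set.finite_range F
  have hfinK : ((K γ (m + 1) : Subgroup Γ) : Set Γ).Finite := hfr.subset hcov
  refine ⟨hfinK.to_subtype, ?_⟩
  have h1 : Nat.card (K γ (m + 1)) = ((K γ (m + 1) : Subgroup Γ) : Set Γ).ncard := rfl
  rw [h1]
  calc ((K γ (m + 1) : Subgroup Γ) : Set Γ).ncard ≤ (Set.range F).ncard := Set.ncard_le_ncard hcov hfr
    _ ≤ Nat.card (Fin C.k × (K γ m)) := by
        rw [← Set.image_univ, ← Set.ncard_univ]
        exact Set.ncard_image_le Set.finite_univ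
    _ = C.k * Nat.card (K γ m) := by rw [Nat.card_prod, Nat.card_fin]

/-- check of a chain of certificates (levels `m + 1`, `m + 2`, …) against a matrix -/
def chainOK (ML : List (List ℕ)) : ℕ → List Cert → Bool
  | _, [] => true
  | m, C :: Cs => C.check && Nat.beq C.n (m + 1) && C.relsOK ML && chainOK ML (m + 1) Cs

theorem chain {Γ : Type*} [Group Γ] (ML : List (List ℕ)) (γ : ℕ → Γ) :
    ∀ (Cs : List Cert) (m : ℕ), chainOK ML m Cs = true →
      (∀ a b, a < m + Cs.length → b < m + Cs.length → (γ a * γ b) ^ (Cert.mat ML a b) = 1) →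
      (∀ a < m + Cs.length, γ a * γ a = 1) → Finite (K γ m) →
      Finite (K γ (m + Cs.length)) ∧
        Nat.card (K γ (m + Cs.length)) ≤ (Cs.map Cert.k).prod * Nat.card (K γ m)
  | [], m, _, _, _, hfin => by
    simp only [List.length_nil, add_zero, List.map_nil, List.prod_nil, one_mul, le_refl, and_true]
    exact hfin
  | C :: Cs, m, hok, hrel, hγ, hfin => by
    unfold chainOK at hok
    simp only [Bool.and_eq_true] at hok
    obtain ⟨⟨⟨hC, hn⟩, hR⟩, hrest⟩ := hok
    have hn' : C.n = m + 1 := Nat.eq_of_beq_eq_true hn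
    have e : m + (C :: Cs).length = (m + 1) + Cs.length := by
      simp only [List.length_cons]; omega
    rw [e] at hrel hγ ⊢
    have hlev := level C hC γ m hn' (fun i hi => hγ i (by omega)) (by
      intro r hr
      unfold Cert.relsOK at hR
      rw [List.all_eq_true] at hR
      have := hR r hr
      simp only [Bool.and_eq_true, Nat.blt_eq] at this
      obtain ⟨⟨h1, h2⟩, h3⟩ := this
      have h3' := Nat.eq_of_beq_eq_true h3
      rw [← h3']
      exact hrel _ _ (by omega) (by omega)) hfin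
    have ih := chain ML γ Cs (m + 1) hrest hrel hγ hlev.1
    refine ⟨ih.1, ih.2.trans ?_⟩
    rw [List.map_cons, List.prod_cons, mul_comm C.k, mul_assoc]
    exact Nat.mul_le_mul_left _ hlev.2

theorem chainOK_take (ML : List (List ℕ)) :
    ∀ (Cs : List Cert) (m j : ℕ), chainOK ML m Cs = true → chainOK ML m (Cs.take j) = true
  | [], _, _, _ => by simp [chainOK]
  | _ :: _, _, 0, _ => by simp [chainOK]
  | C :: Cs, m, j + 1, h => by
    rw [List.take_succ_cons]
    unfold chainOK at h ⊢
    simp only [Bool.and_eq_true] at h ⊢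
    exact ⟨h.1, chainOK_take ML Cs (m + 1) j h.2⟩

theorem card_K_zero {Γ : Type*} [Group Γ] (γ : ℕ → Γ) : Finite (K γ 0) ∧ Nat.card (K γ 0) = 1 := by
  have : K γ 0 = ⊥ := by
    unfold K
    have : Set.Iio (0 : ℕ) = ∅ := by ext x; simp
    rw [this, Set.image_empty, Subgroup.closure_empty]
  rw [this]
  exact ⟨inferInstance, Subgroup.card_bot⟩

/-- the upper bound for the whole chain -/
theorem chain_bound {Γ : Type*} [Group Γ] (ML : List (List ℕ)) (γ : ℕ → Γ) (Cs : List Cert)
    (hok : chainOK ML 0 Cs = true)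
    (hrel : ∀ a b, a < Cs.length → b < Cs.length → (γ a * γ b) ^ (Cert.mat ML a b) = 1)
    (hγ : ∀ a < Cs.length, γ a * γ a = 1) :
    Finite (K γ Cs.length) ∧ Nat.card (K γ Cs.length) ≤ (Cs.map Cert.k).prod := by
  have h := chain ML γ Cs 0 hok (by simpa using hrel) (by simpa using hγ) (card_K_zero γ).1
  rw [(card_K_zero γ).2, mul_one, zero_add] at h
  exact h

/-- finiteness of the intermediate subgroups -/
theorem chain_finite {Γ : Type*} [Group Γ] (γ : ℕ → Γ) {n : ℕ} (h : Finite (K γ n)) {m : ℕ}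
    (hm : m ≤ n) : Finite (K γ m) :=
  Finite.of_injective (Subgroup.inclusion (K_mono γ hm)) (Subgroup.inclusion_injective _)

end Cfsg.Agent.Lib.Helper3.TC
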